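/-
An orthogonal space over `E` seen over `F` through the trace: setting, Siegel elements, moves.
-/
import Cfsg.Agent.Lib.Classical.FieldExt.Gal
import Cfsg.Agent.Lib.Classical.OrthOmega
import Cfsg.Agent.Lib.Classical.OrthRoot
import Cfsg.Agent.Lib.Classical.OrthCenter
import Cfsg.Agent.Lib.Small.QuadBasis

set_option autoImplicit false
set_option linter.style.haveILetI false
set_option linter.unusedSectionVars false

namespace Cfsg.Agent.Classical.FieldExt.Orth

open Module QuadraticMap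
open Cfsg.Agent.Classical

variable {F E V : Type*} [Field F] [Field E] [Algebra F E] [Finite E] [AddCommGroup V] [Module F V] [Module E V]
  [IsScalarTower F E V] [Finite V]

/-- The trace. -/
local notation "tr" => Algebra.trace F E

/-- The isometries in the derived group. -/
def Om (Q : QuadraticForm F V) : Subgroup (V ≃ₗ[F] V) := (commutator ↥(ORefl.Iso Q)).map (ORefl.Iso Q).subtype

/-- Semilinearity over the big field. -/
def SemiE (E : Type*) {F V : Type*} [Field F] [Field E] [AddCommGroup V] [Module F V] [Module E V] (g : V ≃ₗ[F] V) :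
    Prop :=
  ∃ σ : E → E, ∀ (c : E) (v : V), g (c • v) = σ c • g v

/-- The setting: the trace of a symmetric form over the big field. -/
structure Setup (B : V →ₗ[E] V →ₗ[E] E) (Q : QuadraticForm F V) (r : ℕ) : Prop where
  symm : ∀ x y, B x y = B y x
  nd : ∀ x, (∀ y, B x y = 0) → x = 0
  two : (2 : F) ≠ 0
  polarQ : ∀ x y, polar Q x y = Algebra.trace F E (B x y)
  deg : finrank F E = r
  prime : r.Prime
  dim : 3 ≤ finrank E V
  big : finrank E V < (finrank E V - 2) * r ∨ (finrank E V = 4 ∧ r = 2 ∧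
    ∀ a c : V, a ≠ 0 → B a a = 0 → B c c = 0 → B a c = 0 → ∃ l : E, c = l • a) ∨ (finrank E V = 3 ∧ r = 3)

/-- An overgroup of the semilinear elements. -/
structure Over (E : Type*) {F V : Type*} [Field F] [Field E] [AddCommGroup V] [Module F V] [Module E V]
    (Q : QuadraticForm F V) (X : Subgroup (V ≃ₗ[F] V)) : Prop where
  semi : ∀ g, SemiE E g → g ∈ Om Q → g ∈ X
  le : X ≤ Om Q

/-- The value of the form over the big field. -/
def qE (B : V →ₗ[E] V →ₗ[E] E) (x : V) : E := B x x / 2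

/-- A hyperbolic pair over the big field. -/
structure HP (B : V →ₗ[E] V →ₗ[E] E) (a b : V) : Prop where
  aa : B a a = 0
  bb : B b b = 0
  ab : B a b = 1

variable {B : V →ₗ[E] V →ₗ[E] E} {Q : QuadraticForm F V} {r : ℕ}

section Forms

variable (S : Setup B Q r)

include S

theorem finiteF : Finite F := Finite.of_injective _ (algebraMap F E).injective

theorem two_E : (2 : E) ≠ 0 := fun h => S.two ((algebraMap F E).injective (by rw [map_ofNat, h, map_zero]))

theorem trace_surj (t : F) : ∃ c : E, tr c = t := by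
  haveI := finiteDimensional (F := F) (E := E)
  haveI := finiteF S
  exact Algebra.trace_surjective F E t

theorem eq_zero_of_tr {c : E} (h : ∀ d, tr (d * c) = 0) : c = 0 := by
  haveI := finiteDimensional (F := F) (E := E)
  haveI := finiteF S
  exact (traceForm_nondegenerate F E).2 c fun d => by rw [Algebra.traceForm_apply]; exact h d

theorem B_eq_of_tr {x y : V} {c : E} (h : ∀ d : E, tr (B (d • x) y) = tr (d * c)) : B x y = c := by
  refine sub_eq_zero.mp (eq_zero_of_tr S fun d => ?_)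
  rw [mul_sub, map_sub, ← h d, map_smul, LinearMap.smul_apply, smul_eq_mul, sub_self]

theorem pnd : OCount.PND Q := fun x h => by
  refine S.nd x fun y => eq_zero_of_tr S fun d => ?_
  rw [← smul_eq_mul, ← map_smul, ← S.polarQ]
  exact h _

theorem q_eq (x : V) : Q x = tr (qE B x) := by
  have h : (2 : F) * Q x = tr (B x x) := by
    rw [← S.polarQ, polar_self, nsmul_eq_mul, Nat.cast_ofNat]
  have h' : tr (B x x) = 2 * tr (qE B x) := by
    rw [show B x x = (2 : F) • qE B x by
      rw [Algebra.smul_def, map_ofNat, qE]; field_simp [two_E S], map_smul, smul_eq_mul]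
  exact mul_left_cancel₀ S.two (h.trans h')

theorem q_zero {x : V} (h : B x x = 0) : Q x = 0 := by rw [q_eq S, qE, h, zero_div, map_zero]

theorem qE_add (x y : V) : qE B (x + y) = qE B x + qE B y + B x y := by
  have h2 := two_E S
  simp only [qE, map_add, LinearMap.add_apply, S.symm y x]
  field_simp
  ring

theorem qE_smul (c : E) (x : V) : qE B (c • x) = c * c * qE B x := by
  simp only [qE, map_smul, LinearMap.smul_apply, smul_eq_mul]
  ring

theorem qE_zero_iff {x : V} : qE B x = 0 ↔ B x x = 0 := by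
  rw [qE, div_eq_zero_iff]
  exact or_iff_left (two_E S)

/-- Isometries of the big form are isometries. -/
theorem iso_of_B {g : V ≃ₗ[F] V} (h : ∀ x, B (g x) (g x) = B x x) : g ∈ ORefl.Iso Q := fun x => by
  rw [q_eq S, q_eq S, qE, qE, h]

theorem finrank_mul : r * finrank E V = finrank F V := by
  haveI := finiteDimensional (F := F) (E := E)
  rw [← S.deg, Module.finrank_mul_finrank]

theorem dimF : 5 ≤ finrank F V := by
  have h := finrank_mul S
  have := S.prime.two_le
  have := S.dim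
  nlinarith

theorem omega_iso {g : V ≃ₗ[F] V} (h : g ∈ Om Q) : g ∈ ORefl.Iso Q := by
  obtain ⟨y, -, rfl⟩ := h
  exact y.2

theorem omega_polar {g : V ≃ₗ[F] V} (h : g ∈ Om Q) (x y : V) : polar Q (g x) (g y) = polar Q x y :=
  ORefl.polar_iso (omega_iso S h) x y

/-- Squares of isometries lie in the derived group. -/
theorem sq_mem {g : V ≃ₗ[F] V} (hg : g ∈ ORefl.Iso Q) : g * g ∈ Om Q := by
  haveI := finiteF S
  refine ⟨⟨g, hg⟩ * ⟨g, hg⟩, ?_, rfl⟩
  rw [SetLike.mem_coe, OOmega.commutator_eq S.two (pnd S) (by have := dimF S; omega), MonoidHom.mem_ker, map_mul]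
  exact Prod.ext (Int.units_mul_self _) (Int.units_mul_self _)

/-- Isometries of odd order lie in the derived group. -/
theorem odd_mem {g : V ≃ₗ[F] V} (hg : g ∈ ORefl.Iso Q) {m : ℕ} (hm : g ^ (2 * m + 1) = 1) : g ∈ Om Q := by
  have e : g ^ (m + 1) * g ^ (m + 1) = g := by
    rw [← pow_add, show m + 1 + (m + 1) = (2 * m + 1) + 1 by ring, pow_succ, hm, one_mul]
  have := sq_mem S (pow_mem hg (m + 1))
  rwa [e] at this

theorem siegel_mem_Om {e v : V} (he : Q e = 0) (hv : polar Q e v = 0) : ORefl.siegel he hv ∈ Om Q :=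
  ⟨⟨_, ORefl.siegel_mem he hv⟩,
    OOmega.siegel_mem_commutator (pnd S) (Or.inr (by have := dimF S; omega)) he hv, rfl⟩

theorem exists_rep (φ : V →ₗ[E] E) : ∃ x, ∀ y, B x y = φ y := by
  haveI : FiniteDimensional E V := Module.Finite.of_finite
  have hinj : Function.Injective B := by
    rw [← LinearMap.ker_eq_bot, LinearMap.ker_eq_bot']
    exact fun v hv => S.nd v fun w => LinearMap.congr_fun hv w
  obtain ⟨x, hx⟩ := (LinearMap.injective_iff_surjective_of_finrank_eq_finrank (Subspace.dual_finrank_eq).symm).mp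
    hinj φ
  exact ⟨x, fun y => LinearMap.congr_fun hx y⟩

theorem exists_B_one {a : V} (ha : a ≠ 0) : ∃ d, B a d = 1 := by
  by_contra hcon
  push Not at hcon
  refine ha (S.nd a fun y => by_contra fun hy => hcon ((B a y)⁻¹ • y) ?_)
  rw [map_smul, smul_eq_mul, inv_mul_cancel₀ hy]

/-- A hyperbolic partner. -/
theorem exists_partner {a : V} (ha : a ≠ 0) (haa : B a a = 0) : ∃ b, HP B a b := by
  obtain ⟨d, hd⟩ := exists_B_one S ha
  refine ⟨d + (-(qE B d)) • a, haa, ?_, ?_⟩
  · rw [← qE_zero_iff S, qE_add S, qE_smul S, map_smul, smul_eq_mul, S.symm d a, hd,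
      show qE B a = 0 from (qE_zero_iff S).mpr haa]
    ring
  · rw [map_add, map_smul, hd, haa, smul_eq_mul, mul_zero, add_zero]

theorem HP.ne {a b : V} (h : HP B a b) : a ≠ 0 := fun e => zero_ne_one (α := E) (by
  have := h.ab; rwa [e, map_zero, LinearMap.zero_apply] at this)

theorem HP.ne' {a b : V} (h : HP B a b) : b ≠ 0 := fun e => zero_ne_one (α := E) (by
  have := h.ab; rwa [e, map_zero] at this)

theorem HP.swap {a b : V} (h : HP B a b) : HP B b a := ⟨h.bb, h.aa, by rw [S.symm, h.ab]⟩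

theorem HP.split {a b : V} (h : HP B a b) (x : V) :
    B a (x - B b x • a - B a x • b) = 0 ∧ B b (x - B b x • a - B a x • b) = 0 := by
  simp only [map_sub, map_smul, smul_eq_mul, h.aa, h.bb, h.ab, S.symm b a]
  constructor <;> ring

/-- An anisotropic vector in a complemented orthogonal space. -/
theorem aniso_of_proj {m : ℕ} (hm : m < finrank E V) (s : Fin m → V)
    (hproj : ∀ x, ∃ c : Fin m → E, ∀ i, B (s i) (x - ∑ j, c j • s j) = 0) :
    ∃ y, (∀ i, B (s i) y = 0) ∧ B y y ≠ 0 := by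
  by_contra hcon
  push Not at hcon
  have hz : ∀ x y, (∀ i, B (s i) x = 0) → (∀ i, B (s i) y = 0) → B x y = 0 := fun x y hx hy => by
    have h1 := hcon (x + y) fun i => by rw [map_add, hx, hy, add_zero]
    simp only [map_add, LinearMap.add_apply, hcon x hx, hcon y hy, S.symm y x, zero_add, add_zero] at h1
    exact (mul_eq_zero.mp ((two_mul _).trans h1)).resolve_left (two_E S)
  have h0 : ∀ x, (∀ i, B (s i) x = 0) → x = 0 := fun x hx => S.nd x fun y => by
    obtain ⟨c, hc⟩ := hproj y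
    have h := hz x _ hx hc
    rw [map_sub, map_sum] at h
    simpa [map_smul, S.symm x (s _), hx] using h
  haveI : FiniteDimensional E V := Module.Finite.of_finite
  have hle : (⊤ : Submodule E V) ≤ Submodule.span E (Set.range s) := fun x _ => by
    obtain ⟨c, hc⟩ := hproj x
    rw [sub_eq_zero.mp (h0 _ hc)]
    exact Submodule.sum_mem _ fun j _ => Submodule.smul_mem _ _ (Submodule.subset_span ⟨j, rfl⟩)
  have h1 := Submodule.finrank_mono hle
  have h2 : finrank E (Submodule.span E (Set.range s)) ≤ Fintype.card (Fin m) := finrank_range_le_card s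
  rw [finrank_top] at h1
  rw [Fintype.card_fin] at h2
  omega

/-- An anisotropic vector orthogonal to a hyperbolic pair. -/
theorem HP.exists_aniso {a b : V} (h : HP B a b) : ∃ y, B a y = 0 ∧ B b y = 0 ∧ B y y ≠ 0 := by
  obtain ⟨y, hy, hyy⟩ := aniso_of_proj S (m := 2) (by have := S.dim; omega) ![a, b] fun x => by
    obtain ⟨h1, h2⟩ := h.split S x
    refine ⟨![B b x, B a x], fun i => ?_⟩
    rw [Fin.sum_univ_two, Matrix.cons_val_zero, Matrix.cons_val_one, Matrix.cons_val_zero, Matrix.cons_val_one,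
      ← sub_sub]
    fin_cases i
    · exact h1
    · exact h2
  exact ⟨y, hy 0, hy 1, hyy⟩

/-- A second anisotropic vector. -/
theorem HP.exists_aniso_perp (h4 : 4 ≤ finrank E V) {a b y : V} (h : HP B a b) (hay : B a y = 0) (hby : B b y = 0)
    (hyy : B y y ≠ 0) : ∃ z, B a z = 0 ∧ B b z = 0 ∧ B y z = 0 ∧ B z z ≠ 0 := by
  have hba : B b a = 1 := by rw [S.symm, h.ab]
  obtain ⟨z, hz, hzz⟩ := aniso_of_proj S (m := 3) (by omega) ![a, b, y] fun x => by
    refine ⟨![B b x, B a x, B y x / B y y], fun i => ?_⟩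
    rw [Fin.sum_univ_three]
    fin_cases i <;>
      simp [h.aa, h.bb, h.ab, hba, hay, hby, S.symm y a, S.symm y b, hyy]
  exact ⟨z, hz 0, hz 1, hz 2, hzz⟩

/-- The complement of a hyperbolic pair takes every value. -/
theorem HP.exists_value (h4 : 4 ≤ finrank E V) {a b : V} (h : HP B a b) (t : E) :
    ∃ z, B a z = 0 ∧ B b z = 0 ∧ qE B z = t := by
  obtain ⟨y, hay, hby, hyy⟩ := h.exists_aniso S
  obtain ⟨z, haz, hbz, hyz, hzz⟩ := h.exists_aniso_perp S h4 hay hby hyy
  obtain ⟨s₁, s₂, hs⟩ := OOmega.exists_rep (two_E S) (mt (qE_zero_iff S).mp hyy) (mt (qE_zero_iff S).mp hzz) t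
  refine ⟨s₁ • y + s₂ • z, ?_, ?_, ?_⟩
  · rw [map_add, map_smul, map_smul, hay, haz, smul_zero, smul_zero, add_zero]
  · rw [map_add, map_smul, map_smul, hby, hbz, smul_zero, smul_zero, add_zero]
  · rw [qE_add S, qE_smul S, qE_smul S, map_smul, map_smul, LinearMap.smul_apply, hyz, smul_zero, smul_zero, ← hs]
    ring

/-- Singular vectors exist in large subspaces. -/
theorem exists_singular_in {W : Submodule E V} (h : 3 ≤ finrank E W) : ∃ x ∈ W, x ≠ 0 ∧ B x x = 0 := by
  haveI : FiniteDimensional E V := Module.Finite.of_finite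
  letI := Fintype.ofFinite E
  obtain ⟨x, hxW, hx0, hx⟩ :=
    Cfsg.Agent.Small.QuadBasis.exists_singular (LinearMap.BilinMap.toQuadraticMap B) (W := W) h
  exact ⟨x, hxW, hx0, hx⟩

theorem exists_singular_ne : ∃ a, a ≠ 0 ∧ B a a = 0 := by
  obtain ⟨x, -, hx⟩ := exists_singular_in S (W := ⊤) (by rw [finrank_top]; exact S.dim)
  exact ⟨x, hx⟩

end Forms

/-- The map of a Siegel element over the big field. -/
def uMap (B : V →ₗ[E] V →ₗ[E] E) (a y : V) : V →ₗ[E] V :=
  LinearMap.id + (LinearMap.toSpanSingleton E V y).comp (B a) -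
    (LinearMap.toSpanSingleton E V a).comp (B y + qE B y • B a)

theorem uMap_apply (a y x : V) : uMap B a y x = x + B a x • y - (B y x + qE B y * B a x) • a := rfl

theorem uMap_comp (S : Setup B Q r) {a y z : V} (ha : B a a = 0) (hy : B a y = 0) (hz : B a z = 0) (x : V) :
    uMap B a y (uMap B a z x) = uMap B a (y + z) x := by
  have hya : B y a = 0 := by rw [S.symm, hy]
  simp only [uMap_apply, qE_add S, map_add, map_sub, map_smul, LinearMap.add_apply, ha, hz, hya, smul_eq_mul]
  module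

theorem uMap_zero (a x : V) : uMap B a 0 x = x := by simp [uMap_apply, qE]

/-- A Siegel element over the big field, as an element over `F`. -/
def u (S : Setup B Q r) {a y : V} (ha : B a a = 0) (hy : B a y = 0) : V ≃ₗ[F] V :=
  LinearEquiv.ofLinearMap ((uMap B a y).restrictScalars F) ((uMap B a (-y)).restrictScalars F)
    (LinearMap.ext fun x => by
      simp only [LinearMap.comp_apply, LinearMap.coe_restrictScalars, LinearMap.id_apply]
      rw [uMap_comp S ha hy (by rw [map_neg, hy, neg_zero]), add_neg_cancel, uMap_zero])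
    (LinearMap.ext fun x => by
      simp only [LinearMap.comp_apply, LinearMap.coe_restrictScalars, LinearMap.id_apply]
      rw [uMap_comp S ha (by rw [map_neg, hy, neg_zero]) hy, neg_add_cancel, uMap_zero])

section Moves

variable (S : Setup B Q r)

include S

theorem u_apply {a y : V} (ha : B a a = 0) (hy : B a y = 0) (x : V) :
    u S ha hy x = x + B a x • y - (B y x + qE B y * B a x) • a := rfl

theorem u_smul {a y : V} (ha : B a a = 0) (hy : B a y = 0) (c : E) (x : V) :
    u S ha hy (c • x) = c • u S ha hy x := map_smul (uMap B a y) c x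

theorem u_B {a y : V} (ha : B a a = 0) (hy : B a y = 0) (x z : V) : B (u S ha hy x) (u S ha hy z) = B x z := by
  have hya : B y a = 0 := by rw [S.symm, hy]
  have hq : B y y = 2 * qE B y := by rw [qE]; field_simp [two_E S]
  simp only [u_apply, map_add, map_sub, map_smul, LinearMap.add_apply, LinearMap.sub_apply, LinearMap.smul_apply,
    smul_eq_mul, S.symm x a, S.symm z a, S.symm x y, S.symm z y, ha, hy, hya, hq]
  ring

theorem u_iso {a y : V} (ha : B a a = 0) (hy : B a y = 0) : u S ha hy ∈ ORefl.Iso Q :=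
  iso_of_B S fun x => u_B S ha hy x x

theorem u_mul {a y z : V} (ha : B a a = 0) (hy : B a y = 0) (hz : B a z = 0) :
    u S ha hy * u S ha hz = u S ha (y := y + z) (by rw [map_add, hy, hz, add_zero]) :=
  LinearEquiv.ext fun x => uMap_comp S ha hy hz x

theorem u_semi {a y : V} (ha : B a a = 0) (hy : B a y = 0) : SemiE E (u S ha hy) := ⟨id, u_smul S ha hy⟩

theorem u_mem_Om {a y : V} (ha : B a a = 0) (hy : B a y = 0) : u S ha hy ∈ Om Q := by
  have h2 : (2 : E)⁻¹ • y + (2 : E)⁻¹ • y = y := by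
    rw [← add_smul, ← two_mul, mul_inv_cancel₀ (two_E S), one_smul]
  have hh : B a ((2 : E)⁻¹ • y) = 0 := by rw [map_smul, hy, smul_zero]
  have e : u S ha hh * u S ha hh = u S ha hy := LinearEquiv.ext fun x => by
    rw [u_mul S ha hh hh, u_apply, u_apply, h2]
  exact e ▸ sq_mem S (u_iso S ha hh)

theorem u_pow {a y : V} (ha : B a a = 0) (hy : B a y = 0) (m : ℕ) :
    u S ha hy ^ m = u S ha (y := (m : E) • y) (by rw [map_smul, hy, smul_zero]) := by
  induction m with
  | zero =>
    refine LinearEquiv.ext fun x => ?_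
    rw [pow_zero, u_apply, Nat.cast_zero, zero_smul]
    simp [qE]
  | succ m ih =>
    refine LinearEquiv.ext fun x => ?_
    rw [pow_succ, ih, u_mul S ha _ hy, u_apply, u_apply, Nat.cast_succ]
    simp only [add_smul, one_smul]

theorem u_order (p : ℕ) [CharP F p] {a y : V} (ha : B a a = 0) (hy : B a y = 0) : u S ha hy ^ p = 1 := by
  haveI : CharP E p := charP_of_injective_algebraMap' F p
  refine LinearEquiv.ext fun x => ?_
  rw [u_pow, u_apply, CharP.cast_eq_zero, zero_smul]
  simp [qE]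

variable {X : Subgroup (V ≃ₗ[F] V)} (hX : Over E Q X)

include hX

theorem u_mem {a y : V} (ha : B a a = 0) (hy : B a y = 0) : u S ha hy ∈ X :=
  hX.semi _ (u_semi S ha hy) (u_mem_Om S ha hy)

omit hX in
/-- An `E`-linear isometry. -/
theorem lin_iso {g : V ≃ₗ[F] V} (h : ∀ x z, B (g x) (g z) = B x z) : g ∈ ORefl.Iso Q := iso_of_B S fun x => h x x

/-- Lines of singular vectors are moved into one another by linear isometries of the group. -/
theorem exists_move {a a' : V} (ha : a ≠ 0) (haa : B a a = 0) (ha' : a' ≠ 0) (haa' : B a' a' = 0) :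
    ∃ h ∈ X, (∀ (c : E) x, h (c • x) = c • h x) ∧ (∀ x z, B (h x) (h z) = B x z) ∧
      ∃ κ : E, κ ≠ 0 ∧ h a = κ • a' := by
  -- a singular vector seeing both
  obtain ⟨d, hdd, had, had'⟩ : ∃ d, B d d = 0 ∧ B a d ≠ 0 ∧ B a' d ≠ 0 := by
    by_cases hβ : B a a' = 0
    · obtain ⟨d₀, h1, h2⟩ : ∃ d₀, B a d₀ ≠ 0 ∧ B a' d₀ ≠ 0 := by
        obtain ⟨b₁, hb₁⟩ := exists_B_one S ha
        obtain ⟨b₂, hb₂⟩ := exists_B_one S ha'
        by_cases h : B a' b₁ = 0
        · by_cases h' : B a b₂ = 0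
          · exact ⟨b₁ + b₂, by rw [map_add, hb₁, h', add_zero]; exact one_ne_zero,
              by rw [map_add, h, hb₂, zero_add]; exact one_ne_zero⟩
          · exact ⟨b₂, h', by rw [hb₂]; exact one_ne_zero⟩
        · exact ⟨b₁, by rw [hb₁]; exact one_ne_zero, h⟩
      refine ⟨d₀ + (-(qE B d₀ / B a d₀)) • a, ?_, ?_, ?_⟩
      · rw [← qE_zero_iff S, qE_add S, qE_smul S, map_smul, smul_eq_mul, S.symm d₀ a,
          show qE B a = 0 from (qE_zero_iff S).mpr haa]
        field_simp
        ring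
      · rw [map_add, map_smul, haa, smul_zero, add_zero]; exact h1
      · rw [map_add, map_smul, S.symm a' a, hβ, smul_zero, add_zero]; exact h2
    · obtain ⟨a'', ha''⟩ : ∃ a'', a'' = (B a a')⁻¹ • a' := ⟨_, rfl⟩
      have hp : HP B a a'' := ⟨haa, by rw [ha'', map_smul, map_smul, LinearMap.smul_apply, haa', smul_zero, smul_zero],
        by rw [ha'', map_smul, smul_eq_mul, inv_mul_cancel₀ hβ]⟩
      obtain ⟨y, hya, hyb, hyy⟩ := hp.exists_aniso S
      have hqy : qE B y ≠ 0 := fun e => hyy ((qE_zero_iff S).mp e)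
      refine ⟨(-qE B y) • a + a'' + y, ?_, ?_, ?_⟩
      · rw [← qE_zero_iff S, qE_add S, qE_add S, qE_smul S,
          show qE B a = 0 from (qE_zero_iff S).mpr haa, show qE B a'' = 0 from (qE_zero_iff S).mpr hp.bb]
        simp [hp.ab, hya, hyb]
      · rw [map_add, map_add, map_smul, haa, hp.ab, hya, smul_zero, zero_add, add_zero]; exact one_ne_zero
      · have e : B a' a'' = 0 := by rw [ha'', map_smul, haa', smul_zero]
        have e2 : B a' y = 0 := by
          have := hyb
          rw [ha'', map_smul, LinearMap.smul_apply, smul_eq_mul, mul_eq_zero] at this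
          exact this.resolve_left (inv_ne_zero hβ)
        rw [map_add, map_add, map_smul, smul_eq_mul, S.symm a' a, e, e2, add_zero, add_zero]
        exact mul_ne_zero (neg_ne_zero.mpr hqy) hβ
  obtain ⟨a₁, ha₁⟩ : ∃ a₁, a₁ = (B a d)⁻¹ • a := ⟨_, rfl⟩
  obtain ⟨a₂, ha₂⟩ : ∃ a₂, a₂ = (B a' d)⁻¹ • a' := ⟨_, rfl⟩
  have h1d : B d a₁ = 1 := by rw [ha₁, map_smul, smul_eq_mul, S.symm d a, inv_mul_cancel₀ had]
  have h2d : B d a₂ = 1 := by rw [ha₂, map_smul, smul_eq_mul, S.symm d a', inv_mul_cancel₀ had']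
  have hdy : B d (a₂ - a₁) = 0 := by rw [map_sub, h1d, h2d, sub_self]
  have h11 : B a₁ a₁ = 0 := by rw [ha₁, map_smul, map_smul, LinearMap.smul_apply, haa, smul_zero, smul_zero]
  have h22 : B a₂ a₂ = 0 := by rw [ha₂, map_smul, map_smul, LinearMap.smul_apply, haa', smul_zero, smul_zero]
  refine ⟨u S hdd hdy, u_mem S hX hdd hdy, u_smul S hdd hdy, u_B S hdd hdy,
    B a d * (B a' d)⁻¹, mul_ne_zero had (inv_ne_zero had'), ?_⟩
  have hmove : u S hdd hdy a₁ = a₂ := by
    have hcoef : B (a₂ - a₁) a₁ + qE B (a₂ - a₁) * B d a₁ = 0 := by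
      have h2 := two_E S
      simp only [qE, map_sub, LinearMap.sub_apply, h11, h22, h1d, S.symm a₁ a₂]
      field_simp
      ring
    rw [u_apply, hcoef, zero_smul, sub_zero, h1d, one_smul, add_sub_cancel]
  have e : a = B a d • a₁ := by rw [ha₁, smul_smul, mul_inv_cancel₀ had, one_smul]
  nth_rewrite 1 [e]
  rw [u_smul, hmove, ha₂, smul_smul]

/-- Exact moves between singular vectors. -/
theorem exists_move_eq (h4 : 4 ≤ finrank E V) {a a' : V} (ha : a ≠ 0) (haa : B a a = 0) (ha' : a' ≠ 0)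
    (haa' : B a' a' = 0) :
    ∃ h ∈ X, (∀ (c : E) x, h (c • x) = c • h x) ∧ (∀ x z, B (h x) (h z) = B x z) ∧ h a = a' := by
  obtain ⟨h₀, hh₀, hlin₀, hB₀, κ, hκ, h₀a⟩ := exists_move S hX ha haa ha' haa'
  obtain ⟨b, hp⟩ := exists_partner S ha' haa'
  -- scaling of a vector
  have step : ∀ ν : E, ν ≠ 0 → ∃ h ∈ X, (∀ (c : E) x, h (c • x) = c • h x) ∧ (∀ x z, B (h x) (h z) = B x z) ∧
      h a' = ν • b := by
    intro ν hν
    obtain ⟨y, hay, hby, hy⟩ := hp.exists_value S h4 (-ν)
    have hba : B b a' = 1 := by rw [S.symm, hp.ab]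
    have hdd : B (a' + ν • b + y) (a' + ν • b + y) = 0 := by
      rw [← qE_zero_iff S, qE_add S, qE_add S, qE_smul S, hy, show qE B a' = 0 from (qE_zero_iff S).mpr hp.aa,
        show qE B b = 0 from (qE_zero_iff S).mpr hp.bb]
      simp [hp.ab, hay, hby]
    have hd₁ : B (a' + ν • b + y) a' = ν := by
      simp [hp.aa, hba, S.symm y a', hay]
    have hd₂ : B (a' + ν • b + y) b = 1 := by
      simp [hp.bb, hp.ab, S.symm y b, hby]
    obtain ⟨v, hv⟩ : ∃ v, v = b - ν⁻¹ • a' := ⟨_, rfl⟩
    have hdv : B (a' + ν • b + y) v = 0 := by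
      rw [hv, map_sub, map_smul, hd₁, hd₂, smul_eq_mul, inv_mul_cancel₀ hν, sub_self]
    refine ⟨u S hdd hdv, u_mem S hX hdd hdv, u_smul S hdd hdv, u_B S hdd hdv, ?_⟩
    have hqv : qE B v = -ν⁻¹ := by
      rw [hv, sub_eq_add_neg, ← neg_smul, qE_add S, qE_smul S, show qE B a' = 0 from (qE_zero_iff S).mpr hp.aa,
        show qE B b = 0 from (qE_zero_iff S).mpr hp.bb, map_smul, hba]
      simp
    have hva : B v a' = 1 := by rw [hv]; simp [hba, hp.aa]
    rw [u_apply, hd₁, hva, hqv, show (1 : E) + -ν⁻¹ * ν = 0 by field_simp; ring, zero_smul, sub_zero, hv, smul_sub,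
      smul_smul, mul_inv_cancel₀ hν, one_smul]
    abel
  obtain ⟨h₁, hh₁, hlin₁, hB₁, h₁a⟩ := step 1 one_ne_zero
  obtain ⟨h₂, hh₂, hlin₂, hB₂, h₂a⟩ := step κ⁻¹ (inv_ne_zero hκ)
  have hsymm_lin : ∀ (c : E) x, h₁⁻¹ (c • x) = c • h₁⁻¹ x := fun c x => by
    apply h₁.injective
    rw [hlin₁]
    simp only [LinearEquiv.coe_inv, LinearEquiv.apply_symm_apply]
  refine ⟨h₁⁻¹ * h₂ * h₀, X.mul_mem (X.mul_mem (X.inv_mem hh₁) hh₂) hh₀, fun c x => ?_, fun x z => ?_, ?_⟩
  · simp only [LinearEquiv.mul_apply, hlin₀, hlin₂, hsymm_lin]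
  · simp only [LinearEquiv.mul_apply]
    rw [← hB₁ (h₁⁻¹ (h₂ (h₀ x))) (h₁⁻¹ (h₂ (h₀ z)))]
    simp only [LinearEquiv.coe_inv, LinearEquiv.apply_symm_apply, hB₂, hB₀]
  · simp only [LinearEquiv.mul_apply, h₀a, hlin₂, h₂a, smul_smul, mul_inv_cancel₀ hκ, one_smul]
    rw [LinearEquiv.coe_inv, LinearEquiv.symm_apply_eq, h₁a, one_smul]

end Moves

end Cfsg.Agent.Classical.FieldExt.Orth
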