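/-
Elements fixing a hyperplane over the big field pointwise, and root elements over the small field, in an overgroup.
-/
import Cfsg.Agent.Lib.Classical.FieldExt.Orth.Basic

set_option autoImplicit false
set_option linter.style.haveILetI false
set_option linter.unusedSectionVars false

namespace Cfsg.Agent.Classical.FieldExt.Orth

open Module QuadraticMap
open Cfsg.Agent.Classical

variable {F E V : Type*} [Field F] [Field E] [Algebra F E] [Finite E] [AddCommGroup V] [Module F V] [Module E V]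
  [IsScalarTower F E V] [Finite V]

/-- The trace. -/
local notation "tr" => Algebra.trace F E

/-- Alternating for the trace form. -/
def IsAlt (c : E →ₗ[F] E) : Prop := ∀ s, tr (c s * s) = 0

theorem IsAlt.skew {c : E →ₗ[F] E} (h : IsAlt c) (s t : E) : tr (c s * t) = -tr (s * c t) := by
  have := h (s + t)
  rw [map_add, add_mul, mul_add, mul_add, map_add, map_add, map_add, h, h, zero_add, add_zero] at this
  rw [mul_comm s (c t)]
  exact eq_neg_of_add_eq_zero_left this

/-- The group has the element moving the complement of the perp of `a` along `a` by `c`. -/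
def ZX (B : V →ₗ[E] V →ₗ[E] E) (X : Subgroup (V ≃ₗ[F] V)) (a : V) (c : E →ₗ[F] E) : Prop :=
  ∃ g ∈ X, ∀ x, g x = x + c (B a x) • a

/-- The group has a root element over the small field. -/
def InX (Q : QuadraticForm F V) (X : Subgroup (V ≃ₗ[F] V)) (e v : V) : Prop :=
  ∃ g ∈ X, ∀ x, g x = ORefl.siegelMap Q e v x

variable {B : V →ₗ[E] V →ₗ[E] E} {Q : QuadraticForm F V} {r : ℕ} {X : Subgroup (V ≃ₗ[F] V)}

section InX

theorem InX.add {e v w : V} (he : Q e = 0) (hv : polar Q e v = 0) (hw : polar Q e w = 0) (h : InX Q X e v)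
    (h' : InX Q X e w) : InX Q X e (v + w) := by
  obtain ⟨g, hg, hg'⟩ := h
  obtain ⟨k, hk, hk'⟩ := h'
  exact ⟨g * k, X.mul_mem hg hk, fun x => by rw [LinearEquiv.mul_apply, hk', hg', ORefl.siegelMap_add he hv hw]⟩

theorem InX.zero (e : V) : InX Q X e 0 :=
  ⟨1, X.one_mem, fun x => (ORefl.siegelMap_zero e x).symm⟩

theorem InX.neg {e v : V} (he : Q e = 0) (hv : polar Q e v = 0) (h : InX Q X e v) : InX Q X e (-v) := by
  obtain ⟨g, hg, hg'⟩ := h
  refine ⟨g⁻¹, X.inv_mem hg, fun x => g.injective ?_⟩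
  rw [LinearEquiv.coe_inv, LinearEquiv.apply_symm_apply, hg',
    ORefl.siegelMap_add he hv (by rw [polar_neg_right, hv, neg_zero]), add_neg_cancel, ORefl.siegelMap_zero]

theorem InX.sub {e v w : V} (he : Q e = 0) (hv : polar Q e v = 0) (hw : polar Q e w = 0) (h : InX Q X e v)
    (h' : InX Q X e w) : InX Q X e (v - w) := by
  rw [sub_eq_add_neg]
  exact h.add he hv (by rw [polar_neg_right, hw, neg_zero]) (h'.neg he hw)

theorem InX.smul_left {e v : V} (t : F) (h : InX Q X (t • e) v) : InX Q X e (t • v) := by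
  obtain ⟨g, hg, hg'⟩ := h
  refine ⟨g, hg, fun x => ?_⟩
  rw [hg', ORefl.siegelMap_apply, ORefl.siegelMap_apply]
  simp only [polar_smul_left, QuadraticMap.map_smul, smul_eq_mul]
  module

theorem InX.swap {e v : V} (he : Q e = 0) (hv0 : Q v = 0) (hv : polar Q e v = 0) (h : InX Q X e v) :
    InX Q X v (-e) := by
  obtain ⟨g, hg, hg'⟩ := h
  refine ⟨g, hg, fun x => ?_⟩
  rw [hg', ORefl.siegelMap_apply, ORefl.siegelMap_apply, hv0, QuadraticMap.map_neg, he, polar_neg_left]
  simp
  abel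

theorem InX.shift {e v : V} (he : Q e = 0) (hv : polar Q e v = 0) (t : F) (h : InX Q X e v) :
    InX Q X e (v + t • e) := by
  obtain ⟨g, hg, hg'⟩ := h
  refine ⟨g, hg, fun x => ?_⟩
  rw [hg', ORefl.siegelMap_apply, ORefl.siegelMap_apply, QuadraticMap.map_add Q, QuadraticMap.map_smul,
    polar_smul_right, polar_comm Q v e, hv, he, polar_add_left, polar_smul_left, polar_comm Q e x]
  simp only [smul_eq_mul, mul_zero, add_zero]
  module

theorem InX.conj {e v : V} {g : V ≃ₗ[F] V} (hg : g ∈ X) (hgi : g ∈ ORefl.Iso Q) (h : InX Q X e v) :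
    InX Q X (g e) (g v) := by
  obtain ⟨k, hk, hk'⟩ := h
  refine ⟨g * k * g⁻¹, X.mul_mem (X.mul_mem hg hk) (X.inv_mem hg), fun x => ?_⟩
  obtain ⟨y, rfl⟩ := g.surjective x
  rw [LinearEquiv.mul_apply, LinearEquiv.mul_apply, LinearEquiv.coe_inv, LinearEquiv.symm_apply_apply, hk',
    ORefl.siegelMap_apply, ORefl.siegelMap_apply, map_sub, map_add, map_smul, map_smul, ORefl.polar_iso hgi,
    ORefl.polar_iso hgi, hgi]

/-- Conjugating one root element by another produces a third one. -/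
theorem InX.trick (hXi : ∀ g ∈ X, g ∈ ORefl.Iso Q) {e v f w : V} (hf : Q f = 0) (hfw : polar Q f w = 0)
    (hef : polar Q e f = 0) (hew : polar Q e w = 0) (hvf : polar Q v f = 0) (h : InX Q X e v) (h' : InX Q X f w) :
    InX Q X f (-(polar Q v w) • e) := by
  obtain ⟨g, hg, hg'⟩ := h
  have e1 : g f = f := by
    rw [hg', ORefl.siegelMap_apply, hef, hvf]
    simp
  have e2 : g w = w + -(polar Q v w) • e := by
    rw [hg', ORefl.siegelMap_apply, hew, mul_zero, add_zero, zero_smul, add_zero, sub_eq_add_neg, neg_smul]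
  have hgi := hXi g hg
  have h1 := h'.conj hg hgi
  rw [e1] at h1
  have hfg : polar Q f (g w) = 0 := by
    conv_lhs => rw [← e1]
    rw [ORefl.polar_iso hgi, hfw]
  have h2 := h1.sub hf hfg hfw h'
  rwa [e2, add_sub_cancel_left] at h2

end InX

section Line

variable (S : Setup B Q r)

include S

theorem B_zero_of_polar {x z : V} (h : ∀ d : E, polar Q (d • z) x = 0) : B z x = 0 :=
  B_eq_of_tr S fun d => by rw [mul_zero, map_zero, ← S.polarQ, h]

theorem polar_smul (s t : E) (x y : V) : polar Q (s • x) (t • y) = tr (s * t * B x y) := by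
  rw [S.polarQ, (B (s • x)).map_smul, B.map_smul, LinearMap.smul_apply, smul_eq_mul, smul_eq_mul]
  congr 1
  ring

/-- The perp of the perp of a singular vector is its line. -/
theorem HP.mem_line {a b : V} (h : HP B a b) {x : V} (hx : ∀ z, B a z = 0 → B z x = 0) : x = B b x • a := by
  refine sub_eq_zero.mp (S.nd _ fun z => ?_)
  have e := hx (z - B a z • b) (by rw [map_sub, map_smul, h.ab, smul_eq_mul, mul_one, sub_self])
  rw [map_sub, LinearMap.sub_apply, map_smul, LinearMap.smul_apply, smul_eq_mul] at e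
  rw [map_sub, LinearMap.sub_apply, map_smul, LinearMap.smul_apply, smul_eq_mul, S.symm x z]
  linear_combination e

theorem HP.mem_line_polar {a b : V} (h : HP B a b) {x : V} (hx : ∀ z, B a z = 0 → polar Q z x = 0) :
    x = B b x • a :=
  h.mem_line S fun z hz => B_zero_of_polar S fun d => hx _ (by rw [map_smul, hz, smul_zero])

theorem polar_line {a : V} (ha : B a a = 0) (s t : E) : polar Q (s • a) (t • a) = 0 := by
  rw [polar_smul S, ha, mul_zero, map_zero]

theorem q_line {a : V} (ha : B a a = 0) (s : E) : Q (s • a) = 0 :=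
  q_zero S (by rw [map_smul, map_smul, LinearMap.smul_apply, ha, smul_zero, smul_zero])

theorem zx_iso {a : V} (ha : B a a = 0) {c : E →ₗ[F] E} (hc : IsAlt c) (x : V) : Q (x + c (B a x) • a) = Q x := by
  rw [QuadraticMap.map_add Q, q_line S ha, S.polarQ, map_smul, smul_eq_mul, S.symm x a, hc, add_zero, add_zero]

/-- An isometry fixing the perp of a singular vector pointwise moves its complement along the vector. -/
theorem fix_perp {g : V ≃ₗ[F] V} (hg : g ∈ ORefl.Iso Q) {a b : V} (h : HP B a b) (hfix : ∀ x, B a x = 0 → g x = x) :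
    ∃ c : E →ₗ[F] E, IsAlt c ∧ ∀ x, g x = x + c (B a x) • a := by
  obtain ⟨c, hc⟩ : ∃ c : E →ₗ[F] E, ∀ t : E, c t = B b (g (t • b) - t • b) :=
    ⟨((B b).restrictScalars F).comp ((g.toLinearMap - LinearMap.id).comp
      ((LinearMap.toSpanSingleton E V b).restrictScalars F)), fun t => rfl⟩
  have key : ∀ t : E, g (t • b) = t • b + c t • a := fun t => by
    have e := h.mem_line_polar S (x := g (t • b) - t • b) fun z hz => by
      rw [polar_sub_right]
      nth_rewrite 1 [← hfix z hz]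
      rw [ORefl.polar_iso hg, sub_self]
    rw [← hc] at e
    rw [← e, add_sub_cancel]
  have hall : ∀ x, g x = x + c (B a x) • a := fun x => by
    have hz : B a (x - B a x • b) = 0 := by rw [map_sub, map_smul, h.ab, smul_eq_mul, mul_one, sub_self]
    nth_rewrite 1 [show x = (x - B a x • b) + B a x • b by abel]
    rw [map_add, hfix _ hz, key]
    abel
  refine ⟨c, fun s => ?_, hall⟩
  have e := hg (s • b)
  rw [key, QuadraticMap.map_add Q, q_line S h.aa, q_line S h.bb, S.polarQ,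
    (B (s • b)).map_smul, B.map_smul, LinearMap.smul_apply,
    S.symm b a, h.ab, smul_eq_mul, smul_eq_mul, mul_one, zero_add, zero_add] at e
  exact e

end Line

/-- Enough moves: the maps at singular vectors are the same, and the lines over `F` form one orbit. -/
structure Trans (B : V →ₗ[E] V →ₗ[E] E) (X : Subgroup (V ≃ₗ[F] V)) : Prop where
  zx : ∀ {a a' : V}, a ≠ 0 → B a a = 0 → a' ≠ 0 → B a' a' = 0 → ∀ {c : E →ₗ[F] E}, ZX B X a c → ZX B X a' c
  move : ∀ {a a' : V}, a ≠ 0 → B a a = 0 → a' ≠ 0 → B a' a' = 0 → ∃ k ∈ X, ∃ t : F, t ≠ 0 ∧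
    (∀ (c : E) x, k (c • x) = c • k x) ∧ (∀ x z, B (k x) (k z) = B x z) ∧ k a = t • a'

/-- The maps that occur at every singular vector. -/
def Lam (B : V →ₗ[E] V →ₗ[E] E) (X : Subgroup (V ≃ₗ[F] V)) : AddSubgroup (E →ₗ[F] E) where
  carrier := {c | IsAlt c ∧ ∀ a, a ≠ 0 → B a a = 0 → ZX B X a c}
  zero_mem' := ⟨fun s => by simp, fun a _ _ => ⟨1, X.one_mem, fun x => by simp⟩⟩
  add_mem' := fun {c d} hc hd => ⟨fun s => by simp [add_mul, hc.1 s, hd.1 s], fun a ha haa => by
    obtain ⟨g, hg, hg'⟩ := hc.2 a ha haa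
    obtain ⟨k, hk, hk'⟩ := hd.2 a ha haa
    refine ⟨g * k, X.mul_mem hg hk, fun x => ?_⟩
    rw [LinearEquiv.mul_apply, hk', hg', map_add, map_smul, haa]
    simp [add_smul]
    abel⟩
  neg_mem' := fun {c} hc => ⟨fun s => by simp [hc.1 s], fun a ha haa => by
    obtain ⟨g, hg, hg'⟩ := hc.2 a ha haa
    refine ⟨g⁻¹, X.inv_mem hg, fun x => g.injective ?_⟩
    rw [LinearEquiv.coe_inv, LinearEquiv.apply_symm_apply, hg', map_add, map_smul, haa]
    simp⟩

theorem mem_Lam {c : E →ₗ[F] E} : c ∈ Lam B X ↔ IsAlt c ∧ ∀ a, a ≠ 0 → B a a = 0 → ZX B X a c := Iff.rfl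

section Lambda

variable (S : Setup B Q r) (hX : Over E Q X)

include S hX

theorem mem_iso {g : V ≃ₗ[F] V} (hg : g ∈ X) : g ∈ ORefl.Iso Q := omega_iso S (hX.le hg)

/-- Transport by an exact move. -/
theorem zx_move (h4 : 4 ≤ finrank E V) {a a' : V} (ha : a ≠ 0) (haa : B a a = 0) (ha' : a' ≠ 0) (haa' : B a' a' = 0)
    {c : E →ₗ[F] E} (h : ZX B X a c) : ZX B X a' c := by
  obtain ⟨k, hk, hlin, hB, hka⟩ := exists_move_eq S hX h4 ha haa ha' haa'
  obtain ⟨g, hg, hg'⟩ := h
  refine ⟨k * g * k⁻¹, X.mul_mem (X.mul_mem hk hg) (X.inv_mem hk), fun x => ?_⟩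
  obtain ⟨y, rfl⟩ := k.surjective x
  rw [LinearEquiv.mul_apply, LinearEquiv.mul_apply, LinearEquiv.coe_inv, LinearEquiv.symm_apply_apply, hg', map_add,
    hlin, ← hka, hB]

/-- A vanishing of `Q` on a line. -/
theorem polar_self_line {a : V} (haa : B a a = 0) (θ : E) : polar Q a (θ • a) = 0 := by
  rw [S.polarQ, map_smul, haa, smul_zero, map_zero]

theorem zx_scale {a : V} {c : E →ₗ[F] E} (κ : E) (h : ZX B X (κ • a) c) :
    ZX B X a ((mulE κ).comp (c.comp (mulE κ))) := by
  obtain ⟨g, hg, hg'⟩ := h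
  refine ⟨g, hg, fun x => ?_⟩
  rw [hg', map_smul, LinearMap.smul_apply, smul_eq_mul, smul_smul]
  simp only [LinearMap.comp_apply, mulE_apply]
  rw [mul_comm (c (κ * B a x)) κ]

theorem trans_of_four (h4 : 4 ≤ finrank E V) : Trans B X := by
  refine ⟨fun ha haa ha' haa' => fun h => zx_move S hX h4 ha haa ha' haa' h, fun {a a'} ha haa ha' haa' => ?_⟩
  obtain ⟨k, hk, hlin, hB, hka⟩ := exists_move_eq S hX h4 ha haa ha' haa'
  exact ⟨k, hk, 1, one_ne_zero, hlin, hB, by rw [hka, one_smul]⟩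

theorem Lam_of_zx (hT : Trans B X) {a : V} (ha : a ≠ 0) (haa : B a a = 0) {c : E →ₗ[F] E} (hc : IsAlt c)
    (h : ZX B X a c) : c ∈ Lam B X :=
  ⟨hc, fun _ ha' haa' => hT.zx ha haa ha' haa' h⟩

theorem Lam_congr (κ : E) {c : E →ₗ[F] E} (hc : c ∈ Lam B X) : (mulE κ).comp (c.comp (mulE κ)) ∈ Lam B X := by
  refine ⟨fun s => ?_, fun a ha haa => ?_⟩
  · simp only [LinearMap.comp_apply, mulE_apply]
    rw [mul_comm κ (c (κ * s)), mul_assoc]
    exact hc.1 (κ * s)
  by_cases hκ : κ = 0
  · subst hκ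
    exact ⟨1, X.one_mem, fun x => by simp [mulE_apply]⟩
  exact zx_scale S hX κ (hc.2 _ (smul_ne_zero hκ ha)
    (by rw [map_smul, map_smul, LinearMap.smul_apply, haa, smul_zero, smul_zero]))

end Lambda

end Cfsg.Agent.Classical.FieldExt.Orth
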