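/-
Alternating maps of `E/F` for the trace form, and the groups of them stable under congruence by `E`.
-/
import Cfsg.Agent.Lib.Classical.FieldExt.Symp.Sym
import Cfsg.Agent.Lib.Classical.FieldExt.Orth.Root

set_option autoImplicit false
set_option linter.style.haveILetI false
set_option linter.unusedSectionVars false

namespace Cfsg.Agent.Classical.FieldExt.Orth

open Module
open Cfsg.Agent.Classical Cfsg.Agent.Classical.FieldExt
open Cfsg.Agent.Classical.FieldExt.Symp (IsCoef IsAdj coef_unique gal_sum_eq_zero coef_adj coef_mulE coef_comp tr_sum)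

variable {F E : Type*} [Field F] [Field E] [Algebra F E]

/-- The trace. -/
local notation "tr" => Algebra.trace F E

theorem tr_gal (σ : E ≃ₐ[F] E) (x : E) : tr (σ x) = tr x := Algebra.trace_eq_of_algEquiv σ x

/-- The root alternating map of two elements. -/
noncomputable def rootMap (α β : E) : E →ₗ[F] E :=
  LinearMap.smulRight ((Algebra.trace F E).comp (mulE α)) β - LinearMap.smulRight ((Algebra.trace F E).comp (mulE β)) α

theorem rootMap_apply (α β x : E) : rootMap (F := F) α β x = tr (α * x) • β - tr (β * x) • α := rfl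

theorem isAlt_rootMap (α β : E) : IsAlt (rootMap (F := F) α β) := fun s => by
  rw [rootMap_apply, sub_mul, smul_mul_assoc, smul_mul_assoc, map_sub, map_smul, map_smul, smul_eq_mul, smul_eq_mul]
  ring

/-- The alternating homogeneous map. -/
def altMap (σ : E ≃ₐ[F] E) (t : E) : E →ₗ[F] E :=
  (mulE t).comp (galMap σ) - (galMap σ⁻¹).comp (mulE t)

theorem altMap_apply (σ : E ≃ₐ[F] E) (t x : E) : altMap σ t x = t * σ x - σ⁻¹ (t * x) := rfl

theorem isAlt_altMap (σ : E ≃ₐ[F] E) (t : E) : IsAlt (altMap σ t) := fun s => by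
  have h : tr (σ⁻¹ (t * s) * s) = tr (t * σ s * s) := by
    rw [← tr_gal σ (σ⁻¹ (t * s) * s), map_mul σ, show σ (σ⁻¹ (t * s)) = t * s from σ.apply_symm_apply _]
    congr 1; ring
  rw [altMap_apply, sub_mul, map_sub, h, sub_self]

theorem altMap_inv (σ : E ≃ₐ[F] E) (t : E) : altMap σ⁻¹ t = altMap σ (-σ t) := LinearMap.ext fun x => by
  rw [altMap_apply, altMap_apply, inv_inv, neg_mul, neg_mul, map_neg, map_mul σ⁻¹ (σ t), map_mul σ t,
    show σ⁻¹ (σ t) = t from σ.symm_apply_apply _]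
  ring

theorem altMap_one (t : E) : altMap (1 : E ≃ₐ[F] E) t = 0 := LinearMap.ext fun x => by
  rw [altMap_apply, inv_one, AlgEquiv.one_apply, AlgEquiv.one_apply, sub_self, LinearMap.zero_apply]

/-- An additive group of alternating maps stable under congruence. -/
structure IsAltCongr (M : AddSubgroup (E →ₗ[F] E)) : Prop where
  alt : ∀ A ∈ M, IsAlt A
  congr : ∀ c, ∀ A ∈ M, (mulE c).comp (A.comp (mulE c)) ∈ M

variable [Finite E] {r : ℕ}

theorem IsAlt.isAdj {c : E →ₗ[F] E} (h : IsAlt c) : IsAdj c (-c) := fun s t => by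
  rw [LinearMap.neg_apply, mul_neg, map_neg]
  exact h.skew s t

theorem IsAltCongr.smul_mem {M : AddSubgroup (E →ₗ[F] E)} (hM : IsAltCongr M) (h2 : (2 : F) ≠ 0) (a : F)
    {A : E →ₗ[F] E} (hA : A ∈ M) : a • A ∈ M := by
  haveI : Finite F := Finite.of_injective _ (algebraMap F E).injective
  have hsq : ∀ b : F, (b * b) • A ∈ M := fun b => by
    have e : (b * b) • A = (mulE (algebraMap F E b)).comp (A.comp (mulE (algebraMap F E b))) :=
      LinearMap.ext fun x => by
        simp only [LinearMap.comp_apply, mulE_apply, LinearMap.smul_apply, ← Algebra.smul_def, map_smul, smul_smul]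
    rw [e]
    exact hM.congr _ _ hA
  obtain ⟨p, hchar⟩ := CharP.exists F
  haveI hp : Fact p.Prime := ⟨CharP.char_is_prime F p⟩
  obtain ⟨k, hk⟩ : ∃ k : ℕ, 2 * (k : F) = 1 := by
    refine ⟨(p + 1) / 2, ?_⟩
    have hodd : p % 2 = 1 := by
      rcases hp.out.eq_two_or_odd with h | h
      · subst h
        exact absurd (CharP.cast_eq_zero F 2) (by simpa using h2)
      · exact h
    have e : 2 * ((p + 1) / 2) = p + 1 := by omega
    have := congrArg (Nat.cast (R := F)) e
    simpa [CharP.cast_eq_zero] using this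
  have e : a • A = k • (((a + 1) * (a + 1)) • A - (a * a) • A - (1 * 1 : F) • A) := by
    rw [← Nat.cast_smul_eq_nsmul F]
    refine LinearMap.ext fun x => ?_
    simp only [LinearMap.smul_apply, LinearMap.sub_apply, ← sub_smul, smul_smul]
    congr 1
    linear_combination (-a) * hk
  rw [e]
  exact nsmul_mem (sub_mem (sub_mem (hsq _) (hsq _)) (hsq _)) _

theorem exists_dual_elt (φ : Module.Dual F E) : ∃ b : E, ∀ x, tr (b * x) = φ x := by
  haveI := finiteDimensional (F := F) (E := E)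
  haveI : Finite F := Finite.of_injective _ (algebraMap F E).injective
  refine ⟨(LinearMap.BilinForm.toDual (Algebra.traceForm F E) (traceForm_nondegenerate F E)).symm φ, fun x => ?_⟩
  have h := LinearMap.BilinForm.apply_toDual_symm_apply (hB := traceForm_nondegenerate F E) φ x
  rwa [Algebra.traceForm_apply] at h

theorem eq_zero_of_tr_mul {x : E} (h : ∀ s, tr (x * s) = 0) : x = 0 := by
  haveI := finiteDimensional (F := F) (E := E)
  haveI : Finite F := Finite.of_injective _ (algebraMap F E).injective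
  exact (traceForm_nondegenerate F E).1 x fun d => by rw [Algebra.traceForm_apply]; exact h d

variable (hr : Module.finrank F E = r) (hp : r.Prime)

include hr

/-- In rank at most three every alternating map is a root map. -/
theorem exists_root_of_small (h3 : r ≤ 3) {c : E →ₗ[F] E} (hc : IsAlt c) (h0 : c ≠ 0) :
    ∃ α β : E, c = rootMap α β ∧ α ≠ 0 ∧ ∀ t : F, β ≠ t • α := by
  haveI := finiteDimensional (F := F) (E := E)
  obtain ⟨t₁, ht₁⟩ : ∃ t, c t ≠ 0 := by
    by_contra hcon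
    push Not at hcon
    exact h0 (LinearMap.ext hcon)
  obtain ⟨t₂', ht₂'⟩ : ∃ t, tr (c t₁ * t) ≠ 0 := by
    by_contra hcon
    push Not at hcon
    exact ht₁ (eq_zero_of_tr_mul (F := F) hcon)
  obtain ⟨t₂, h12⟩ : ∃ t₂, tr (c t₁ * t₂) = 1 :=
    ⟨(tr (c t₁ * t₂'))⁻¹ • t₂', by rw [mul_smul_comm, map_smul, smul_eq_mul, inv_mul_cancel₀ ht₂']⟩
  have h21 : tr (c t₂ * t₁) = -1 := by rw [hc.skew, mul_comm, h12]
  have h22 := hc t₂
  have h11 := hc t₁
  obtain ⟨d, hd⟩ : ∃ d, d = c - rootMap (c t₁) (c t₂) := ⟨_, rfl⟩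
  have hdalt : IsAlt d := fun s => by
    rw [hd, LinearMap.sub_apply, sub_mul, map_sub, hc, isAlt_rootMap, sub_zero]
  have hd1 : d t₁ = 0 := by
    rw [hd, LinearMap.sub_apply, rootMap_apply, h11, h21]
    simp
  have hd2 : d t₂ = 0 := by
    rw [hd, LinearMap.sub_apply, rootMap_apply, h12, h22]
    simp
  have hli : LinearIndependent F ![t₁, t₂] := by
    rw [LinearIndependent.pair_iff]
    intro s t hst
    have e := congrArg (fun z => tr (c t₁ * z)) hst
    simp only [mul_add, mul_smul_comm, map_add, map_smul, mul_zero, map_zero, smul_eq_mul, h11, h12] at e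
    have e' := congrArg (fun z => tr (c t₂ * z)) hst
    simp only [mul_add, mul_smul_comm, map_add, map_smul, mul_zero, map_zero, smul_eq_mul, h21, h22] at e'
    exact ⟨by linear_combination -e', by linear_combination e⟩
  have hd0 : d = 0 := by
    refine LinearMap.ext fun s => ?_
    by_cases hs : s ∈ Submodule.span F (Set.range ![t₁, t₂])
    · have hle : Submodule.span F (Set.range ![t₁, t₂]) ≤ LinearMap.ker d := by
        rw [Submodule.span_le]
        rintro _ ⟨i, rfl⟩
        fin_cases i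
        · exact hd1
        · exact hd2
      exact hle hs
    have hli3 : LinearIndependent F (Fin.cons s ![t₁, t₂] : Fin 3 → E) := linearIndependent_finCons.mpr ⟨hli, hs⟩
    have hcard : finrank F E ≤ Fintype.card (Fin 3) := by rw [Fintype.card_fin, hr]; exact h3
    have htop := hli3.span_eq_top_of_card_eq_finrank' (le_antisymm hli3.fintype_card_le_finrank hcard)
    refine eq_zero_of_tr_mul (F := F) fun u => ?_
    have hle : Submodule.span F (Set.range (Fin.cons s ![t₁, t₂] : Fin 3 → E)) ≤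
        LinearMap.ker ((Algebra.trace F E).comp (mulE (d s))) := by
      rw [Submodule.span_le]
      rintro _ ⟨i, rfl⟩
      refine LinearMap.mem_ker.mpr ?_
      change tr (d s * _) = 0
      refine Fin.cases ?_ (fun j => ?_) i
      · exact hdalt s
      · rw [hdalt.skew, Fin.cons_succ]
        fin_cases j <;> simp [hd1, hd2]
    exact hle (htop.ge (Submodule.mem_top : u ∈ ⊤))
  refine ⟨c t₁, c t₂, sub_eq_zero.mp (hd ▸ hd0), ht₁, fun t e => ?_⟩
  have e' := congrArg (fun z => tr (z * t₁)) e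
  simp only [smul_mul_assoc, map_smul, smul_eq_mul, h21, h11, mul_zero] at e'
  exact neg_ne_zero.mpr one_ne_zero e'

include hp

theorem gal_sq_ne (hr2 : r ≠ 2) {σ : E ≃ₐ[F] E} (hσ : σ ≠ 1) : σ * σ ≠ 1 := fun h => by
  haveI : Fact r.Prime := ⟨hp⟩
  have ho := orderOf_dvd_of_pow_eq_one (show σ ^ 2 = 1 by rw [pow_two, h])
  have hg : orderOf σ = r := by
    rw [← gal_card hr, ← orderOf_eq_card_of_forall_mem_zpowers (fun x => by rw [gal_zpowers hr hp hσ]; trivial)]
  rw [hg] at ho
  exact hr2 ((Nat.prime_dvd_prime_iff_eq hp Nat.prime_two).mp ho)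

theorem fixed_gal {σ : E ≃ₐ[F] E} (hσ : σ ≠ 1) {x : E} (h : σ x = x) : ∃ t : F, algebraMap F E t = x := by
  by_contra hcon
  push Not at hcon
  exact hσ (gal_inj_at hr hp hcon (τ := 1) h)

theorem altMap_ker (hr2 : r ≠ 2) {σ : E ≃ₐ[F] E} (hσ : σ ≠ 1) {x : E} (h : altMap σ 1 x = 0) :
    ∃ t : F, algebraMap F E t = x := by
  rw [altMap_apply, one_mul, one_mul, sub_eq_zero] at h
  refine fixed_gal hr hp (gal_sq_ne hr hp hr2 hσ) ?_
  rw [AlgEquiv.mul_apply, h]
  exact σ.apply_symm_apply x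

theorem altMap_at_one (hr2 : r ≠ 2) {σ : E ≃ₐ[F] E} (hσ : σ ≠ 1) {η : E} (h : ∀ t, altMap σ t η = 0) : η = 0 := by
  obtain ⟨k, rfl⟩ := altMap_ker hr hp hr2 hσ (h 1)
  by_contra hk
  obtain ⟨θ, hθ⟩ := exists_not_base hr hp
  have e := h θ
  rw [altMap_apply, AlgEquiv.commutes, map_mul, AlgEquiv.commutes, ← sub_mul, mul_eq_zero, or_iff_left hk,
    sub_eq_zero] at e
  obtain ⟨t, ht⟩ := fixed_gal hr hp (inv_ne_one.mpr hσ) e.symm
  exact hθ t ht

/-- A non-zero component spreads over the whole homogeneous part. -/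
theorem pair_mem (h2 : (2 : F) ≠ 0) {M : AddSubgroup (E →ₗ[F] E)} (hM : IsAltCongr M) [Fintype (E ≃ₐ[F] E)]
    {A : E →ₗ[F] E} (hA : A ∈ M) {a : (E ≃ₐ[F] E) → E} (ha : IsCoef A a) {σ : E ≃ₐ[F] E} (hσ : a σ ≠ 0) (t : E) :
    altMap σ t ∈ M := by
  classical
  haveI := finiteDimensional (F := F) (E := E)
  haveI : Finite F := Finite.of_injective _ (algebraMap F E).injective
  by_contra hnot
  let Ms : Submodule F (E →ₗ[F] E) :=
    { M.toAddSubmonoid with smul_mem' := fun c A hA => hM.smul_mem h2 c hA }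
  obtain ⟨ψ, hψ0, hψM⟩ := Submodule.exists_dual_map_eq_bot_of_notMem (p := Ms) (x := altMap σ t) hnot inferInstance
  have hψ : ∀ B ∈ M, ψ B = 0 := fun B hB => by
    have h : ψ B ∈ Ms.map ψ := ⟨B, hB, rfl⟩
    rwa [hψM, Submodule.mem_bot] at h
  -- the functional in coefficients
  have hex : ∀ τ : E ≃ₐ[F] E, ∃ b : E, ∀ c, tr (b * c) = ψ ((mulE c).comp (galMap τ)) := fun τ => by
    let l : Module.Dual F E :=
      { toFun := fun c => ψ ((mulE c).comp (galMap τ))
        map_add' := fun c d => by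
          rw [← map_add]
          exact congrArg ψ (LinearMap.ext fun x => by simp [mulE_apply, add_mul])
        map_smul' := fun k c => by
          rw [RingHom.id_apply, ← map_smul]
          exact congrArg ψ (LinearMap.ext fun x => by simp [mulE_apply]) }
    exact exists_dual_elt l
  choose b hb using hex
  have hψc : ∀ {B : E →ₗ[F] E} {c : (E ≃ₐ[F] E) → E}, IsCoef B c → ψ B = ∑ τ, tr (b τ * c τ) := by
    intro B c hc
    have e : B = ∑ τ, (mulE (c τ)).comp (galMap τ) := LinearMap.ext fun x => by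
      rw [hc, LinearMap.sum_apply]; rfl
    rw [e, map_sum]
    exact Finset.sum_congr rfl fun τ _ => (hb τ _).symm
  have hpol : ∀ c d, ψ ((mulE c).comp (A.comp (mulE d)) + (mulE d).comp (A.comp (mulE c))) = 0 := fun c d => by
    refine hψ _ ?_
    have e : (mulE c).comp (A.comp (mulE d)) + (mulE d).comp (A.comp (mulE (F := F) c)) =
        (mulE (c + d)).comp (A.comp (mulE (c + d))) - (mulE c).comp (A.comp (mulE c)) -
          (mulE d).comp (A.comp (mulE d)) := LinearMap.ext fun x => by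
      simp only [LinearMap.add_apply, LinearMap.sub_apply, LinearMap.comp_apply, mulE_apply, add_mul, map_add]
      ring
    rw [e]
    exact sub_mem (sub_mem (hM.congr _ _ hA) (hM.congr _ _ hA)) (hM.congr _ _ hA)
  have hcoefcd : ∀ c d, IsCoef ((mulE c).comp (A.comp (mulE (F := F) d))) (fun τ => c * a τ * τ d) := fun c d x => by
    rw [LinearMap.comp_apply, LinearMap.comp_apply, mulE_apply, mulE_apply, ha, Finset.mul_sum]
    refine Finset.sum_congr rfl fun τ _ => ?_
    rw [map_mul]; ring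
  have hneg : IsCoef (-A) (fun τ => -a τ) := fun x => by
    rw [LinearMap.neg_apply, ha, ← Finset.sum_neg_distrib]
    simp only [neg_mul]
  have hsym := coef_adj (hM.alt A hA).isAdj ha hneg
  have hzero : ∀ c, ∑ τ, (b τ * a τ + τ (b τ⁻¹ * a τ⁻¹)) * τ c = 0 := by
    intro c
    refine (traceForm_nondegenerate F E).2 _ fun d => ?_
    rw [Algebra.traceForm_apply, Finset.mul_sum, map_sum]
    have h := hpol c d
    rw [map_add, hψc (hcoefcd c d), hψc (hcoefcd d c), ← Equiv.sum_comp (Equiv.inv (E ≃ₐ[F] E))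
      (fun τ => tr (b τ * (c * a τ * τ d))), ← Finset.sum_add_distrib] at h
    rw [← h]
    refine Finset.sum_congr rfl fun τ _ => ?_
    rw [Equiv.inv_apply, ← tr_gal τ (b τ⁻¹ * (c * a τ⁻¹ * τ⁻¹ d)), ← map_add]
    congr 1
    rw [map_mul τ, map_mul τ, map_mul τ, map_mul τ, show τ (τ⁻¹ d) = d from τ.apply_symm_apply d]
    ring
  have h1 := gal_sum_eq_zero hzero σ
  rw [map_mul, ← hsym σ] at h1
  have h3 : b σ - σ (b σ⁻¹) = 0 :=
    (mul_eq_zero.mp (show a σ * (b σ - σ (b σ⁻¹)) = 0 by linear_combination h1)).resolve_left hσ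
  refine hψ0 ?_
  have hc : IsCoef (altMap σ t) (Pi.single σ t - Pi.single σ⁻¹ (σ⁻¹ t)) := fun x => by
    simp only [altMap_apply, Pi.sub_apply, sub_mul, Finset.sum_sub_distrib]
    rw [Finset.sum_eq_single σ (fun τ _ h => by rw [Pi.single_eq_of_ne h, zero_mul]) (by simp),
      Finset.sum_eq_single σ⁻¹ (fun τ _ h => by rw [Pi.single_eq_of_ne h, zero_mul]) (by simp), Pi.single_eq_same,
      Pi.single_eq_same, map_mul]
  rw [hψc hc]
  simp only [Pi.sub_apply, mul_sub, map_sub, Finset.sum_sub_distrib]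
  rw [Finset.sum_eq_single σ (fun τ _ h => by rw [Pi.single_eq_of_ne h, mul_zero, map_zero]) (by simp),
    Finset.sum_eq_single σ⁻¹ (fun τ _ h => by rw [Pi.single_eq_of_ne h, mul_zero, map_zero]) (by simp),
    Pi.single_eq_same, Pi.single_eq_same, ← tr_gal σ (b σ⁻¹ * σ⁻¹ t), ← map_sub, map_mul σ,
    show σ (σ⁻¹ t) = t from σ.apply_symm_apply t, ← sub_mul, h3, zero_mul, map_zero]

/-- A non-zero element has a non-trivial component. -/
theorem exists_component (h2 : (2 : F) ≠ 0) {M : AddSubgroup (E →ₗ[F] E)} (hM : IsAltCongr M) {A : E →ₗ[F] E}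
    (hA : A ∈ M) (h0 : A ≠ 0) : ∃ σ : E ≃ₐ[F] E, σ ≠ 1 ∧ ∀ t, altMap σ t ∈ M := by
  classical
  haveI := finiteDimensional (F := F) (E := E)
  letI := Fintype.ofFinite (E ≃ₐ[F] E)
  obtain ⟨a, ha⟩ := exists_coeff hr A
  by_contra hcon
  push Not at hcon
  have hz : ∀ σ, σ ≠ 1 → a σ = 0 := fun σ hσ => by
    by_contra h
    obtain ⟨t, ht⟩ := hcon σ hσ
    exact ht (pair_mem hr hp h2 hM hA ha h t)
  refine h0 (LinearMap.ext fun x => ?_)
  have e : ∀ y, A y = a 1 * y := fun y => by
    rw [ha, Finset.sum_eq_single 1 (fun σ _ hσ => by rw [hz σ hσ, zero_mul]) (by simp), AlgEquiv.one_apply]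
  have e1 : a 1 = 0 := by
    have hneg : IsCoef (-A) (fun τ => -a τ) := fun x => by
      rw [LinearMap.neg_apply, ha, ← Finset.sum_neg_distrib]
      simp only [neg_mul]
    have := coef_adj (hM.alt A hA).isAdj ha hneg 1
    rw [inv_one, AlgEquiv.one_apply, neg_eq_iff_add_eq_zero, ← two_mul] at this
    exact (mul_eq_zero.mp this).resolve_left fun h => h2 ((algebraMap F E).injective (by rwa [map_ofNat, map_zero]))
  rw [e, e1, zero_mul, LinearMap.zero_apply]

/-- If every homogeneous part occurs then so does a root map. -/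
theorem root_of_all (h2 : (2 : F) ≠ 0) {M : AddSubgroup (E →ₗ[F] E)} (hM : IsAltCongr M)
    (hall : ∀ σ : E ≃ₐ[F] E, σ ≠ 1 → ∀ t, altMap σ t ∈ M) (θ : E) : rootMap 1 θ ∈ M := by
  classical
  haveI := finiteDimensional (F := F) (E := E)
  letI := Fintype.ofFinite (E ≃ₐ[F] E)
  have hsum : ∀ σ : E ≃ₐ[F] E, altMap σ (θ - σ θ) ∈ M := fun σ => by
    by_cases h : σ = 1
    · rw [h, altMap_one]; exact zero_mem M
    · exact hall σ h _
  have e : (2 : F) • rootMap 1 θ = ∑ σ : E ≃ₐ[F] E, altMap σ (θ - σ θ) := LinearMap.ext fun x => by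
    rw [LinearMap.sum_apply, LinearMap.smul_apply, rootMap_apply, one_mul]
    simp only [altMap_apply, sub_mul, map_sub, Finset.sum_sub_distrib, map_mul]
    have e1 : ∑ σ : E ≃ₐ[F] E, σ⁻¹ θ * σ⁻¹ x = ∑ σ : E ≃ₐ[F] E, σ θ * σ x :=
      Equiv.sum_comp (Equiv.inv (E ≃ₐ[F] E)) fun σ => σ θ * σ x
    have e2 : ∑ σ : E ≃ₐ[F] E, σ⁻¹ (σ θ) * σ⁻¹ x = ∑ σ : E ≃ₐ[F] E, θ * σ x := by
      rw [← Equiv.sum_comp (Equiv.inv (E ≃ₐ[F] E)) fun σ => θ * σ x]
      exact Finset.sum_congr rfl fun σ _ => by rw [show σ⁻¹ (σ θ) = θ from σ.symm_apply_apply θ, Equiv.inv_apply]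
    rw [e1, e2, ← Finset.mul_sum, ← Symp.tr_sum, Finset.sum_congr rfl fun σ _ => (map_mul σ θ x).symm,
      ← Symp.tr_sum, Algebra.smul_def, Algebra.smul_def, Algebra.smul_def, map_ofNat, mul_one]
    ring
  have h : (2 : F) • rootMap 1 θ ∈ M := by
    rw [e]
    exact sum_mem fun σ _ => hsum σ
  have := hM.smul_mem h2 (2 : F)⁻¹ h
  rwa [smul_smul, inv_mul_cancel₀ h2, one_smul] at this

/-- The Lie idealiser of a proper congruence-stable group consists of multiplications. -/
theorem isMul_of_lie (h2 : (2 : F) ≠ 0) {M : AddSubgroup (E →ₗ[F] E)} (hM : IsAltCongr M)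
    {τ₀ : E ≃ₐ[F] E} (hτ₀ : τ₀ ≠ 1) (hin : ∀ t, altMap τ₀ t ∈ M)
    {σ₀ : E ≃ₐ[F] E} (hσ₀ : σ₀ ≠ 1) (hout₀ : ∃ t, altMap σ₀ t ∉ M) {Z Z' : E →ₗ[F] E}
    (hZ : ∀ S ∈ M, Z.comp S + S.comp Z' ∈ M) : IsMul Z := by
  classical
  haveI : Finite (E ≃ₐ[F] E) := Finite.of_injective (fun g : E ≃ₐ[F] E => (g : E → E)) DFunLike.coe_injective
  letI := Fintype.ofFinite (E ≃ₐ[F] E)
  obtain ⟨z, hz⟩ := exists_coeff hr Z
  obtain ⟨z', hz'⟩ := exists_coeff hr Z'
  let K : (E ≃ₐ[F] E) → Prop := fun σ => σ = 1 ∨ ∀ t, altMap σ t ∈ M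
  have hKinv : ∀ σ, K σ → K σ⁻¹ := fun σ hσ => hσ.elim (fun e => Or.inl (by rw [e, inv_one]))
    (fun h => Or.inr fun t => by rw [altMap_inv]; exact h _)
  have hout : ∀ {B : E →ₗ[F] E} {c : (E ≃ₐ[F] E) → E}, B ∈ M → IsCoef B c → ∀ ρ, ¬ K ρ → c ρ = 0 := by
    intro B c hB hc ρ hρ
    by_contra h
    exact hρ (Or.inr fun t => pair_mem hr hp h2 hM hB hc h t)
  have hsupp : ∀ σ, σ ≠ 1 → z σ = 0 := by
    intro σ hσ
    obtain ⟨τ, hτ, hτ1, hρ⟩ : ∃ τ, K τ ∧ τ ≠ 1 ∧ ¬ K (σ * τ) := by
      by_contra hcon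
      push Not at hcon
      have hup : ∀ τ, K τ → τ ≠ 1 → K (σ * τ) := hcon
      have hdown : ∀ τ, K τ → τ ≠ 1 → K (σ⁻¹ * τ) := fun τ h1 h1' => by
        have := hKinv _ (hup τ⁻¹ (hKinv τ h1) (inv_ne_one.mpr h1'))
        rwa [mul_inv_rev, inv_inv, gal_comm hr hp] at this
      have hord : ∀ ρ : E ≃ₐ[F] E, ∃ n < r, ρ = σ ^ n := fun ρ => by
        haveI : Fact r.Prime := ⟨hp⟩
        have hm : ρ ∈ Submonoid.powers σ := mem_powers_iff_mem_zpowers.mpr (by rw [gal_zpowers hr hp hσ]; trivial)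
        obtain ⟨n, rfl⟩ := hm
        have hr' : σ ^ r = 1 := by rw [← gal_card hr]; exact pow_card_eq_one'
        refine ⟨n % r, Nat.mod_lt _ hp.pos, ?_⟩
        change σ ^ n = _
        conv_lhs => rw [← Nat.div_add_mod n r, pow_add, pow_mul, hr', one_pow, one_mul]
      have hne : ∀ n, 0 < n → n < r → σ ^ n ≠ 1 := fun n h0 hn e => by
        haveI : Fact r.Prime := ⟨hp⟩
        have hg : orderOf σ = r := by
          rw [← gal_card hr, ← orderOf_eq_card_of_forall_mem_zpowers (fun x => by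
            rw [gal_zpowers hr hp hσ]; trivial)]
        have := Nat.le_of_dvd h0 (hg ▸ orderOf_dvd_of_pow_eq_one e)
        omega
      obtain ⟨n₀, hn₀, e₀⟩ := hord τ₀
      have hn₀pos : 0 < n₀ := Nat.pos_of_ne_zero fun e => hτ₀ (by rw [e₀, e, pow_zero])
      have hdn : ∀ j, j < n₀ → K (σ ^ (n₀ - j)) := by
        intro j
        induction j with
        | zero => intro _; rw [Nat.sub_zero, ← e₀]; exact Or.inr hin
        | succ j ih =>
          intro hj
          have := hdown _ (ih (by omega)) (hne _ (by omega) (by omega))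
          rwa [show n₀ - j = (n₀ - (j + 1)) + 1 by omega, pow_succ', inv_mul_cancel_left] at this
      have h1 : ∀ j, j + 1 < r → K (σ ^ (j + 1)) := by
        intro j
        induction j with
        | zero => intro _; have := hdn (n₀ - 1) (by omega); rwa [show n₀ - (n₀ - 1) = 1 by omega] at this
        | succ j ih =>
          intro hj
          rw [pow_succ']
          exact hup _ (ih (by omega)) (hne _ (by omega) (by omega))
      obtain ⟨t, ht⟩ := hout₀
      obtain ⟨m, hm, em⟩ := hord σ₀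
      have hmpos : 0 < m := Nat.pos_of_ne_zero fun e => hσ₀ (by rw [em, e, pow_zero])
      have := h1 (m - 1) (by omega)
      rw [show m - 1 + 1 = m by omega, ← em] at this
      exact this.elim hσ₀ fun h => ht (h t)
    have hp' : ∀ t, altMap τ t ∈ M := hτ.resolve_left hτ1
    set ρ := σ * τ with hρdef
    obtain ⟨w, hwdef⟩ : ∃ w : (E ≃ₐ[F] E) → E, w = Pi.single σ (z σ) - Pi.single ρ (z (ρ * τ)) +
        Pi.single 1 (τ (z' (τ⁻¹ * ρ))) - Pi.single τ⁻¹ (τ⁻¹ (z' (τ * ρ))) := ⟨_, rfl⟩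
    have key : ∀ t, ∑ π, w π * π t = 0 := fun t => by
      have hc : IsCoef (altMap τ t) (Pi.single τ t - Pi.single τ⁻¹ (τ⁻¹ t)) := fun x => by
        simp only [altMap_apply, Pi.sub_apply, sub_mul, Finset.sum_sub_distrib]
        rw [Finset.sum_eq_single τ (fun π _ h => by rw [Pi.single_eq_of_ne h, zero_mul]) (by simp),
          Finset.sum_eq_single τ⁻¹ (fun π _ h => by rw [Pi.single_eq_of_ne h, zero_mul]) (by simp), Pi.single_eq_same,
          Pi.single_eq_same, map_mul]
      have h := hout (hZ _ (hp' t)) (c := fun ρ =>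
          ∑ π, z π * π ((Pi.single τ t - Pi.single τ⁻¹ (τ⁻¹ t) : (E ≃ₐ[F] E) → E) (π⁻¹ * ρ)) +
          ∑ π, (Pi.single τ t - Pi.single τ⁻¹ (τ⁻¹ t) : (E ≃ₐ[F] E) → E) π * π (z' (π⁻¹ * ρ))) (fun x => by
        rw [LinearMap.add_apply, coef_comp hz hc x, coef_comp hc hz' x, ← Finset.sum_add_distrib]
        simp only [add_mul]) ρ hρ
      simp only [Pi.sub_apply, mul_sub, map_sub, sub_mul, Finset.sum_sub_distrib] at h
      rw [Finset.sum_eq_single σ (fun π _ hne => by
          rw [Pi.single_eq_of_ne (fun e => hne (mul_right_cancel (b := τ) (by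
            rw [← hρdef]; exact (inv_mul_eq_iff_eq_mul.mp e).symm))), map_zero, mul_zero]) (by simp),
        Finset.sum_eq_single (ρ * τ) (fun π _ hne => by
          rw [Pi.single_eq_of_ne (fun e => hne (by
            rw [inv_mul_eq_iff_eq_mul] at e
            rw [e, inv_mul_cancel_right])), map_zero, mul_zero]) (by simp),
        Finset.sum_eq_single τ (fun π _ hne => by rw [Pi.single_eq_of_ne hne, zero_mul]) (by simp),
        Finset.sum_eq_single τ⁻¹ (fun π _ hne => by rw [Pi.single_eq_of_ne hne, zero_mul]) (by simp),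
        show σ⁻¹ * ρ = τ from inv_mul_cancel_left σ τ, show (ρ * τ)⁻¹ * ρ = τ⁻¹ by group,
        inv_inv, Pi.single_eq_same, Pi.single_eq_same, AlgEquiv.mul_apply,
        show τ (τ⁻¹ t) = t from τ.apply_symm_apply t] at h
      simp only [hwdef, Pi.add_apply, Pi.sub_apply, add_mul, sub_mul, Finset.sum_add_distrib, Finset.sum_sub_distrib]
      rw [Finset.sum_eq_single σ (fun π _ hne => by rw [Pi.single_eq_of_ne hne, zero_mul]) (by simp),
        Finset.sum_eq_single ρ (fun π _ hne => by rw [Pi.single_eq_of_ne hne, zero_mul]) (by simp),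
        Finset.sum_eq_single 1 (fun π _ hne => by rw [Pi.single_eq_of_ne hne, zero_mul]) (by simp),
        Finset.sum_eq_single τ⁻¹ (fun π _ hne => by rw [Pi.single_eq_of_ne hne, zero_mul]) (by simp),
        Pi.single_eq_same, Pi.single_eq_same, Pi.single_eq_same, Pi.single_eq_same, AlgEquiv.one_apply]
      rw [← h]; ring
    have h := gal_sum_eq_zero key σ
    have hσρ : σ ≠ ρ := fun e => hτ1 (mul_left_cancel (a := σ) (by rw [mul_one, ← hρdef, ← e]))
    have hστ : σ ≠ τ⁻¹ := fun e => hρ (Or.inl (by rw [hρdef, e, inv_mul_cancel]))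
    simpa [hwdef, Pi.single_eq_of_ne hσρ, Pi.single_eq_of_ne hσ, Pi.single_eq_of_ne hστ] using h
  intro x
  have e : ∀ y, Z y = z 1 * y := fun y => by
    rw [hz, Finset.sum_eq_single 1 (fun σ _ hσ => by rw [hsupp σ hσ, zero_mul]) (by simp), AlgEquiv.one_apply]
  rw [e x, e 1, mul_one]

end Cfsg.Agent.Classical.FieldExt.Orth
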