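/-
A root element over the small field, in degree at least five.
-/
import Cfsg.Agent.Lib.Classical.FieldExt.Basic
import Cfsg.Agent.Lib.Classical.FieldExt.Orth.Alt
import Cfsg.Agent.Lib.Classical.TensorMax.Orbit

set_option autoImplicit false
set_option linter.style.haveILetI false
set_option linter.unusedSectionVars false

namespace Cfsg.Agent.Classical.FieldExt.Orth

open Module QuadraticMap
open Cfsg.Agent.Classical

variable {F E V : Type*} [Field F] [Field E] [Algebra F E] [Finite E] [AddCommGroup V] [Module F V] [Module E V]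
  [IsScalarTower F E V] [Finite V]

/-- The trace. -/
local notation "tr" => Algebra.trace F E

variable {B : V →ₗ[E] V →ₗ[E] E} {Q : QuadraticForm F V} {r : ℕ} {X : Subgroup (V ≃ₗ[F] V)}

/-- The stabiliser of a line. -/
def lineG (F E : Type*) {V : Type*} [Field F] [Field E] [AddCommGroup V] [Module F V] [Module E V] [Finite V]
    (b : V) : Subgroup (V ≃ₗ[F] V) :=
  haveI : Finite (V ≃ₗ[F] V) := Finite.of_injective (fun g : V ≃ₗ[F] V => (g : V → V)) DFunLike.coe_injective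
  subgroupOfFinite {g | ∀ t : E, ∃ s : E, g (t • b) = s • b} (fun t => ⟨t, rfl⟩) fun g hg h hh t => by
    obtain ⟨s, hs⟩ := hh t
    obtain ⟨s', hs'⟩ := hg s
    exact ⟨s', by rw [LinearEquiv.mul_apply, hs, hs']⟩

theorem mem_lineG {b : V} {g : V ≃ₗ[F] V} : g ∈ lineG F E b ↔ ∀ t : E, ∃ s : E, g (t • b) = s • b := Iff.rfl

variable (S : Setup B Q r) (hX : Over E Q X)

include S hX

theorem inX_iso : ∀ g ∈ X, g ∈ ORefl.Iso Q := fun _ hg => mem_iso S hX hg

/-- A root element leaving the centre in the perp gives one inside a line. -/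
theorem bottom {a x : V} (ha : a ≠ 0) (haa : B a a = 0) (hax : B a x = 0) (hnot : ∀ t : F, x ≠ t • a)
    (h : InX Q X a x) : ∃ θ : E, (∀ t : F, algebraMap F E t ≠ θ) ∧ InX Q X a (θ • a) := by
  obtain ⟨b, hp⟩ := exists_partner S ha haa
  by_cases hl : ∀ z, B a z = 0 → B z x = 0
  · have e := hp.mem_line S hl
    refine ⟨B b x, fun t ht => hnot t ?_, e ▸ h⟩
    rw [e, ← ht, IsScalarTower.algebraMap_smul]
  push Not at hl
  obtain ⟨z₀, hz₀, hz₀x⟩ := hl
  obtain ⟨θ, hθ⟩ := exists_not_base S.deg S.prime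
  refine ⟨θ, hθ, ?_⟩
  obtain ⟨z, hz⟩ : ∃ z, z = (-θ / B z₀ x) • z₀ := ⟨_, rfl⟩
  have hza : B a z = 0 := by rw [hz, map_smul, hz₀, smul_zero]
  have hzx : B z x = -θ := by rw [hz, map_smul, LinearMap.smul_apply, smul_eq_mul, div_mul_cancel₀ _ hz₀x]
  have hu := u_mem S hX haa hza
  have h1 := h.conj hu (mem_iso S hX hu)
  have e1 : u S haa hza a = a := by rw [u_apply, haa, S.symm z a, hza]; simp
  have e2 : u S haa hza x = x + θ • a := by rw [u_apply, hax, hzx]; simp
  rw [e1, e2] at h1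
  have hQa := q_zero S haa
  have hpx : polar Q a x = 0 := by rw [S.polarQ, hax, map_zero]
  have hpt : polar Q a (x + θ • a) = 0 := by
    rw [S.polarQ, map_add, map_smul (B a), hax, haa, smul_zero, add_zero, map_zero]
  have := h1.sub hQa hpt hpx h
  rwa [add_sub_cancel_left] at this

omit hX in
/-- The only vectors fixed by all Siegel elements at a line are its own. -/
theorem fixed_line {a b : V} (hp : HP B a b) {x : V}
    (h : ∀ (z : V) (hz : B b z = 0), u S hp.bb hz x = x) : ∃ s : E, x = s • b := by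
  have hba : B b a = 1 := by rw [S.symm, hp.ab]
  have coeff : ∀ (z : V) (hz : B b z = 0), B b x • z = (B z x + qE B z * B b x) • b := fun z hz => by
    have := h z hz
    rwa [u_apply, sub_eq_iff_eq_add, add_right_inj] at this
  have h0 : B b x = 0 := by
    obtain ⟨y, hay, hby, hyy⟩ := hp.exists_aniso S
    have := congrArg (B y) (coeff y hby)
    rw [map_smul, map_smul, S.symm y b, hby, smul_zero, smul_eq_mul, mul_eq_zero, or_iff_left hyy] at this
    exact this
  refine ⟨B a x, (hp.swap S).mem_line S fun z hz => ?_⟩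
  have := congrArg (B a) (coeff z hz)
  rw [h0, zero_smul, mul_zero, add_zero, map_zero, map_smul, hp.ab, smul_eq_mul, mul_one] at this
  exact this.symm

/-- An element stabilising a line acts semilinearly on it. -/
theorem semi_on_line (hT : Trans B X) {τ₀ : E ≃ₐ[F] E} (hτ₀ : τ₀ ≠ 1) (hin : ∀ t, altMap τ₀ t ∈ Lam B X)
    {σ₀ : E ≃ₐ[F] E} (hσ₀ : σ₀ ≠ 1) (hout : ∃ t, altMap σ₀ t ∉ Lam B X) {a b : V} (hp : HP B a b)
    {g : V ≃ₗ[F] V} (hg : g ∈ X) (hgl : g ∈ lineG F E b) :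
    ∃ (τ : E ≃ₐ[F] E) (β : E), ∀ e : E, g (e • b) = (τ e * β) • b := by
  have hba : B b a = 1 := by rw [S.symm, hp.ab]
  have hb0 := hp.ne' S
  -- the two maps attached to an element of the stabiliser
  obtain ⟨lm, hlm⟩ : ∃ lm : (V ≃ₗ[F] V) → (E →ₗ[F] E), ∀ k t, lm k t = B a (k (t • b)) :=
    ⟨fun k => ((B a).restrictScalars F).comp
      (k.toLinearMap.comp ((LinearMap.toSpanSingleton E V b).restrictScalars F)), fun k t => rfl⟩
  obtain ⟨Lm, hLm⟩ : ∃ Lm : (V ≃ₗ[F] V) → (E →ₗ[F] E), ∀ k t, Lm k t = B b (k⁻¹ (t • a)) :=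
    ⟨fun k => ((B b).restrictScalars F).comp
      ((k⁻¹).toLinearMap.comp ((LinearMap.toSpanSingleton E V a).restrictScalars F)), fun k t => rfl⟩
  have hl : ∀ k ∈ lineG F E b, ∀ t : E, k (t • b) = lm k t • b := fun k hk t => by
    obtain ⟨s, hs⟩ := (mem_lineG (E := E)).mp hk t
    rw [hlm, hs, map_smul, hp.ab, smul_eq_mul, mul_one]
  have hperp : ∀ k ∈ X, k ∈ lineG F E b → ∀ {x}, B b x = 0 → B b (k x) = 0 := fun k hk hkl {x} hx =>
    B_eq_of_tr S fun d => by
      obtain ⟨s, hs⟩ := (mem_lineG (E := E)).mp ((lineG F E b).inv_mem hkl) d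
      have e : k (s • b) = d • b := by
        rw [← hs, LinearEquiv.coe_inv, LinearEquiv.apply_symm_apply]
      rw [← e, ← S.polarQ, ORefl.polar_iso (mem_iso S hX hk), S.polarQ, map_smul, LinearMap.smul_apply, hx, smul_zero,
        mul_zero, map_zero]
  have hL : ∀ k ∈ X, k ∈ lineG F E b → ∀ x, B b x = Lm k (B b (k x)) := fun k hk hkl x => by
    rw [hLm]
    have h0 : B b (k x - B b (k x) • a) = 0 := by rw [map_sub, map_smul, hba, smul_eq_mul, mul_one, sub_self]
    have h1 := hperp k⁻¹ (X.inv_mem hk) ((lineG F E b).inv_mem hkl) h0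
    rwa [map_sub k⁻¹, LinearEquiv.coe_inv, LinearEquiv.symm_apply_apply, map_sub (B b), sub_eq_zero] at h1
  have hadj : ∀ k ∈ X, k ∈ lineG F E b → ∀ s t, tr (lm k s * t) = tr (s * Lm k t) := fun k hk hkl s t => by
    have e1 : polar Q (k (s • b)) (t • a) = tr (lm k s * t) := by
      rw [hl k hkl, polar_smul S, hba, mul_one]
    have e2 : polar Q (s • b) (k⁻¹ (t • a)) = tr (s * Lm k t) := by
      rw [S.polarQ, map_smul, LinearMap.smul_apply, smul_eq_mul, hLm]
    rw [← e1, ← e2]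
    conv_rhs => rw [← ORefl.polar_iso (mem_iso S hX hk)]
    rw [LinearEquiv.coe_inv, LinearEquiv.apply_symm_apply]
  have hconj : ∀ k ∈ X, k ∈ lineG F E b → ∀ c ∈ Lam B X, (lm k).comp (c.comp (Lm k)) ∈ Lam B X := by
    intro k hk hkl c hc
    refine Lam_of_zx S hX hT hb0 hp.bb (fun s => ?_) ?_
    · rw [LinearMap.comp_apply, LinearMap.comp_apply, hadj k hk hkl]
      exact hc.1 _
    · obtain ⟨m, hm, hm'⟩ := hc.2 b hb0 hp.bb
      refine ⟨k * m * k⁻¹, X.mul_mem (X.mul_mem hk hm) (X.inv_mem hk), fun x => ?_⟩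
      obtain ⟨y, rfl⟩ := k.surjective x
      rw [LinearEquiv.mul_apply, LinearEquiv.mul_apply, LinearEquiv.coe_inv, LinearEquiv.symm_apply_apply, hm',
        map_add, hl k hkl, LinearMap.comp_apply, LinearMap.comp_apply, ← hL k hk hkl]
  have hgi := (lineG F E b).inv_mem hgl
  have hll : ∀ t, lm g (lm g⁻¹ t) = t := fun t => by
    rw [hlm g]
    rw [← hl _ hgi, LinearEquiv.coe_inv, LinearEquiv.apply_symm_apply, map_smul, hp.ab, smul_eq_mul, mul_one]
  have hLL : ∀ t, Lm g⁻¹ (Lm g t) = t := fun t => by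
    rw [hLm g, ← hL _ (X.inv_mem hg) hgi, map_smul, hba, smul_eq_mul, mul_one]
  -- conjugates of the scalars are scalars
  have hZ : ∀ c : E, IsMul ((lm g).comp ((mulE c).comp (lm g⁻¹))) := by
    intro c
    refine isMul_of_lie S.deg S.prime S.two ⟨fun A (hA : A ∈ Lam B X) => (mem_Lam.mp hA).1, fun κ A hA => Lam_congr S hX κ hA⟩ hτ₀ hin hσ₀ hout
      (Z' := (Lm g⁻¹).comp ((mulE c).comp (Lm g))) fun A hA => ?_
    have key : ∀ d : E, ((lm g).comp ((mulE d).comp (lm g⁻¹))).comp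
        (A.comp ((Lm g⁻¹).comp ((mulE d).comp (Lm g)))) ∈ Lam B X := fun d => by
      have := hconj g hg hgl _ (Lam_congr S hX d (hconj g⁻¹ (X.inv_mem hg) hgi A hA))
      simpa only [LinearMap.comp_assoc] using this
    have e : ((lm g).comp ((mulE c).comp (lm g⁻¹))).comp A + A.comp ((Lm g⁻¹).comp ((mulE c).comp (Lm g))) =
        ((lm g).comp ((mulE (c + 1)).comp (lm g⁻¹))).comp (A.comp ((Lm g⁻¹).comp ((mulE (c + 1)).comp (Lm g)))) -
          ((lm g).comp ((mulE c).comp (lm g⁻¹))).comp (A.comp ((Lm g⁻¹).comp ((mulE c).comp (Lm g)))) - A :=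
      LinearMap.ext fun x => by
        simp only [LinearMap.add_apply, LinearMap.sub_apply, LinearMap.comp_apply, mulE_apply, add_mul, one_mul,
          map_add, hll, hLL]
        abel
    rw [e]
    exact sub_mem (sub_mem (key _) (key _)) hA
  obtain ⟨T, hT⟩ : ∃ T : E → E, ∀ c, T c = lm g (c * lm g⁻¹ 1) := ⟨_, fun c => rfl⟩
  have hTm : ∀ c t, lm g (c * t) = T c * lm g t := fun c t => by
    have ht : lm g⁻¹ (lm g t) = t := by
      rw [hlm g⁻¹]
      rw [← hl _ hgl, LinearEquiv.coe_inv, LinearEquiv.symm_apply_apply, map_smul, hp.ab, smul_eq_mul, mul_one]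
    have := hZ c (lm g t)
    simp only [LinearMap.comp_apply, mulE_apply, ht] at this
    rw [hT, this]
  have ht₁ : lm g (lm g⁻¹ 1) = 1 := hll 1
  obtain ⟨τ, hτ⟩ : ∃ τ : E ≃ₐ[F] E, ∀ c, τ c = T c := by
    have hadd : ∀ c d, T (c + d) = T c + T d := fun c d => by rw [hT, add_mul, map_add, ← hT, ← hT]
    have hsc : ∀ k : F, T (algebraMap F E k) = algebraMap F E k := fun k => by
      rw [hT, ← Algebra.smul_def, map_smul, ht₁, Algebra.smul_def, mul_one]
    let f : E →ₐ[F] E :=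
      { toFun := T
        map_one' := by rw [hT, one_mul, ht₁]
        map_mul' := fun c d => by rw [hT (c * d), mul_assoc, hTm, ← hT]
        map_zero' := by have := hsc 0; rwa [map_zero] at this
        map_add' := hadd
        commutes' := hsc }
    exact ⟨AlgEquiv.ofBijective f ⟨f.toRingHom.injective, Finite.surjective_of_injective f.toRingHom.injective⟩,
      fun c => rfl⟩
  refine ⟨τ, lm g 1, fun e => ?_⟩
  rw [hl _ hgl, hτ, ← hTm, mul_one]

/-- In degree at least five some root element over the small field lies in the group. -/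
theorem exists_root_big (hT : Trans B X) (h5 : 5 ≤ r) {c₀ : E →ₗ[F] E} (hc₀ : c₀ ∈ Lam B X) (h0 : c₀ ≠ 0) :
    ∃ (a : V) (θ : E), a ≠ 0 ∧ B a a = 0 ∧ (∀ t : F, algebraMap F E t ≠ θ) ∧ InX Q X a (θ • a) := by
  classical
  haveI := finiteDimensional (F := F) (E := E)
  haveI : Finite (V ≃ₗ[F] V) := Finite.of_injective (fun g : V ≃ₗ[F] V => (g : V → V)) DFunLike.coe_injective
  haveI := finiteF S
  letI := Fintype.ofFinite (E ≃ₐ[F] E)
  have hr2 : r ≠ 2 := by omega
  have hM : IsAltCongr (Lam B X) := ⟨fun A (hA : A ∈ Lam B X) => (mem_Lam.mp hA).1, fun κ A hA => Lam_congr S hX κ hA⟩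
  obtain ⟨a, ha, haa⟩ := exists_singular_ne S
  obtain ⟨θ, hθ⟩ := exists_not_base S.deg S.prime
  by_cases hall : ∀ σ : E ≃ₐ[F] E, σ ≠ 1 → ∀ t, altMap σ t ∈ Lam B X
  · refine ⟨a, θ, ha, haa, hθ, ?_⟩
    obtain ⟨g, hg, hg'⟩ := (root_of_all S.deg S.prime S.two hM hall θ).2 a ha haa
    refine ⟨g, hg, fun x => ?_⟩
    rw [hg', ORefl.siegelMap_apply, q_line S haa, zero_mul, add_zero, rootMap_apply, S.polarQ, S.polarQ, sub_smul,
      smul_assoc, smul_assoc, one_smul, one_mul, map_smul B, LinearMap.smul_apply, smul_eq_mul]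
    abel
  push Not at hall
  obtain ⟨σ₀, hσ₀, hout⟩ := hall
  obtain ⟨τ₀, hτ₀, hin⟩ := exists_component S.deg S.prime S.two hM hc₀ h0
  obtain ⟨b, hp⟩ := exists_partner S ha haa
  have hb0 := hp.ne' S
  have hba : B b a = 1 := by rw [S.symm, hp.ab]
  obtain ⟨p, hchar⟩ := CharP.exists F
  haveI hpp : Fact p.Prime := ⟨CharP.char_is_prime F p⟩
  -- cubic unipotent elements of the stabiliser fix the line pointwise
  have hquad : ∀ s ∈ X, s ∈ lineG F E b → (∀ x, s (s (s x)) - 3 • s (s x) + 3 • s x - x = 0) →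
      ∀ t : E, s (t • b) = t • b := by
    intro s hs hsl hcub
    obtain ⟨τ, β, hτβ⟩ := semi_on_line S hX hT hτ₀ hin hσ₀ hout hp hs hsl
    have key : ∀ e : E, τ (τ (τ e)) * (τ (τ β) * τ β * β) + -(3 * (τ β * β)) * τ (τ e) + 3 * β * τ e + -e = 0 := by
      intro e
      have h := congrArg (B a) (hcub (e • b))
      simp only [hτβ, map_add, map_sub, map_nsmul, map_smul, map_zero, hp.ab, smul_eq_mul, mul_one, map_mul,
        nsmul_eq_mul, Nat.cast_ofNat] at h
      rw [← h]; ring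
    have hτ1 : τ = 1 := by
      by_contra hne
      haveI : Fact r.Prime := ⟨S.prime⟩
      have hg : orderOf τ = r := by
        rw [← gal_card S.deg, ← orderOf_eq_card_of_forall_mem_zpowers (fun x => by
          rw [gal_zpowers S.deg S.prime hne]; trivial)]
      have hne' : ∀ n, 0 < n → n < 4 → τ ^ n ≠ 1 := fun n h0 hn e => by
        have := Nat.le_of_dvd h0 (hg ▸ orderOf_dvd_of_pow_eq_one e)
        omega
      obtain ⟨w, hw⟩ : ∃ w : (E ≃ₐ[F] E) → E, w = Pi.single (τ ^ 3) (τ (τ β) * τ β * β) +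
          Pi.single (τ ^ 2) (-(3 * (τ β * β))) + Pi.single (τ ^ 1) (3 * β) + Pi.single 1 (-1) := ⟨_, rfl⟩
      have hz := Symp.gal_sum_eq_zero (w := w) (fun e => by
        rw [hw]
        simp only [Pi.add_apply, add_mul, Finset.sum_add_distrib]
        rw [Finset.sum_eq_single (τ ^ 3) (fun π _ h => by rw [Pi.single_eq_of_ne h, zero_mul]) (by simp),
          Finset.sum_eq_single (τ ^ 2) (fun π _ h => by rw [Pi.single_eq_of_ne h, zero_mul]) (by simp),
          Finset.sum_eq_single (τ ^ 1) (fun π _ h => by rw [Pi.single_eq_of_ne h, zero_mul]) (by simp),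
          Finset.sum_eq_single 1 (fun π _ h => by rw [Pi.single_eq_of_ne h, zero_mul]) (by simp),
          Pi.single_eq_same, Pi.single_eq_same, Pi.single_eq_same, Pi.single_eq_same, AlgEquiv.one_apply]
        simp only [pow_one, pow_two, pow_three, AlgEquiv.mul_apply]
        rw [← key e]; ring) 1
      rw [hw] at hz
      simp only [Pi.add_apply, Pi.single_eq_same, Pi.single_eq_of_ne (hne' 3 (by omega) (by omega)).symm,
        Pi.single_eq_of_ne (hne' 2 (by omega) (by omega)).symm,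
        Pi.single_eq_of_ne (hne' 1 (by omega) (by omega)).symm, zero_add, neg_eq_zero] at hz
      exact one_ne_zero hz
    have hβ : β = 1 := by
      have h := key 1
      simp only [hτ1, AlgEquiv.one_apply, map_one] at h
      have h' : (β - 1) ^ 3 = 0 := by linear_combination h
      exact sub_eq_zero.mp (pow_eq_zero_iff (by norm_num) |>.mp h')
    intro t
    rw [hτβ, hτ1, hβ, AlgEquiv.one_apply, mul_one]
  -- Siegel elements at the line
  let U : Subgroup (V ≃ₗ[F] V) := subgroupOfFinite {g | ∃ (z : V) (hz : B b z = 0), g = u S hp.bb hz}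
    ⟨0, map_zero _, LinearEquiv.ext fun x => (uMap_zero b x).symm⟩ (by
      rintro _ ⟨z, hz, rfl⟩ _ ⟨z', hz', rfl⟩
      exact ⟨z + z', by rw [map_add, hz, hz', add_zero], u_mul S hp.bb hz hz'⟩)
  have hUp : IsPGroup p U := fun ⟨g, hg⟩ => by
    obtain ⟨z, hz, rfl⟩ := hg
    exact ⟨1, Subtype.ext (by rw [pow_one]; exact u_order S p hp.bb hz)⟩
  let W : Subgroup (V ≃ₗ[F] V) := X ⊓ MulAction.stabilizer (V ≃ₗ[F] V) b
  have hUW : U ≤ W := by
    rintro _ ⟨z, hz, rfl⟩
    refine ⟨u_mem S hX hp.bb hz, MulAction.mem_stabilizer_iff.mpr ?_⟩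
    rw [LinearEquiv.smul_def, u_apply, hp.bb, S.symm z b, hz]
    simp
  obtain ⟨P, hUP, hPW, hP, hPm⟩ := TensorMax.exists_max_pgroup p W U hUW hUp
  have hUl : U ≤ lineG F E b := by
    rintro _ ⟨z, hz, rfl⟩ t
    exact ⟨t, by rw [u_smul, u_apply, hp.bb, S.symm z b, hz]; simp⟩
  have hPl : P ≤ lineG F E b := by
    by_contra hnot
    haveI := hP.isNilpotent
    have hnc := normalizerCondition_of_isNilpotent (G := P) ((lineG F E b).subgroupOf P)
      (lt_top_iff_ne_top.2 fun e => hnot (Subgroup.subgroupOf_eq_top.1 e))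
    obtain ⟨g, hg, hgl⟩ := SetLike.exists_of_lt hnc
    refine hgl (Subgroup.mem_subgroupOf.mpr ?_)
    have hfix : ∀ (t : E) (z : V) (hz : B b z = 0),
        u S hp.bb hz ((g : V ≃ₗ[F] V)⁻¹ (t • b)) = (g : V ≃ₗ[F] V)⁻¹ (t • b) := fun t z hz => by
      have huU : u S hp.bb hz ∈ U := ⟨z, hz, rfl⟩
      have hs := (Subgroup.mem_normalizer_iff.1 hg ⟨_, hUP huU⟩).1 (Subgroup.mem_subgroupOf.mpr (hUl huU))
      rw [Subgroup.mem_subgroupOf] at hs
      obtain ⟨gg, hgg⟩ : ∃ gg : V ≃ₗ[F] V, gg = g := ⟨_, rfl⟩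
      replace hs : gg * u S hp.bb hz * gg⁻¹ ∈ lineG F E b := hgg ▸ hs
      rw [← hgg]
      have hggX : gg ∈ X := hgg ▸ (hPW g.2).1
      have h := hquad (gg * u S hp.bb hz * gg⁻¹) (X.mul_mem (X.mul_mem hggX (u_mem S hX hp.bb hz)) (X.inv_mem hggX))
        hs (fun x => ?_) t
      · apply gg.injective
        simp only [LinearEquiv.mul_apply, LinearEquiv.coe_inv, LinearEquiv.apply_symm_apply] at h ⊢
        exact h
      · obtain ⟨y, rfl⟩ := gg.surjective x
        simp only [LinearEquiv.mul_apply, LinearEquiv.coe_inv, LinearEquiv.symm_apply_apply]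
        simp only [← map_nsmul gg, ← map_sub gg, ← map_add gg, LinearEquiv.map_eq_zero_iff]
        simp only [u_apply, map_add, map_sub, map_smul, hp.bb, hz, S.symm z b, smul_eq_mul]
        module
    exact ((lineG F E b).inv_mem_iff).mp fun t => fixed_line S hp (hfix t)
  -- an element of the group with a small kernel fixing `b`
  obtain ⟨k, hk, hk'⟩ := (hin 1).2 a ha haa
  have hk1 : altMap τ₀ 1 (1 : E) = 0 := by simp [altMap_apply]
  have hkpow : ∀ n : ℕ, ∀ x, (k ^ n) x = x + (n : F) • (altMap τ₀ 1 (B a x) • a) := fun n => by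
    induction n with
    | zero => intro x; rw [pow_zero, Nat.cast_zero, zero_smul, add_zero]; rfl
    | succ n ih =>
      intro x
      rw [pow_succ, LinearEquiv.mul_apply, ih, hk', map_add (B a), map_smul (B a), haa, smul_zero, add_zero,
        Nat.cast_succ, add_smul, one_smul]
      abel
  have hkp : IsPGroup p (Subgroup.zpowers k) := fun w => by
    obtain ⟨n, hn⟩ := Subgroup.mem_zpowers_iff.mp w.2
    refine ⟨1, Subtype.ext ?_⟩
    change (w : V ≃ₗ[F] V) ^ p ^ 1 = 1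
    have hkp1 : k ^ p = 1 := LinearEquiv.ext fun x => by
      rw [hkpow, CharP.cast_eq_zero, zero_smul, add_zero]; rfl
    rw [pow_one, ← hn, ← zpow_natCast, ← zpow_mul, mul_comm, zpow_mul, zpow_natCast, hkp1, one_zpow]
  have hkW : Subgroup.zpowers k ≤ W := Subgroup.zpowers_le.2 ⟨hk, MulAction.mem_stabilizer_iff.mpr (by
    rw [LinearEquiv.smul_def, hk', hp.ab, hk1, zero_smul, add_zero])⟩
  obtain ⟨h, hhW, hconjP⟩ := TensorMax.conj_max_pgroup p hkW hPW hkp hP hPm
  have hhX : h ∈ X := hhW.1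
  have hhb : h b = b := MulAction.mem_stabilizer_iff.mp hhW.2
  have hhP := hconjP k (Subgroup.mem_zpowers k)
  have hkfix : ∀ t : E, h (k (h⁻¹ (t • b))) = t • b := by
    intro t
    have h1 := hquad (h * k * h⁻¹) (X.mul_mem (X.mul_mem hhX hk) (X.inv_mem hhX)) (hPl hhP) (fun x => ?_) t
    · rwa [LinearEquiv.mul_apply, LinearEquiv.mul_apply] at h1
    · obtain ⟨y, rfl⟩ := h.surjective x
      simp only [LinearEquiv.mul_apply, LinearEquiv.coe_inv, LinearEquiv.symm_apply_apply]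
      simp only [← map_nsmul h, ← map_sub h, ← map_add h, LinearEquiv.map_eq_zero_iff]
      simp only [hk', map_add, map_smul, haa, smul_zero, add_zero]
      abel
  have hval : ∀ t : E, ∃ s : F, algebraMap F E s = B a (h⁻¹ (t • b)) := fun t => by
    refine altMap_ker S.deg S.prime hr2 hτ₀ ?_
    have h1 : k (h⁻¹ (t • b)) = h⁻¹ (t • b) := by
      apply h.injective
      rw [hkfix]
      rw [LinearEquiv.coe_inv, LinearEquiv.apply_symm_apply]
    rw [hk', add_eq_left, smul_eq_zero] at h1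
    exact h1.resolve_right ha
  obtain ⟨ε, hε⟩ := trace_surj S (1 : F)
  obtain ⟨η, hη⟩ := exists_dual_elt (F := F) ((Algebra.trace F E).comp ((mulE ε).comp (((B a).restrictScalars F).comp
    ((h⁻¹ : V ≃ₗ[F] V).toLinearMap.comp ((LinearMap.toSpanSingleton E V b).restrictScalars F)))))
  have hval' : ∀ t : E, B a (h⁻¹ (t • b)) = algebraMap F E (tr (η * t)) := fun t => by
    obtain ⟨s, hs⟩ := hval t
    rw [hη]
    change _ = algebraMap F E (tr (ε * B a (h⁻¹ (t • b))))
    rw [← hs, mul_comm, ← Algebra.smul_def, map_smul, hε, smul_eq_mul, mul_one]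
  have hhb' : h⁻¹ b = b := by rw [LinearEquiv.coe_inv, LinearEquiv.symm_apply_eq, hhb]
  have hη0 : η ≠ 0 := fun e => by
    have h1 := hval' 1
    rw [one_smul, hhb', hp.ab, e, zero_mul, map_zero, map_zero] at h1
    exact one_ne_zero h1
  obtain ⟨γ', hd⟩ : ∃ t, altMap τ₀ t η ≠ 0 := by
    by_contra hcon
    push Not at hcon
    exact hη0 (altMap_at_one S.deg S.prime hr2 hτ₀ hcon)
  obtain ⟨d, hddef⟩ : ∃ d, d = altMap τ₀ γ' := ⟨_, rfl⟩
  rw [← hddef] at hd
  have hdL : d ∈ Lam B X := hddef ▸ hin γ'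
  obtain ⟨m, hm, hm'⟩ := hdL.2 b hb0 hp.bb
  obtain ⟨N, hN⟩ : ∃ N : V → V, ∀ x, N x = h⁻¹ (d (B b (h x)) • b) := ⟨_, fun x => rfl⟩
  obtain ⟨m', hm'def⟩ : ∃ m', m' = h⁻¹ * m * h := ⟨_, rfl⟩
  have hm'X : m' ∈ X := hm'def ▸ X.mul_mem (X.mul_mem (X.inv_mem hhX) hm) hhX
  have hm'a : ∀ x, m' x = x + N x := fun x => by
    rw [hm'def, LinearEquiv.mul_apply, LinearEquiv.mul_apply, hm', map_add, hN]
    congr 1
    rw [LinearEquiv.coe_inv, LinearEquiv.symm_apply_apply]
  have hhi := mem_iso S hX hhX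
  have hNskew : ∀ x z, polar Q (N x) z = -polar Q x (N z) := fun x z => by
    have e1 : polar Q (N x) z = tr (d (B b (h x)) * B b (h z)) := by
      rw [← ORefl.polar_iso hhi, hN, LinearEquiv.coe_inv, LinearEquiv.apply_symm_apply, S.polarQ, map_smul,
        LinearMap.smul_apply, smul_eq_mul]
    have e2 : polar Q x (N z) = tr (B b (h x) * d (B b (h z))) := by
      rw [← ORefl.polar_iso hhi, hN, LinearEquiv.coe_inv, LinearEquiv.apply_symm_apply, S.polarQ, map_smul,
        smul_eq_mul, S.symm (h x) b, mul_comm]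
    rw [e1, e2, hdL.1.skew]
  obtain ⟨u₀, hu₀⟩ : ∃ u₀, u₀ = -(h⁻¹ (d η • b)) := ⟨_, rfl⟩
  have hu₀p : ∀ x, polar Q u₀ x = -tr (d η * B b (h x)) := fun x => by
    rw [hu₀, polar_neg_left, ← ORefl.polar_iso hhi, LinearEquiv.coe_inv, LinearEquiv.apply_symm_apply, S.polarQ,
      map_smul, LinearMap.smul_apply, smul_eq_mul]
  have hBN : ∀ x, B a (N x) = algebraMap F E (polar Q u₀ x) := fun x => by
    rw [hN, hval', hu₀p, hdL.1.skew η (B b (h x)), neg_neg]
  have hu₀a : B a u₀ = 0 := by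
    rw [hu₀, map_neg, hval', mul_comm η, hdL.1, map_zero, neg_zero]
  have hQu₀ : Q u₀ = 0 := by
    rw [hu₀, QuadraticMap.map_neg, ← hhi, LinearEquiv.coe_inv, LinearEquiv.apply_symm_apply, q_line S hp.bb]
  have hu₀0 : u₀ ≠ 0 := fun e => by
    rw [hu₀, neg_eq_zero, LinearEquiv.map_eq_zero_iff, smul_eq_zero, or_iff_left hb0] at e
    exact hd e
  have hu₀N : ∀ x, polar Q u₀ (N x) = 0 := fun x => by
    rw [hu₀, polar_neg_left, hN, neg_eq_zero, ← ORefl.polar_iso hhi, LinearEquiv.coe_inv,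
      LinearEquiv.apply_symm_apply, LinearEquiv.apply_symm_apply, polar_line S hp.bb]
  have hNa : ∀ l : E, N (l • a) = -(tr l) • u₀ := fun l => by
    refine sub_eq_zero.mp (pnd S _ fun z => ?_)
    rw [polar_sub_left, hNskew, polar_smul_left, S.polarQ, map_smul, LinearMap.smul_apply, smul_eq_mul, hBN,
      mul_comm, ← Algebra.smul_def, map_smul, smul_eq_mul, smul_eq_mul]
    ring
  -- a second element
  have hne : θ - τ₀⁻¹ θ ≠ 0 := fun e0 => by
    obtain ⟨t, ht⟩ := fixed_gal S.deg S.prime (inv_ne_one.mpr hτ₀) (sub_eq_zero.mp e0).symm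
    exact hθ t ht
  have hsum : θ + τ₀⁻¹ θ ≠ 0 := fun e0 => by
    have e3 : τ₀⁻¹ θ = -θ := eq_neg_of_add_eq_zero_right e0
    have e4 : (τ₀⁻¹ * τ₀⁻¹) θ = θ := by rw [AlgEquiv.mul_apply, e3, map_neg, e3, neg_neg]
    obtain ⟨t, ht⟩ := fixed_gal S.deg S.prime (gal_sq_ne S.deg S.prime hr2 (inv_ne_one.mpr hτ₀)) e4
    exact hθ t ht
  have hv1 : ∀ γ : E, altMap τ₀ γ 1 = γ - τ₀⁻¹ γ := fun γ => by
    rw [altMap_apply, map_one, mul_one]
  obtain ⟨γ, hγne, hγ⟩ : ∃ γ : E, altMap τ₀ γ 1 ≠ 0 ∧ ∀ t : F, u₀ ≠ t • (altMap τ₀ γ 1 • a) := by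
    by_contra hcon
    push Not at hcon
    obtain ⟨t₁, h1⟩ := hcon θ (by rw [hv1]; exact hne)
    obtain ⟨t₂, h2⟩ := hcon (θ * θ) (by
      rw [hv1, map_mul, mul_self_sub_mul_self]
      exact mul_ne_zero hsum hne)
    have e := h1.symm.trans h2
    rw [← IsScalarTower.algebraMap_smul E t₁, ← IsScalarTower.algebraMap_smul E t₂, smul_smul, smul_smul] at e
    have e' := smul_left_injective E ha e
    simp only [altMap_apply, map_one, mul_one, map_mul] at e'
    have e'' : algebraMap F E t₁ = algebraMap F E t₂ * (θ + τ₀⁻¹ θ) := by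
      refine mul_right_cancel₀ hne ?_
      linear_combination e'
    have ht₂ : t₂ ≠ 0 := fun e0 => hu₀0 (by rw [h2, e0, zero_smul])
    have e3 : τ₀⁻¹ θ = algebraMap F E (t₁ / t₂) - θ := by
      rw [map_div₀, eq_sub_iff_add_eq, eq_div_iff ((map_ne_zero _).mpr ht₂)]
      linear_combination -e''
    have e4 : (τ₀⁻¹ * τ₀⁻¹) θ = θ := by
      rw [AlgEquiv.mul_apply, e3, map_sub, AlgEquiv.commutes, e3]; ring
    obtain ⟨t, ht⟩ := fixed_gal S.deg S.prime (gal_sq_ne S.deg S.prime hr2 (inv_ne_one.mpr hτ₀)) e4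
    exact hθ t ht
  obtain ⟨c, hcdef⟩ : ∃ c, c = altMap τ₀ γ := ⟨_, rfl⟩
  rw [← hcdef] at hγ hγne
  have hcL : c ∈ Lam B X := hcdef ▸ hin γ
  obtain ⟨n, hn, hn'⟩ := hcL.2 a ha haa
  obtain ⟨w, hw⟩ : ∃ w, w = c 1 • a := ⟨_, rfl⟩
  have hQw : Q w = 0 := hw ▸ q_line S haa _
  have htrc : tr (c 1) = 0 := by
    have := hcL.1 1
    rwa [mul_one] at this
  have hpw : polar Q u₀ w = 0 := by
    rw [hw, polar_comm, S.polarQ, map_smul, LinearMap.smul_apply, hu₀a, smul_zero, map_zero]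
  have hroot : InX Q X u₀ w := by
    refine ⟨n * m' * (m' * n)⁻¹, X.mul_mem (X.mul_mem hn hm'X) (X.inv_mem (X.mul_mem hm'X hn)), fun y => ?_⟩
    obtain ⟨x, rfl⟩ := (m' * n).surjective y
    rw [LinearEquiv.mul_apply, LinearEquiv.coe_inv, LinearEquiv.symm_apply_apply]
    have e1 : (n * m') x = x + N x + c (B a x) • a + polar Q u₀ x • w := by
      rw [LinearEquiv.mul_apply, hm'a, hn', map_add (B a), hBN, map_add, Algebra.algebraMap_eq_smul_one,
        c.map_smul, add_smul, smul_assoc, hw, add_assoc (x + N x)]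
    have e2 : (m' * n) x = x + c (B a x) • a + N x + polar Q w x • u₀ := by
      rw [LinearEquiv.mul_apply, hn', hm'a]
      have hadd : N (x + c (B a x) • a) = N x + N (c (B a x) • a) := by
        simp only [hN, map_add, add_smul]
      have ht : tr (c (B a x)) = -polar Q w x := by
        have := hcL.1.skew (B a x) 1
        rw [mul_one] at this
        rw [this, hw, S.polarQ, map_smul, LinearMap.smul_apply, smul_eq_mul, mul_comm]
      rw [hadd, hNa, ht, neg_neg]
      abel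
    have hwN : polar Q w (N x) = 0 := by
      rw [hw, S.polarQ, map_smul, LinearMap.smul_apply, smul_eq_mul, hBN, mul_comm, ← Algebra.smul_def, map_smul,
        htrc, smul_zero]
    have h1 : polar Q u₀ (c (B a x) • a) = 0 := by
      rw [polar_comm, S.polarQ, map_smul, LinearMap.smul_apply, hu₀a, smul_zero, map_zero]
    have h2 : polar Q w (c (B a x) • a) = 0 := hw ▸ polar_line S haa _ _
    rw [e1, ORefl.siegelMap_apply, e2, hQw]
    simp only [polar_add_right, polar_smul_right, hu₀N, hwN, h1, h2, hpw, OCount.polar_self_zero hQu₀, polar_comm Q w u₀,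
      smul_zero, add_zero, zero_mul]
    module
  have hwne : w ≠ 0 := hw ▸ smul_ne_zero hγne ha
  have hww : B w w = 0 := by rw [hw, map_smul, map_smul, LinearMap.smul_apply, haa, smul_zero, smul_zero]
  obtain ⟨θ'', hθ'', hin''⟩ := bottom S hX hwne hww (x := -u₀)
    (by rw [map_neg, hw, map_smul, LinearMap.smul_apply, hu₀a, smul_zero, neg_zero])
    (fun t e => hγ (-t) (by rw [neg_smul, ← hw, ← e, neg_neg]))
    (hroot.swap hQu₀ hQw hpw)
  exact ⟨w, θ'', hwne, hww, hθ'', hin''⟩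

end Cfsg.Agent.Classical.FieldExt.Orth
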