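/-
A root element inside a line over the big field gives the whole derived group.
-/
import Cfsg.Agent.Lib.Classical.FieldExt.Orth.Alt

set_option autoImplicit false
set_option linter.style.haveILetI false
set_option linter.unusedSectionVars false

namespace Cfsg.Agent.Classical.FieldExt.Orth

open Module QuadraticMap
open Cfsg.Agent.Classical

variable {F E V : Type*} [Field F] [Field E] [Algebra F E] [Finite E] [AddCommGroup V] [Module F V] [Module E V]
  [IsScalarTower F E V] [Finite V]

/-- The trace. -/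
local notation "tr" => Algebra.trace F E

/-- Every root element at `a` in the perp over the big field. -/
def PerpIn (B : V →ₗ[E] V →ₗ[E] E) (Q : QuadraticForm F V) (X : Subgroup (V ≃ₗ[F] V)) (a : V) : Prop :=
  ∀ x, B a x = 0 → InX Q X a x

variable {B : V →ₗ[E] V →ₗ[E] E} {Q : QuadraticForm F V} {r : ℕ} {X : Subgroup (V ≃ₗ[F] V)}

variable (S : Setup B Q r) (hX : Over E Q X)

include S hX

omit hX in
theorem polar_perp {a x : V} (h : B a x = 0) : polar Q a x = 0 := by rw [S.polarQ, h, map_zero]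

/-- Differences of a root element under a Siegel element. -/
theorem diff_in {a a₁ y v : V} (haa : B a a = 0) (ha₁ : B a₁ a₁ = 0) (hy : B a₁ y = 0) (haa₁ : B a a₁ = 0)
    (hay : B a y = 0) (hv : polar Q a v = 0) (h : InX Q X a v) :
    InX Q X a (B a₁ v • y - (B y v + qE B y * B a₁ v) • a₁) := by
  have hu := u_mem S hX ha₁ hy
  have h1 := h.conj hu (mem_iso S hX hu)
  have e : u S ha₁ hy a = a := by
    rw [u_apply, S.symm a₁ a, haa₁, S.symm y a, hay]; simp
  rw [e] at h1
  have hp : polar Q a (u S ha₁ hy v) = 0 := by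
    conv_lhs => rw [← e]
    rw [ORefl.polar_iso (mem_iso S hX hu), hv]
  have h2 := h1.sub (q_zero S haa) hp hv h
  convert h2 using 1
  rw [u_apply]
  abel

/-- A root element leaving the perp gives the whole perp. -/
theorem perpIn_of_top {a v : V} (ha : a ≠ 0) (haa : B a a = 0) (hv : polar Q a v = 0) (hne : B a v ≠ 0)
    (h : InX Q X a v) : PerpIn B Q X a := by
  have hQa := q_zero S haa
  obtain ⟨γ, hγ⟩ : ∃ γ, γ = B a v := ⟨_, rfl⟩
  rw [← hγ] at hne
  obtain ⟨D, hD⟩ : ∃ D : V → V, ∀ z, D z = γ • z - (B z v + qE B z * γ) • a := ⟨_, fun z => rfl⟩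
  have hDp : ∀ z, B a z = 0 → polar Q a (D z) = 0 := fun z hz => polar_perp S (by rw [hD]; simp [hz, haa])
  have hDin : ∀ z, B a z = 0 → InX Q X a (D z) := fun z hz => by
    rw [hD, hγ]
    exact diff_in S hX haa haa hz haa hz hv h
  have hline : ∀ s : E, InX Q X a (s • a) := by
    intro s
    obtain ⟨b, hp⟩ := exists_partner S ha haa
    obtain ⟨y, hy, -, hyy⟩ := hp.exists_aniso S
    obtain ⟨z, hz⟩ : ∃ z, z = (-(s / (γ * B y y))) • y := ⟨_, rfl⟩
    have hza : B a z = 0 := by rw [hz, map_smul, hy, smul_zero]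
    have hyz : B a (y + z) = 0 := by rw [map_add, hy, hza, add_zero]
    have h1 := (hDin _ hyz).sub hQa (hDp _ hyz) (hDp y hy) (hDin y hy)
    have h2 := h1.sub hQa (by rw [polar_sub_right, hDp _ hyz, hDp y hy, sub_zero]) (hDp z hza) (hDin z hza)
    convert h2 using 1
    simp only [hD, map_add, LinearMap.add_apply, qE_add S, hz, map_smul, qE_smul S, smul_eq_mul]
    match_scalars <;> field_simp <;> ring
  intro x hx
  obtain ⟨z, hz⟩ : ∃ z, z = γ⁻¹ • x := ⟨_, rfl⟩
  have hza : B a z = 0 := by rw [hz, map_smul, hx, smul_zero]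
  have h1 := (hDin z hza).add hQa (hDp z hza) (polar_perp S (by rw [map_smul, haa, smul_zero]))
    (hline (B z v + qE B z * γ))
  convert h1 using 1
  rw [hD, sub_add_cancel, hz, smul_smul, mul_inv_cancel₀ hne, one_smul]

/-- Exact moves carry the whole perp. -/
theorem perpIn_move (hT : Trans B X) {a a' : V} (ha : a ≠ 0) (haa : B a a = 0) (ha' : a' ≠ 0)
    (haa' : B a' a' = 0) (h : PerpIn B Q X a) : PerpIn B Q X a' := by
  obtain ⟨k, hk, t, ht, -, hkB, hka⟩ := hT.move ha haa ha' haa'
  intro x hx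
  obtain ⟨z, hz⟩ := k.surjective (t⁻¹ • x)
  have hz0 : B a z = 0 := by
    rw [← hkB, hka, hz, LinearMap.map_smul_of_tower, LinearMap.map_smul_of_tower, LinearMap.smul_apply, hx,
      smul_zero, smul_zero]
  have h1 := (h z hz0).conj hk (mem_iso S hX hk)
  rw [hka, hz] at h1
  have h2 := h1.smul_left
  rwa [smul_smul, mul_inv_cancel₀ ht, one_smul] at h2

omit hX in
/-- A root element inside a line as a map moving along the line. -/
theorem inX_iff_zx {a : V} (haa : B a a = 0) (θ : E) :
    InX Q X a (θ • a) ↔ ZX B X a (rootMap (F := F) (1 : E) θ) := by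
  have key : ∀ x, ORefl.siegelMap Q a (θ • a) x = x + rootMap (F := F) (1 : E) θ (B a x) • a := fun x => by
    rw [ORefl.siegelMap_apply, q_line S haa, zero_mul, add_zero, rootMap_apply, S.polarQ, S.polarQ, sub_smul,
      smul_assoc, smul_assoc, one_smul, one_mul, map_smul B, LinearMap.smul_apply, smul_eq_mul]
    abel
  constructor
  · rintro ⟨g, hg, hg'⟩
    exact ⟨g, hg, fun x => by rw [hg', key]⟩
  · rintro ⟨g, hg, hg'⟩
    exact ⟨g, hg, fun x => by rw [hg', key]⟩

theorem inX_move (hT : Trans B X) {a a' : V} (ha : a ≠ 0) (haa : B a a = 0) (ha' : a' ≠ 0) (haa' : B a' a' = 0)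
    {θ : E} (h : InX Q X a (θ • a)) : InX Q X a' (θ • a') :=
  (inX_iff_zx S haa' θ).mpr (hT.zx ha haa ha' haa' ((inX_iff_zx S haa θ).mp h))

/-- All root elements at singular vectors of the big form. -/
theorem all_at {a : V} (ha : a ≠ 0) (haa : B a a = 0) (h : ∀ a', a' ≠ 0 → B a' a' = 0 → PerpIn B Q X a') (v : V)
    (hv : polar Q a v = 0) : InX Q X a v := by
  obtain ⟨b, hp⟩ := exists_partner S ha haa
  obtain ⟨γ, hγ⟩ : ∃ γ, γ = B a v := ⟨_, rfl⟩
  have hP : B a (v - γ • b) = 0 := by rw [map_sub, map_smul, hp.ab, hγ, smul_eq_mul, mul_one, sub_self]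
  by_cases h0 : γ = 0
  · exact h a ha haa v (hγ ▸ h0)
  obtain ⟨f, hf⟩ : ∃ f, f = γ • b := ⟨_, rfl⟩
  have hff : B f f = 0 := by rw [hf, map_smul, map_smul, LinearMap.smul_apply, hp.bb, smul_zero, smul_zero]
  have hpf : polar Q a f = 0 := by
    rw [S.polarQ, hf, map_smul, hp.ab, smul_eq_mul, mul_one, hγ, ← S.polarQ, hv]
  have hfne : f ≠ 0 := hf ▸ smul_ne_zero h0 (hp.ne' S)
  obtain ⟨z, hza, hzb, hzz⟩ := hp.exists_aniso S
  obtain ⟨l, hl⟩ := trace_surj S (-1 : F)
  obtain ⟨z', hz'⟩ : ∃ z', z' = (l / B z z) • z := ⟨_, rfl⟩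
  have hzf : B f z = 0 := by rw [hf, map_smul, LinearMap.smul_apply, hzb, smul_zero]
  have hzf' : B f z' = 0 := by rw [hz', map_smul, hzf, smul_zero]
  have hza' : B a z' = 0 := by rw [hz', map_smul, hza, smul_zero]
  have hzz' : polar Q z' z = -1 := by
    rw [S.polarQ, hz', map_smul, LinearMap.smul_apply, smul_eq_mul, div_mul_cancel₀ _ hzz, hl]
  have h1 := InX.trick (inX_iso' S hX) (q_zero S haa) (polar_perp S hza) (by rw [polar_comm]; exact hpf)
    (polar_perp S hzf) (by rw [polar_comm]; exact polar_perp S hza') (h f hfne hff z' hzf') (h a ha haa z hza)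
  rw [hzz', neg_neg, one_smul] at h1
  have h2 := (h a ha haa _ hP).add (q_zero S haa) (polar_perp S hP) hpf h1
  rwa [hf, sub_add_cancel] at h2
where
  inX_iso' (S : Setup B Q r) (hX : Over E Q X) : ∀ g ∈ X, g ∈ ORefl.Iso Q := fun _ hg => mem_iso S hX hg

/-- All root elements at singular vectors of the big form give the whole derived group. -/
theorem eq_om (h : ∀ a, a ≠ 0 → B a a = 0 → ∀ v, polar Q a v = 0 → InX Q X a v) : X = Om Q := by
  classical
  haveI := finiteF S
  haveI : Module.Finite F V := Module.Finite.of_finite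
  refine le_antisymm hX.le ?_
  rintro _ ⟨g, hg, rfl⟩
  rw [SetLike.mem_coe, OOmega.commutator_eq_root S.two (pnd S) (dimF S)] at hg
  suffices hle : OOmega.rootGroup Q ≤ X.comap (ORefl.Iso Q).subtype from hle hg
  refine (Subgroup.closure_le _).mpr ?_
  rintro s ⟨e, v, he, hv, -, hs⟩
  suffices hIn : InX Q X e v by
    obtain ⟨k, hk, hk'⟩ := hIn
    have e1 : s.1 = k := hs ▸ LinearEquiv.ext fun x => (hk' x).symm
    rw [SetLike.mem_coe, Subgroup.mem_comap, Subgroup.subtype_apply, e1]
    exact hk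
  by_cases he0 : e = 0
  · subst he0
    exact ⟨1, X.one_mem, fun x => by simp [ORefl.siegelMap_apply]⟩
  -- a singular vector of the big form not perpendicular to `e`
  obtain ⟨a₂, ha₂, ha₂0, hae⟩ : ∃ a₂, B a₂ a₂ = 0 ∧ a₂ ≠ 0 ∧ polar Q a₂ e ≠ 0 := by
    by_contra hcon
    push Not at hcon
    have hall : ∀ a, B a a = 0 → B a e = 0 := fun a ha => B_zero_of_polar S fun d => by
      by_cases h0 : d • a = 0
      · rw [h0, polar_zero_left]
      · exact hcon _ (by rw [map_smul, map_smul, LinearMap.smul_apply, ha, smul_zero, smul_zero]) h0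
    obtain ⟨a, ha, haa⟩ := exists_singular_ne S
    obtain ⟨b, hp⟩ := exists_partner S ha haa
    refine he0 (S.nd e fun x => ?_)
    obtain ⟨h1, h2⟩ := hp.split S x
    obtain ⟨y, hy⟩ : ∃ y, y = x - B b x • a - B a x • b := ⟨_, rfl⟩
    rw [← hy] at h1 h2
    obtain ⟨w, hw⟩ : ∃ w, w = (-qE B y) • a + b + y := ⟨_, rfl⟩
    have hww : B w w = 0 := by
      rw [hw, ← qE_zero_iff S, qE_add S, qE_add S, qE_smul S, show qE B a = 0 from (qE_zero_iff S).mpr haa,
        show qE B b = 0 from (qE_zero_iff S).mpr hp.bb]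
      simp [hp.ab, h1, h2]
    have e1 := hall w hww
    rw [hw] at e1
    simp [hall a haa, hall b hp.bb] at e1
    have e2 : x = B b x • a + B a x • b + y := by rw [hy]; abel
    rw [S.symm, e2]
    simp [hall a haa, hall b hp.bb, e1]
  obtain ⟨b, hp⟩ := exists_partner S ha₂0 ha₂
  obtain ⟨l, hl⟩ := trace_surj S (1 : F)
  obtain ⟨a, ha⟩ : ∃ a, a = l • b := ⟨_, rfl⟩
  have hl0 : l ≠ 0 := fun e => one_ne_zero (α := F) (by rw [← hl, e, map_zero])
  have haa : B a a = 0 := by rw [ha, map_smul, map_smul, LinearMap.smul_apply, hp.bb, smul_zero, smul_zero]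
  have hpa : polar Q a₂ a = 1 := by rw [S.polarQ, ha, map_smul, hp.ab, smul_eq_mul, mul_one, hl]
  obtain ⟨π, hπ⟩ : ∃ π, π = polar Q a₂ e := ⟨_, rfl⟩
  rw [← hπ] at hae
  obtain ⟨e', he'⟩ : ∃ e', e' = π⁻¹ • e := ⟨_, rfl⟩
  have hpe : polar Q a₂ e' = 1 := by rw [he', polar_smul_right, ← hπ, smul_eq_mul, inv_mul_cancel₀ hae]
  have hQe : Q e' = 0 := by rw [he', QuadraticMap.map_smul, he, smul_zero]
  have hQa := q_zero S haa
  have hQ2 := q_zero S ha₂
  have hpd : polar Q a₂ (e' - a) = 0 := by rw [polar_sub_right, hpe, hpa, sub_self]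
  obtain ⟨k, hk, hk'⟩ := h a₂ ha₂0 ha₂ _ hpd
  have hka : k a = e' := by
    rw [hk', ORefl.siegelMap_apply, hpa, one_smul, polar_sub_left, OCount.polar_self_zero hQa, sub_zero,
      sub_eq_add_neg e' a, QuadraticMap.map_add Q, hQe, QuadraticMap.map_neg, hQa, polar_neg_right]
    simp
  obtain ⟨y, hy⟩ := k.surjective (π • v)
  have hay : polar Q a y = 0 := by
    rw [← ORefl.polar_iso (mem_iso S hX hk), hka, hy, he', polar_smul_left, polar_smul_right, hv, smul_zero, smul_zero]
  have hin := (h a (ha ▸ smul_ne_zero hl0 (hp.ne' S)) haa y hay).conj hk (mem_iso S hX hk)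
  rw [hka, hy, he'] at hin
  have := hin.smul_left π⁻¹
  rwa [smul_smul, inv_mul_cancel₀ hae, one_smul] at this

/-- A rotation of the plane perpendicular to a hyperbolic pair. -/
def rotMap (B : V →ₗ[E] V →ₗ[E] E) (y z : V) (α β : E) : V →ₗ[E] V :=
  LinearMap.id + (LinearMap.toSpanSingleton E V ((α - 1) • y + β • z)).comp ((B y y)⁻¹ • B y) +
    (LinearMap.toSpanSingleton E V ((α - 1) • z - (B z z / B y y * β) • y)).comp ((B z z)⁻¹ • B z)

omit S hX in
theorem rotMap_apply (y z : V) (α β : E) (x : V) : rotMap B y z α β x = x + ((B y y)⁻¹ * B y x) • ((α - 1) • y + β • z)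
    + ((B z z)⁻¹ * B z x) • ((α - 1) • z - (B z z / B y y * β) • y) := rfl

omit hX in
theorem rot_inv {y z : V} (hy : B y y ≠ 0) (hz : B z z ≠ 0) (hyz : B y z = 0) {α β : E}
    (h : α * α + B z z / B y y * (β * β) = 1) (x : V) : rotMap B y z α β (rotMap B y z α (-β) x) = x := by
  have hzy : B z y = 0 := by rw [S.symm, hyz]
  rw [div_mul_eq_mul_div, ← eq_sub_iff_add_eq', div_eq_iff hy] at h
  simp only [rotMap_apply, map_add, map_sub, map_smul, hyz, hzy, smul_eq_mul]
  match_scalars <;> field_simp <;> grind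

omit hX in
theorem rot_B {y z : V} (hy : B y y ≠ 0) (hz : B z z ≠ 0) (hyz : B y z = 0) {α β : E}
    (h : α * α + B z z / B y y * (β * β) = 1) (x : V) :
    B (rotMap B y z α β x) (rotMap B y z α β x) = B x x := by
  have hzy : B z y = 0 := by rw [S.symm, hyz]
  rw [div_mul_eq_mul_div, ← eq_sub_iff_add_eq', div_eq_iff hy] at h
  simp only [rotMap_apply, map_add, map_sub, map_smul, LinearMap.add_apply, LinearMap.sub_apply, LinearMap.smul_apply,
    hyz, hzy, S.symm x y, S.symm x z, smul_eq_mul]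
  field_simp
  grind

omit hX in
/-- The squares of the cosines of the rotations generate the whole field. -/
theorem cos_generate (hr : r = 2) {d : E} (hd : ¬ IsSquare (-d)) {L : Subring E}
    (hL : ∀ α β : E, α * α + d * (β * β) = 1 → α * α ∈ L) : L = ⊤ := by
  classical
  haveI := finiteF S
  letI := Fintype.ofFinite E
  letI := Fintype.ofFinite L
  letI := Fintype.ofFinite F
  haveI := finiteDimensional (F := F) (E := E)
  have h2 := two_E S
  have hcard : Fintype.card E = Fintype.card F ^ 2 := by rw [Module.card_eq_pow_finrank (K := F), S.deg, hr]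
  have hodd : Fintype.card F % 2 = 1 := FiniteField.odd_card_of_char_ne_two fun hc => S.two (by
    haveI := ringChar.of_eq hc
    exact CharTwo.two_eq_zero)
  have hm1 : IsSquare (-1 : E) := by
    rw [FiniteField.isSquare_neg_one_iff, hcard]
    obtain ⟨k, hk⟩ : ∃ k, Fintype.card F = 2 * k + 1 := ⟨Fintype.card F / 2, by omega⟩
    rw [hk, show (2 * k + 1) ^ 2 = 4 * (k * k + k) + 1 by ring]
    omega
  have hden : ∀ s : E, 1 + d * (s * s) ≠ 0 := fun s e => hd (by
    have hs : s ≠ 0 := fun e0 => by rw [e0] at e; simp at e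
    exact ⟨s⁻¹, by field_simp; linear_combination -e⟩)
  obtain ⟨fα, hfα⟩ : ∃ fα : E → E, ∀ s, fα s = (1 - d * (s * s)) / (1 + d * (s * s)) := ⟨_, fun _ => rfl⟩
  have hmem : ∀ s, fα s * fα s ∈ L := fun s => hL _ (2 * s / (1 + d * (s * s))) (by
    rw [hfα, div_mul_div_comm, div_mul_div_comm, mul_div_assoc', ← add_div,
      div_eq_one_iff_eq (mul_ne_zero (hden s) (hden s))]
    ring)
  have hne : ∀ s, fα s ≠ 0 := fun s e => by
    rw [hfα, div_eq_zero_iff, or_iff_left (hden s), sub_eq_zero] at e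
    refine hd ?_
    obtain ⟨i, hi⟩ := hm1
    have hs : s ≠ 0 := fun e0 => by rw [e0] at e; simp at e
    exact ⟨i / s, by field_simp; linear_combination e + hi⟩
  obtain ⟨A, hA⟩ : ∃ A : Finset E, A = Finset.univ.image fα := ⟨_, rfl⟩
  have hd0 : d ≠ 0 := fun e => hd (by rw [e, neg_zero]; exact ⟨0, (mul_zero 0).symm⟩)
  have hA1 : Fintype.card E + 1 ≤ 2 * A.card := by
    obtain ⟨B₀, hB₀⟩ : ∃ B₀ : Finset E, B₀ = Finset.univ.image fun s : E => s * s := ⟨_, rfl⟩
    have h1 : A = B₀.image fun u => (1 - d * u) / (1 + d * u) := by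
      rw [hA, hB₀, Finset.image_image]
      exact congrArg (fun f => Finset.univ.image f) (funext hfα)
    have hinj : A.card = B₀.card := by
      rw [h1]
      refine Finset.card_image_of_injOn fun u hu u' hu' e => ?_
      simp only [hB₀, Finset.coe_image, Set.mem_image] at hu hu'
      obtain ⟨s, -, rfl⟩ := hu
      obtain ⟨s', -, rfl⟩ := hu'
      have h1' := hden s
      have h2' := hden s'
      rw [div_eq_div_iff h1' h2'] at e
      exact mul_left_cancel₀ (mul_ne_zero h2 hd0) (by linear_combination -e)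
    have h3 : ((Finset.univ : Finset E).erase 0).card ≤ 2 * (B₀.erase 0).card := by
      refine Finset.card_le_mul_card_image_of_maps_to (f := fun s : E => s * s) (t := B₀.erase 0) (fun s hs => ?_) 2
        fun b _ => ?_
      · rw [hB₀]
        simpa using Finset.ne_of_mem_erase hs
      · by_cases hb : ∃ s₀, s₀ * s₀ = b
        · obtain ⟨s₀, hs₀⟩ := hb
          refine (Finset.card_le_card (t := {s₀, -s₀}) fun s hs => ?_).trans Finset.card_le_two
          simp only [Finset.mem_filter] at hs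
          simpa using mul_self_eq_mul_self_iff.mp (hs.2.trans hs₀.symm)
        · rw [Finset.card_eq_zero.mpr (Finset.filter_eq_empty_iff.mpr fun s _ e => hb ⟨s, e⟩)]
          omega
    have h4 : (B₀.erase 0).card + 1 = B₀.card := Finset.card_erase_add_one (by simp [hB₀])
    have h5 : ((Finset.univ : Finset E).erase 0).card + 1 = Fintype.card E := Finset.card_erase_add_one (Finset.mem_univ _)
    omega
  by_contra hne'
  -- a proper subring is a small subfield
  have hLf : IsField L := Finite.isDomain_to_isField L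
  letI := hLf.toField
  letI : Algebra L E := L.subtype.toAlgebra
  have hpow := Module.card_eq_pow_finrank (K := L) (V := E)
  have hL2 : Fintype.card L * Fintype.card L ≤ Fintype.card E := by
    rw [hpow]
    have hge : 2 ≤ finrank L E := by
      by_contra hlt
      have h1 : 1 ≤ finrank L E := Module.finrank_pos
      rw [show finrank L E = 1 by omega, pow_one] at hpow
      refine hne' (eq_top_iff.mpr fun x _ => ?_)
      have hbij : Function.Bijective (L.subtype) :=
        (Fintype.bijective_iff_injective_and_card _).mpr ⟨Subtype.val_injective, hpow.symm⟩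
      obtain ⟨y, hy⟩ := hbij.2 x
      exact hy ▸ y.2
    calc Fintype.card L * Fintype.card L = Fintype.card L ^ 2 := (pow_two _).symm
      _ ≤ Fintype.card L ^ finrank L E := Nat.pow_le_pow_right Fintype.card_pos hge
  have hLq : Fintype.card L ≤ Fintype.card F := by
    rw [hcard, pow_two] at hL2
    exact Nat.mul_self_le_mul_self_iff.mp hL2
  obtain ⟨C, hC⟩ : ∃ C : Finset E, C = (Finset.univ.image fun l : L => (l : E)).erase 0 := ⟨_, rfl⟩
  have hAC : A.card ≤ 2 * C.card := by
    refine Finset.card_le_mul_card_image_of_maps_to (f := fun x : E => x * x) (fun x hx => ?_) 2 fun b _ => ?_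
    · rw [hA, Finset.mem_image] at hx
      obtain ⟨s, -, rfl⟩ := hx
      rw [hC, Finset.mem_erase, Finset.mem_image]
      exact ⟨mul_ne_zero (hne s) (hne s), ⟨_, hmem s⟩, Finset.mem_univ _, rfl⟩
    · by_cases hb : ∃ s₀, s₀ * s₀ = b
      · obtain ⟨s₀, hs₀⟩ := hb
        refine (Finset.card_le_card (t := {s₀, -s₀}) fun s hs => ?_).trans Finset.card_le_two
        simp only [Finset.mem_filter] at hs
        simpa using mul_self_eq_mul_self_iff.mp (hs.2.trans hs₀.symm)
      · rw [Finset.card_eq_zero.mpr (Finset.filter_eq_empty_iff.mpr fun s _ e => hb ⟨s, e⟩)]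
        omega
  have hC1 : C.card + 1 ≤ Fintype.card L := by
    rw [hC, Finset.card_erase_add_one (by simp)]
    exact Finset.card_image_le
  have hq3 : 3 ≤ Fintype.card F := by have := Fintype.one_lt_card (α := F); omega
  have key : Fintype.card F * Fintype.card F + 1 + 4 ≤ 4 * Fintype.card F := by
    rw [hcard, pow_two] at hA1
    omega
  have h3q := Nat.mul_le_mul_right (Fintype.card F) hq3
  rcases Nat.lt_or_ge (Fintype.card F) 4 with h | h
  · rw [show Fintype.card F = 3 by omega] at key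
    omega
  · have := Nat.mul_le_mul_right (Fintype.card F) h
    omega

/-- The climb in dimension four, when the plane perpendicular to a hyperbolic pair has no singular vector. -/
theorem climb_four (h4 : finrank E V = 4) (hr : r = 2)
    (hpl : ∀ a c : V, a ≠ 0 → B a a = 0 → B c c = 0 → B a c = 0 → ∃ l : E, c = l • a)
    {a b x : V} (hp : HP B a b) (hax : B a x = 0) (hne : x ≠ B b x • a) (h : InX Q X a x) : PerpIn B Q X a := by
  classical
  have hQa := q_zero S hp.aa
  have hba : B b a = 1 := by rw [S.symm, hp.ab]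
  have hpa : ∀ {v : V}, B a v = 0 → polar Q a v = 0 := fun hv => polar_perp S hv
  have hline : ∀ s : E, InX Q X a (s • a) := by
    intro s
    obtain ⟨z₀, hz₀, hz₀x⟩ : ∃ z₀, B a z₀ = 0 ∧ B z₀ x ≠ 0 := by
      by_contra hcon
      push Not at hcon
      exact hne (hp.mem_line S hcon)
    obtain ⟨z, hz⟩ : ∃ z, z = (-s / B z₀ x) • z₀ := ⟨_, rfl⟩
    have hza : B a z = 0 := by rw [hz, map_smul, hz₀, smul_zero]
    have hzx : B z x = -s := by rw [hz, map_smul, LinearMap.smul_apply, smul_eq_mul, div_mul_cancel₀ _ hz₀x]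
    have h1 := diff_in S hX hp.aa hp.aa hza hp.aa hza (polar_perp S hax) h
    rw [hax, hzx] at h1
    simpa using h1
  obtain ⟨y, hy⟩ : ∃ y, y = x - B b x • a := ⟨_, rfl⟩
  have hya : B a y = 0 := by rw [hy, map_sub, map_smul, hax, hp.aa, smul_zero, sub_zero]
  have hyb : B b y = 0 := by rw [hy, map_sub, map_smul, hba, smul_eq_mul, mul_one, sub_self]
  have hyin : InX Q X a y := hy ▸ h.sub hQa (hpa hax) (hpa (by rw [map_smul, hp.aa, smul_zero])) (hline _)
  have hy0 : y ≠ 0 := fun e => hne (sub_eq_zero.mp (hy ▸ e))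
  have hW : ∀ v, B a v = 0 → B b v = 0 → v ≠ 0 → B v v ≠ 0 := fun v hva hvb hv0 hvv => by
    obtain ⟨l, rfl⟩ := hpl a v (hp.ne S) hp.aa hvv hva
    rw [map_smul, hba, smul_eq_mul, mul_one] at hvb
    exact hv0 (by rw [hvb, zero_smul])
  have hyy := hW y hya hyb hy0
  obtain ⟨z, hza, hzb, hyz, hzz⟩ := hp.exists_aniso_perp S h4.ge hya hyb hyy
  have hzy : B z y = 0 := by rw [S.symm, hyz]
  obtain ⟨d, hd⟩ : ∃ d, d = B z z / B y y := ⟨_, rfl⟩
  have hdsq : ¬ IsSquare (-d) := fun ⟨t, ht⟩ => by
    refine hW (t • y + z) (by rw [map_add, map_smul, hya, hza, smul_zero, add_zero])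
      (by rw [map_add, map_smul, hyb, hzb, smul_zero, add_zero]) (fun e => hzz ?_) ?_
    · have := congrArg (B z) e
      rwa [map_add, map_smul, hzy, smul_zero, zero_add, map_zero] at this
    · simp only [map_add, map_smul, LinearMap.add_apply, LinearMap.smul_apply, hyz, hzy, smul_eq_mul]
      rw [hd] at ht
      field_simp at ht
      linear_combination -ht
  have rots : ∀ α β : E, α * α + d * (β * β) = 1 → ∃ g ∈ X, g a = a ∧ (∀ (c : E) v, g (c • v) = c • g v) ∧
      g y = (2 * (α * α) - 1) • y + (2 * α * β) • z ∧ g z = (-(d * (2 * α * β))) • y + (2 * (α * α) - 1) • z := by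
    intro α β h
    have h' : α * α + B z z / B y y * (-β * -β) = 1 := by rw [← hd, neg_mul_neg]; exact h
    rw [hd] at h
    obtain ⟨g, hg⟩ : ∃ g : V ≃ₗ[F] V, ∀ v, g v = rotMap B y z α β v :=
      ⟨LinearEquiv.ofLinearMap ((rotMap B y z α β).restrictScalars F) ((rotMap B y z α (-β)).restrictScalars F)
        (LinearMap.ext fun v => rot_inv S hyy hzz hyz h v)
        (LinearMap.ext fun v => by
          have := rot_inv S hyy hzz hyz h' v
          rwa [neg_neg] at this), fun v => rfl⟩
    have hlin : ∀ (c : E) v, g (c • v) = c • g v := fun c v => by rw [hg, hg, map_smul]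
    have hiso : g ∈ ORefl.Iso Q := iso_of_B S fun v => by rw [hg]; exact rot_B S hyy hzz hyz h v
    have hay' : B y a = 0 := by rw [S.symm, hya]
    have haz' : B z a = 0 := by rw [S.symm, hza]
    have e1 : g a = a := by rw [hg, rotMap_apply, hay', haz']; simp
    have e2 : g y = α • y + β • z := by
      rw [hg, rotMap_apply, hzy, inv_mul_cancel₀ hyy, mul_zero, zero_smul, add_zero, one_smul]
      module
    have e3 : g z = (-(d * β)) • y + α • z := by
      rw [hg, rotMap_apply, hyz, inv_mul_cancel₀ hzz, mul_zero, zero_smul, add_zero, one_smul, hd]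
      module
    rw [← hd] at h
    refine ⟨g * g, hX.semi _ ⟨id, fun c v => by simp only [LinearEquiv.mul_apply, hlin, id]⟩ (sq_mem S hiso), ?_,
      fun c v => by simp only [LinearEquiv.mul_apply, hlin], ?_, ?_⟩
    · rw [LinearEquiv.mul_apply, e1, e1]
    · rw [LinearEquiv.mul_apply, e2, map_add, hlin, hlin, e2, e3, show 2 * (α * α) - 1 = α * α - d * (β * β) by
        linear_combination h]
      module
    · rw [LinearEquiv.mul_apply, e3, map_add, hlin, hlin, e2, e3, show 2 * (α * α) - 1 = α * α - d * (β * β) by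
        linear_combination h]
      module
  -- the vectors of the plane in the root group
  let M : AddSubgroup (E × E) :=
    { carrier := {c | InX Q X a (c.1 • y + c.2 • z)}
      add_mem' := fun {c c'} hc hc' => by
        show InX Q X a ((c.1 + c'.1) • y + (c.2 + c'.2) • z)
        rw [show (c.1 + c'.1) • y + (c.2 + c'.2) • z = (c.1 • y + c.2 • z) + (c'.1 • y + c'.2 • z) by module]
        exact hc.add hQa (hpa (by simp [hya, hza])) (hpa (by simp [hya, hza])) hc'
      zero_mem' := by simpa using InX.zero a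
      neg_mem' := fun {c} hc => by
        show InX Q X a ((-c.1) • y + (-c.2) • z)
        rw [show (-c.1) • y + (-c.2) • z = -(c.1 • y + c.2 • z) by module]
        exact hc.neg hQa (hpa (by simp [hya, hza])) }
  have hmov : ∀ α β : E, α * α + d * (β * β) = 1 → ∀ c ∈ M, (c.1 * (2 * (α * α) - 1) - c.2 * (d * (2 * α * β)),
      c.1 * (2 * α * β) + c.2 * (2 * (α * α) - 1)) ∈ M := fun α β h c hc => by
    obtain ⟨g, hg, hga, hlin, hgy, hgz⟩ := rots α β h
    have h1 := InX.conj hg (mem_iso S hX hg) hc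
    rw [hga, map_add, hlin, hlin, hgy, hgz] at h1
    show InX Q X a _
    convert h1 using 1
    module
  let L : Subring E :=
    { carrier := {l | ∀ c ∈ M, (l * c.1, l * c.2) ∈ M}
      mul_mem' := fun {l l'} hl hl' c hc => by simpa only [mul_assoc] using hl _ (hl' c hc)
      one_mem' := fun c hc => by simpa using hc
      add_mem' := fun {l l'} hl hl' c hc => by
        rw [add_mul, add_mul, ← Prod.mk_add_mk]; exact M.add_mem (hl c hc) (hl' c hc)
      zero_mem' := fun c hc => by rw [zero_mul, zero_mul]; exact M.zero_mem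
      neg_mem' := fun {l} hl c hc => by
        rw [neg_mul, neg_mul, ← Prod.neg_mk]; exact M.neg_mem (hl c hc) }
  haveI := finiteF S
  obtain ⟨p, hp'⟩ := CharP.exists F
  haveI hpp : Fact p.Prime := ⟨CharP.char_is_prime F p⟩
  haveI : CharP E p := charP_of_injective_algebraMap' F p
  have h2 := two_E S
  have hhalf : (2 : E)⁻¹ ∈ L := by
    have hp2 : p ≠ 2 := fun e => h2 (by
      have := CharP.cast_eq_zero E p
      rw [e] at this
      exact_mod_cast this)
    obtain ⟨k, hk⟩ := hpp.out.odd_of_ne_two hp2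
    have : (2 : E)⁻¹ = ((k + 1 : ℕ) : E) := by
      refine inv_eq_of_mul_eq_one_right ?_
      have h0 := CharP.cast_eq_zero E p
      rw [hk] at h0
      push_cast at h0 ⊢
      linear_combination h0
    rw [this]
    exact natCast_mem L _
  have htop : L = ⊤ := cos_generate S hr hdsq fun α β h => by
    have h4' : 4 * (α * α) - 2 ∈ L := fun c hc => by
      have hneg : α * α + d * ((-β) * (-β)) = 1 := by rw [neg_mul_neg]; exact h
      have h1 := M.add_mem (hmov α β h c hc) (hmov α (-β) hneg c hc)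
      rw [Prod.mk_add_mk] at h1
      convert h1 using 2 <;> ring
    have h1 := L.add_mem h4' (L.add_mem L.one_mem L.one_mem)
    have h2' := L.mul_mem hhalf (L.mul_mem hhalf h1)
    convert h2' using 1
    field_simp
    ring
  have hall : ∀ (l : E) {c : E × E}, c ∈ M → (l * c.1, l * c.2) ∈ M := fun l c hc =>
    (show l ∈ L from htop ▸ Subring.mem_top l) c hc
  have hy1 : ((1 : E), (0 : E)) ∈ M := by
    show InX Q X a _
    simpa using hyin
  have hzM : ((0 : E), (1 : E)) ∈ M := by
    have hden : (1 : E) + d ≠ 0 := fun e => hdsq ⟨1, by linear_combination -e⟩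
    have hden' : (1 : E) - d ≠ 0 := fun e => hdsq (by
      haveI := finiteDimensional (F := F) (E := E)
      letI := Fintype.ofFinite E
      letI := Fintype.ofFinite F
      rw [show d = 1 by linear_combination -e, FiniteField.isSquare_neg_one_iff,
        Module.card_eq_pow_finrank (K := F), S.deg, hr]
      intro h3
      obtain ⟨k, hk⟩ : ∃ k, Fintype.card F = 2 * k + 1 := ⟨Fintype.card F / 2, by
        have := FiniteField.odd_card_of_char_ne_two (F := F) fun hc => S.two (by
          haveI := ringChar.of_eq hc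
          exact CharTwo.two_eq_zero)
        omega⟩
      rw [hk, show (2 * k + 1) ^ 2 = 4 * (k * k + k) + 1 by ring] at h3
      omega)
    obtain ⟨α, hα⟩ : ∃ α, α = (1 - d) / (1 + d) := ⟨_, rfl⟩
    obtain ⟨β, hβ⟩ : ∃ β, β = 2 / (1 + d) := ⟨_, rfl⟩
    have h1 := hmov α β (by rw [hα, hβ]; field_simp; ring) _ hy1
    simp only [one_mul, zero_mul, sub_zero, add_zero] at h1
    have h3 := M.sub_mem h1 (hall (2 * (α * α) - 1) hy1)
    simp only [Prod.mk_sub_mk, mul_one, mul_zero, sub_self, sub_zero] at h3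
    have h4' := hall ((2 * α * β)⁻¹) h3
    have hne : 2 * α * β ≠ 0 := by
      rw [hα, hβ]; exact mul_ne_zero (mul_ne_zero h2 (div_ne_zero hden' hden)) (div_ne_zero h2 hden)
    simp only [mul_zero, inv_mul_cancel₀ hne] at h4'
    exact h4'
  intro v hv
  obtain ⟨c₁, hc₁⟩ : ∃ c₁, c₁ = B y v / B y y := ⟨_, rfl⟩
  obtain ⟨c₂, hc₂⟩ : ∃ c₂, c₂ = B z v / B z z := ⟨_, rfl⟩
  have hdec : v = B b v • a + (c₁ • y + c₂ • z) := by
    obtain ⟨w, hw⟩ : ∃ w, w = v - B b v • a - (c₁ • y + c₂ • z) := ⟨_, rfl⟩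
    have hwa : B a w = 0 := by rw [hw]; simp [hv, hp.aa, hya, hza]
    have hwb : B b w = 0 := by rw [hw]; simp [hba, hyb, hzb]
    have hwy : B y w = 0 := by
      rw [hw]; simp [S.symm y a, hya, hyz, hc₁]; field_simp; ring
    have hwz : B z w = 0 := by
      rw [hw]; simp [S.symm z a, hza, hzy, hc₂]; field_simp; ring
    by_contra hne'
    have hw0 : w ≠ 0 := fun e => hne' (by rw [hw] at e; linear_combination (norm := module) e)
    have hli : LinearIndependent E ![a, b, y, z, w] := by
      rw [Fintype.linearIndependent_iff]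
      intro k hk i
      have hya' : B y a = 0 := by rw [S.symm, hya]
      have hyb' : B y b = 0 := by rw [S.symm, hyb]
      have hza' : B z a = 0 := by rw [S.symm, hza]
      have hzb' : B z b = 0 := by rw [S.symm, hzb]
      have hwa' : B w a = 0 := by rw [S.symm, hwa]
      have hwb' : B w b = 0 := by rw [S.symm, hwb]
      have hwy' : B w y = 0 := by rw [S.symm, hwy]
      have hwz' : B w z = 0 := by rw [S.symm, hwz]
      have hww := hW w hwa hwb hw0
      have k0 := congrArg (B b) hk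
      have k1 := congrArg (B a) hk
      have k2 := congrArg (B y) hk
      have k3 := congrArg (B z) hk
      have k4 := congrArg (B w) hk
      simp [Fin.sum_univ_five, hp.aa, hp.bb, hp.ab, hba, hya, hza, hyb, hzb, hyz, hzy, hwa, hwb, hwy, hwz, hya', hyb',
        hza', hzb', hwa', hwb', hwy', hwz', hyy, hzz, hww] at k0 k1 k2 k3 k4
      fin_cases i <;> assumption
    haveI : FiniteDimensional E V := Module.Finite.of_finite
    have := hli.fintype_card_le_finrank
    rw [Fintype.card_fin, h4] at this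
    omega
  rw [hdec]
  have h12 : InX Q X a (c₁ • y + c₂ • z) := by
    have := M.add_mem (hall c₁ hy1) (hall c₂ hzM)
    rw [Prod.mk_add_mk] at this
    simp only [mul_one, mul_zero, add_zero, zero_add] at this
    exact this
  exact (hline _).add hQa (hpa (by rw [map_smul, hp.aa, smul_zero])) (hpa (by simp [hya, hza])) h12

/-- A root element in the perp, but not on the line, gives the whole perp. -/
theorem climb (h5 : 5 ≤ finrank E V) {a b x : V} (hp : HP B a b) (hax : B a x = 0) (hne : x ≠ B b x • a)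
    (h : InX Q X a x) : PerpIn B Q X a := by
  have hQa := q_zero S hp.aa
  have hba : B b a = 1 := by rw [S.symm, hp.ab]
  -- the line
  have hline : ∀ s : E, InX Q X a (s • a) := by
    intro s
    obtain ⟨z₀, hz₀, hz₀x⟩ : ∃ z₀, B a z₀ = 0 ∧ B z₀ x ≠ 0 := by
      by_contra hcon
      push Not at hcon
      exact hne (hp.mem_line S hcon)
    obtain ⟨z, hz⟩ : ∃ z, z = (-s / B z₀ x) • z₀ := ⟨_, rfl⟩
    have hza : B a z = 0 := by rw [hz, map_smul, hz₀, smul_zero]
    have hzx : B z x = -s := by rw [hz, map_smul, LinearMap.smul_apply, smul_eq_mul, div_mul_cancel₀ _ hz₀x]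
    have h1 := diff_in S hX hp.aa hp.aa hza hp.aa hza (polar_perp S hax) h
    rw [hax, hzx] at h1
    simpa using h1
  obtain ⟨x₀, hx₀⟩ : ∃ x₀, x₀ = x - B b x • a := ⟨_, rfl⟩
  have hx₀a : B a x₀ = 0 := by rw [hx₀, map_sub, map_smul, hax, hp.aa, smul_zero, sub_zero]
  have hx₀b : B b x₀ = 0 := by rw [hx₀, map_sub, map_smul, hba, smul_eq_mul, mul_one, sub_self]
  have hx₀in : InX Q X a x₀ := hx₀ ▸ h.sub hQa (polar_perp S hax)
    (polar_perp S (by rw [map_smul, hp.aa, smul_zero])) (hline _)
  have hx₀0 : x₀ ≠ 0 := fun e => hne (sub_eq_zero.mp (hx₀ ▸ e))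
  have proj : ∀ d : V, B a (d - B b d • a - B a d • b) = 0 ∧ B b (d - B b d • a - B a d • b) = 0 := hp.split S
  -- a partner inside the complement
  have partner : ∀ c, c ≠ 0 → B c c = 0 → B a c = 0 → B b c = 0 →
      ∃ c', HP B c c' ∧ B a c' = 0 ∧ B b c' = 0 := by
    intro c hc0 hcc hac hbc
    obtain ⟨d, hd⟩ := exists_B_one S hc0
    obtain ⟨d', hd'⟩ : ∃ d', d' = d - B b d • a - B a d • b := ⟨_, rfl⟩
    obtain ⟨h1, h2⟩ := proj d
    rw [← hd'] at h1 h2
    have hcd : B c d' = 1 := by
      rw [hd', map_sub, map_sub, map_smul, map_smul, S.symm c a, hac, S.symm c b, hbc, smul_zero, smul_zero, sub_zero,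
        sub_zero, hd]
    refine ⟨d' + (-qE B d') • c, ⟨hcc, ?_, ?_⟩, ?_, ?_⟩
    · rw [← qE_zero_iff S, qE_add S, qE_smul S, map_smul, smul_eq_mul, S.symm d' c, hcd,
        show qE B c = 0 from (qE_zero_iff S).mpr hcc]
      ring
    · rw [map_add, map_smul, hcc, smul_zero, add_zero, hcd]
    · rw [map_add, map_smul, h1, hac, smul_zero, add_zero]
    · rw [map_add, map_smul, h2, hbc, smul_zero, add_zero]
  -- spreading from one vector
  have spread : ∀ c c', HP B c c' → B a c = 0 → B b c = 0 → B a c' = 0 → B b c' = 0 → ∀ w, B a w = 0 →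
      InX Q X a w → B c w ≠ 0 → (∀ s : E, InX Q X a (s • c)) ∧
        ∀ y, B a y = 0 → B c y = 0 → InX Q X a y := by
    intro c c' hc hac hbc hac' hbc' w hw hwin hcw
    obtain ⟨D, hD⟩ : ∃ D : V → V, ∀ y, D y = B c w • y - (B y w + qE B y * B c w) • c := ⟨_, fun y => rfl⟩
    have hDp : ∀ y, B a y = 0 → polar Q a (D y) = 0 := fun y hy => polar_perp S (by rw [hD]; simp [hy, hac])
    have hDin : ∀ y, B a y = 0 → B c y = 0 → InX Q X a (D y) := fun y hy hcy => by
      rw [hD]
      exact diff_in S hX hp.aa hc.aa hcy hac hy (polar_perp S hw) hwin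
    have hca : B c a = 0 := by rw [S.symm, hac]
    have hcb : B c b = 0 := by rw [S.symm, hbc]
    have hca' : B c' a = 0 := by rw [S.symm, hac']
    have hcb' : B c' b = 0 := by rw [S.symm, hbc']
    have hcc' : B c' c = 1 := by rw [S.symm, hc.ab]
    obtain ⟨y, hy, hyy⟩ := aniso_of_proj S (m := 4) (by omega) ![a, b, c, c'] fun x => by
      refine ⟨![B b x, B a x, B c' x, B c x], fun i => ?_⟩
      rw [Fin.sum_univ_four]
      fin_cases i <;>
        simp [hp.aa, hp.bb, hp.ab, hba, hac, hbc, hac', hbc', hca, hcb, hca', hcb', hc.aa, hc.bb, hc.ab, hcc']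
    have hya : B a y = 0 := hy 0
    have hyc : B c y = 0 := hy 2
    have hsc : ∀ s : E, InX Q X a (s • c) := by
      intro s
      obtain ⟨z, hz⟩ : ∃ z, z = (-(s / (B c w * B y y))) • y := ⟨_, rfl⟩
      have hza : B a z = 0 := by rw [hz, map_smul, hya, smul_zero]
      have hzc : B c z = 0 := by rw [hz, map_smul, hyc, smul_zero]
      have h1a : B a (y + z) = 0 := by rw [map_add, hya, hza, add_zero]
      have h1c : B c (y + z) = 0 := by rw [map_add, hyc, hzc, add_zero]
      have h1 := (hDin _ h1a h1c).sub hQa (hDp _ h1a) (hDp y hya) (hDin y hya hyc)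
      have h2 := h1.sub hQa (by rw [polar_sub_right, hDp _ h1a, hDp y hya, sub_zero]) (hDp z hza) (hDin z hza hzc)
      convert h2 using 1
      simp only [hD, map_add, LinearMap.add_apply, qE_add S, hz, map_smul, qE_smul S, smul_eq_mul]
      match_scalars <;> field_simp <;> ring
    refine ⟨hsc, fun z hza hzc => ?_⟩
    obtain ⟨z', hz'⟩ : ∃ z', z' = (B c w)⁻¹ • z := ⟨_, rfl⟩
    have h1a : B a z' = 0 := by rw [hz', map_smul, hza, smul_zero]
    have h1 := (hDin z' h1a (by rw [hz', map_smul, hzc, smul_zero])).add hQa (hDp z' h1a)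
      (polar_perp S (by rw [map_smul, hac, smul_zero])) (hsc (B z' w + qE B z' * B c w))
    convert h1 using 1
    rw [hD, sub_add_cancel, hz', smul_smul, mul_inv_cancel₀ hcw, one_smul]
  -- a singular vector of the complement seeing `x₀`
  obtain ⟨c, hc0, hcc, hac, hbc, hcx⟩ : ∃ c, c ≠ 0 ∧ B c c = 0 ∧ B a c = 0 ∧ B b c = 0 ∧ B c x₀ ≠ 0 := by
    obtain ⟨c, hcW, hc0, hcc⟩ := exists_singular_in S (W := LinearMap.ker ((B a).prod (B b))) (by
      haveI : FiniteDimensional E V := Module.Finite.of_finite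
      have h1 := LinearMap.finrank_range_add_finrank_ker ((B a).prod (B b))
      have h2 := (LinearMap.range ((B a).prod (B b))).finrank_le
      rw [Module.finrank_prod, Module.finrank_self] at h2
      omega)
    replace hcW : B a c = 0 ∧ B b c = 0 := Prod.mk_eq_zero.mp (LinearMap.mem_ker.mp hcW)
    by_cases h1 : B c x₀ = 0
    swap
    · exact ⟨c, hc0, hcc, hcW.1, hcW.2, h1⟩
    obtain ⟨c', hc, hac', hbc'⟩ := partner c hc0 hcc hcW.1 hcW.2
    by_cases h2 : B c' x₀ = 0
    swap
    · exact ⟨c', hc.ne' S, hc.bb, hac', hbc', h2⟩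
    obtain ⟨d, hd⟩ := exists_B_one S hx₀0
    obtain ⟨y, hy⟩ : ∃ y, y = (d - B b d • a - B a d • b) -
        B c' (d - B b d • a - B a d • b) • c - B c (d - B b d • a - B a d • b) • c' := ⟨_, rfl⟩
    obtain ⟨p1, p2⟩ := proj d
    obtain ⟨q1, q2⟩ := hc.split S (d - B b d • a - B a d • b)
    rw [← hy] at q1 q2
    have hya : B a y = 0 := by rw [hy, map_sub, map_sub, map_smul, map_smul, p1, hcW.1, hac']; simp
    have hyb : B b y = 0 := by rw [hy, map_sub, map_sub, map_smul, map_smul, p2, hcW.2, hbc']; simp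
    have hyx : B y x₀ = 1 := by
      rw [S.symm, hy]
      simp [S.symm x₀ a, hx₀a, S.symm x₀ b, hx₀b, S.symm x₀ c, h1, S.symm x₀ c', h2, hd]
    refine ⟨(-qE B y) • c + c' + y, ?_, ?_, ?_, ?_, ?_⟩
    · intro e0
      have := congrArg (fun v => B v x₀) e0
      simp [h1, h2, hyx] at this
    · rw [← qE_zero_iff S, qE_add S, qE_add S, qE_smul S, show qE B c = 0 from (qE_zero_iff S).mpr hcc,
        show qE B c' = 0 from (qE_zero_iff S).mpr hc.bb]
      simp [hc.ab, q1, q2]
    · rw [map_add, map_add, map_smul, hcW.1, hac', hya]; simp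
    · rw [map_add, map_add, map_smul, hcW.2, hbc', hyb]; simp
    · simp [h1, h2, hyx]
  obtain ⟨c', hc, hac', hbc'⟩ := partner c hc0 hcc hac hbc
  obtain ⟨hsc, hperp⟩ := spread c c' hc hac hbc hac' hbc' x₀ hx₀a hx₀in hcx
  have hcc' : B c' c = 1 := by rw [S.symm, hc.ab]
  obtain ⟨hsc', -⟩ := spread c' c (hc.swap S) hac' hbc' hac hbc c hac (by simpa using hsc 1)
    (by rw [hcc']; exact one_ne_zero)
  intro z hz
  have h1 : B a (z - B c z • c') = 0 := by rw [map_sub, map_smul, hz, hac', smul_zero, sub_zero]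
  have h2 := (hperp _ h1 (by rw [map_sub, map_smul, hc.ab, smul_eq_mul, mul_one, sub_self])).add hQa (polar_perp S h1)
    (polar_perp S (by rw [map_smul, hac', smul_zero])) (hsc' (B c z))
  rwa [sub_add_cancel] at h2

/-- A root element inside a line gives the whole derived group. -/
theorem full (hT : Trans B X) {a₀ : V} {θ : E} (ha₀ : a₀ ≠ 0) (haa₀ : B a₀ a₀ = 0)
    (hθ : ∀ t : F, algebraMap F E t ≠ θ) (h : InX Q X a₀ (θ • a₀)) : X = Om Q := by
  classical
  haveI := finiteDimensional (F := F) (E := E)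
  haveI := finiteF S
  have hbot : ∀ a, a ≠ 0 → B a a = 0 → InX Q X a (θ • a) := fun a ha haa =>
    inX_move S hX hT ha₀ haa₀ ha haa h
  suffices hseed : ∃ a, a ≠ 0 ∧ B a a = 0 ∧ PerpIn B Q X a by
    obtain ⟨a₁, ha₁, haa₁, h₁⟩ := hseed
    exact eq_om S hX fun a ha haa v hv =>
      all_at S hX ha haa (fun a' ha' haa' => perpIn_move S hX hT ha₁ haa₁ ha' haa' h₁) v hv
  obtain ⟨b, hp⟩ := exists_partner S ha₀ haa₀
  have hba : B b a₀ = 1 := by rw [S.symm, hp.ab]
  by_cases hr2 : r = 2
  · -- degree two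
    have h4n : 4 ≤ finrank E V := by
      rcases S.big with hb | hb | hb
      · rw [hr2] at hb; omega
      · omega
      · omega
    obtain ⟨σ, hσ⟩ : ∃ σ : E ≃ₐ[F] E, σ ≠ 1 := by
      by_contra hcon
      push Not at hcon
      haveI : Subsingleton (E ≃ₐ[F] E) := ⟨fun x y => (hcon x).trans (hcon y).symm⟩
      have := gal_card (F := F) (E := E) S.deg
      rw [Nat.card_of_subsingleton (1 : E ≃ₐ[F] E), hr2] at this
      omega
    have hσσ : ∀ x, σ (σ x) = x := fun x => by
      haveI : Fact r.Prime := ⟨S.prime⟩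
      haveI : Finite (E ≃ₐ[F] E) := Finite.of_injective (fun g : E ≃ₐ[F] E => (g : E → E)) DFunLike.coe_injective
      have e : σ ^ r = 1 := by rw [← gal_card S.deg]; exact pow_card_eq_one'
      rw [hr2, pow_two] at e
      rw [← AlgEquiv.mul_apply, e, AlgEquiv.one_apply]
    obtain ⟨ω, hω⟩ : ∃ ω, ω = θ - σ θ := ⟨_, rfl⟩
    have hσω : σ ω = -ω := by rw [hω, map_sub, hσσ]; ring
    have hω0 : ω ≠ 0 := fun e => by
      obtain ⟨t, ht⟩ := fixed_gal S.deg S.prime hσ (sub_eq_zero.mp (hω ▸ e)).symm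
      exact hθ t ht
    have htω : tr ω = 0 := by rw [hω, map_sub, tr_gal, sub_self]
    obtain ⟨ν, hν⟩ : ∃ ν : F, algebraMap F E ν = ω * ω :=
      fixed_gal S.deg S.prime hσ (by rw [map_mul, hσω, neg_mul_neg])
    have hν0 : ν ≠ 0 := fun e => mul_ne_zero hω0 hω0 (by rw [← hν, e, map_zero])
    obtain ⟨s, hs⟩ : ∃ s : F, algebraMap F E s = θ + σ θ :=
      fixed_gal S.deg S.prime hσ (by rw [map_add, hσσ, add_comm])
    have hbotω : ∀ a, a ≠ 0 → B a a = 0 → InX Q X a (ω • a) := fun a ha haa => by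
      have hQa := q_zero S haa
      have hpl : ∀ e : E, polar Q a (e • a) = 0 := fun e => polar_perp S (by rw [map_smul, haa, smul_zero])
      have h1 := ((hbot a ha haa).add hQa (hpl θ) (hpl θ) (hbot a ha haa)).shift hQa
        (by rw [polar_add_right, hpl, add_zero]) (-s)
      convert h1 using 1
      rw [neg_smul, ← IsScalarTower.algebraMap_smul E s, hs, hω]
      module
    obtain ⟨g, hg, hg'⟩ := hbotω b (hp.ne' S) hp.bb
    have hgi := mem_iso S hX hg
    have hQbb : ∀ e : E, Q (e • b) = 0 := q_line S hp.bb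
    have hgx : ∀ l : E, g (l • a₀) = l • a₀ + (algebraMap F E (tr l) * ω - algebraMap F E (tr (ω * l))) • b := by
      intro l
      rw [hg', ORefl.siegelMap_apply, hQbb, zero_mul, add_zero, polar_smul S, hba, mul_one,
        show polar Q b (l • a₀) = tr l by
          simp only [S.polarQ, map_smul, hba, smul_eq_mul, mul_one],
        ← IsScalarTower.algebraMap_smul E (tr l),
        ← IsScalarTower.algebraMap_smul E (tr (ω * l)), smul_smul, sub_smul, add_sub_assoc]
    have htr1 : tr (1 : E) = 2 := by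
      have := Algebra.trace_algebraMap (S := E) (1 : F)
      rw [map_one, S.deg, hr2] at this
      simpa using this
    have htν : tr (ω * ω) = 2 * ν := by
      rw [← hν, Algebra.trace_algebraMap, S.deg, hr2, nsmul_eq_mul, Nat.cast_ofNat]
    obtain ⟨h₁, hh₁⟩ : ∃ h₁, h₁ = a₀ + (2 * ω) • b := ⟨_, rfl⟩
    obtain ⟨h₂, hh₂⟩ : ∃ h₂, h₂ = ω • a₀ - (2 * (ω * ω)) • b := ⟨_, rfl⟩
    have e1 : g a₀ = h₁ := by
      have := hgx 1
      rw [one_smul, htr1, mul_one, htω, map_zero, sub_zero, map_ofNat] at this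
      rw [this, hh₁]
    have e2 : g (ω • a₀) = h₂ := by
      rw [hgx, htω, map_zero, zero_mul, htν, map_mul, map_ofNat, hν, hh₂, zero_sub, neg_smul, sub_eq_add_neg]
    have hin12 : InX Q X h₁ h₂ := by
      have := (hbotω a₀ ha₀ haa₀).conj hg hgi
      rwa [e1, e2] at this
    have hQh1 : Q h₁ = 0 := by rw [← e1, hgi, q_zero S haa₀]
    have hQh2 : Q h₂ = 0 := by rw [← e2, hgi, q_line S haa₀]
    have hp12 : polar Q h₁ h₂ = 0 := by
      rw [← e1, ← e2, ORefl.polar_iso hgi, polar_perp S (by rw [map_smul, haa₀, smul_zero])]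
    -- a singular vector perpendicular to `h₁`
    obtain ⟨z, hza, hzb, hqz⟩ := hp.exists_value S h4n (2 * ω)
    obtain ⟨c, hc⟩ : ∃ c, c = a₀ + (-(2 * ω)) • b + z := ⟨_, rfl⟩
    have hcc : B c c = 0 := by
      rw [hc, ← qE_zero_iff S, qE_add S, qE_add S, qE_smul S, hqz, show qE B a₀ = 0 from (qE_zero_iff S).mpr haa₀,
        show qE B b = 0 from (qE_zero_iff S).mpr hp.bb]
      simp [hp.ab, hza, hzb]
    have hch1 : B c h₁ = 0 := by
      rw [hc, hh₁]
      simp [haa₀, hp.bb, hp.ab, hba, S.symm z a₀, hza, S.symm z b, hzb]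
    have hch2 : B c h₂ = -(4 * (ω * ω)) := by
      rw [hc, hh₂]
      simp [haa₀, hp.bb, hp.ab, hba, S.symm z a₀, hza, S.symm z b, hzb]
      ring
    have hz0 : z ≠ 0 := fun e => mul_ne_zero (two_E S) hω0 (by
      simp [← hqz, e, qE])
    have hc0 : c ≠ 0 := fun e => by
      have := congrArg (B b) e
      rw [hc, map_add, map_add, map_smul, hba, hp.bb, hzb, smul_zero, add_zero, add_zero, map_zero] at this
      exact one_ne_zero this
    obtain ⟨e', he'⟩ : ∃ e', e' = ω • c := ⟨_, rfl⟩
    have hQc := q_zero S hcc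
    have hpce : polar Q c e' = 0 := polar_perp S (by rw [he', map_smul, hcc, smul_zero])
    have hQe' : Q e' = 0 := he' ▸ q_line S hcc ω
    have hec : InX Q X e' c := by
      have := ((hbotω c hc0 hcc).swap hQc (q_line S hcc ω) (he' ▸ hpce)).neg (q_line S hcc ω)
        (by rw [polar_neg_right, polar_comm, ← he', hpce, neg_zero])
      rwa [neg_neg, ← he'] at this
    have h3 := InX.trick (X := X) (fun g hg => mem_iso S hX hg) hQh1 hp12
      (e := e') (v := c) (by rw [he', S.polarQ, map_smul, LinearMap.smul_apply, hch1, smul_zero, map_zero])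
      (by
        rw [he', S.polarQ, map_smul, LinearMap.smul_apply, hch2, smul_eq_mul, ← hν, mul_neg,
          show ω * (4 * algebraMap F E ν) = (4 * ν) • ω by rw [Algebra.smul_def, map_mul, map_ofNat]; ring, map_neg,
          map_smul, htω, smul_zero, neg_zero])
      (polar_perp S hch1) hec hin12
    obtain ⟨κ, hκ⟩ : ∃ κ : F, κ = -polar Q c h₂ := ⟨_, rfl⟩
    rw [← hκ] at h3
    have hκ8 : κ = 8 * ν := by
      rw [hκ, S.polarQ, hch2, ← hν, map_neg, neg_neg, show (4 : E) * algebraMap F E ν = algebraMap F E (4 * ν) by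
        rw [map_mul, map_ofNat], Algebra.trace_algebraMap, S.deg, hr2, nsmul_eq_mul, Nat.cast_ofNat]
      ring
    have hκ0 : κ ≠ 0 := by
      rw [hκ8, show (8 : F) = 2 * 2 * 2 by norm_num]
      exact mul_ne_zero (mul_ne_zero (mul_ne_zero S.two S.two) S.two) hν0
    obtain ⟨a, ha⟩ : ∃ a, a = (algebraMap F E κ * ω) • c := ⟨_, rfl⟩
    have hae : κ • e' = a := by rw [ha, he', mul_smul, IsScalarTower.algebraMap_smul]
    rw [hae] at h3
    have haa : B a a = 0 := by rw [ha, map_smul, map_smul, LinearMap.smul_apply, hcc, smul_zero, smul_zero]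
    have ha0 : a ≠ 0 := ha ▸ smul_ne_zero (mul_ne_zero ((map_ne_zero _).mpr hκ0) hω0) hc0
    have hah : B a h₁ = 0 := by rw [ha, map_smul, LinearMap.smul_apply, hch1, smul_zero]
    have h4' := h3.swap hQh1 (q_zero S haa) (by rw [polar_comm]; exact polar_perp S hah)
    obtain ⟨b', hp'⟩ := exists_partner S ha0 haa
    suffices hne' : -h₁ ≠ B b' (-h₁) • a by
      refine ⟨a, ha0, haa, ?_⟩
      have hxa : B a (-h₁) = 0 := by rw [map_neg, hah, neg_zero]
      rcases S.big with hb | ⟨hk4, -, hpl⟩ | hb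
      · exact climb S hX (by rw [hr2] at hb; omega) hp' hxa hne' h4'
      · exact climb_four S hX hk4 hr2 hpl hp' hxa hne' h4'
      · omega
    intro e
    obtain ⟨l, hl⟩ : ∃ l : E, h₁ = l • c := by
      refine ⟨-(B b' (-h₁) * (algebraMap F E κ * ω)), ?_⟩
      rw [neg_smul, mul_smul, ← ha, ← e, neg_neg]
    have hzz : B z c = 4 * ω := by
      rw [hc]
      simp [S.symm z a₀, hza, S.symm z b, hzb]
      rw [show B z z = 2 * qE B z by rw [qE, mul_div_cancel₀ _ (two_E S)], hqz]
      ring
    have h5' := congrArg (B z) hl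
    rw [hh₁, map_add, map_smul, S.symm z a₀, hza, S.symm z b, hzb, smul_zero, add_zero, map_smul, smul_eq_mul,
      hzz, eq_comm, mul_eq_zero] at h5'
    have h40 : (4 : E) * ω ≠ 0 := by
      rw [show (4 : E) = 2 * 2 by norm_num]
      exact mul_ne_zero (mul_ne_zero (two_E S) (two_E S)) hω0
    rw [or_iff_left h40] at h5'
    rw [h5', zero_smul] at hl
    have := congrArg (B b) hl
    rw [hh₁, map_add, map_smul, hba, hp.bb, smul_zero, add_zero, map_zero] at this
    exact one_ne_zero this
  · -- larger degree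
    have hθ2 : θ * θ ∉ Submodule.span F ({1, θ} : Set E) := fun hmem => by
      obtain ⟨s, t, hst⟩ := Submodule.mem_span_pair.mp hmem
      obtain ⟨η, hη⟩ : ∃ η, η = θ - algebraMap F E (t / 2) := ⟨_, rfl⟩
      have hsq : η * η = algebraMap F E (s + t / 2 * (t / 2)) := by
        rw [Algebra.smul_def, Algebra.smul_def, mul_one] at hst
        have h2 := two_E S
        have ht2 : algebraMap F E t = 2 * algebraMap F E (t / 2) := by
          rw [map_div₀, map_ofNat, mul_div_cancel₀ _ h2]
        rw [hη, map_add, map_mul]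
        linear_combination -hst + θ * ht2
      obtain ⟨σ, hσ⟩ : ∃ σ : E ≃ₐ[F] E, σ ≠ 1 := by
        by_contra hcon
        push Not at hcon
        haveI : Subsingleton (E ≃ₐ[F] E) := ⟨fun x y => (hcon x).trans (hcon y).symm⟩
        have := gal_card (F := F) (E := E) S.deg
        rw [Nat.card_of_subsingleton (1 : E ≃ₐ[F] E)] at this
        exact S.prime.one_lt.ne this
      have h1 : σ η * σ η = η * η := by rw [← map_mul, hsq, AlgEquiv.commutes]
      have hfix : (σ * σ) η = η := by
        rw [AlgEquiv.mul_apply]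
        rcases mul_self_eq_mul_self_iff.mp h1 with e | e
        · rw [e, e]
        · rw [e, map_neg, e, neg_neg]
      obtain ⟨t', ht'⟩ := fixed_gal S.deg S.prime (gal_sq_ne S.deg S.prime hr2 hσ) hfix
      exact hθ (t' + t / 2) (by rw [map_add, ht', hη, sub_add_cancel])
    obtain ⟨ψ, hψ0, hψ⟩ := Submodule.exists_dual_map_eq_bot_of_notMem hθ2 inferInstance
    have hψ' : ∀ x ∈ Submodule.span F ({1, θ} : Set E), ψ x = 0 := fun x hx => by
      have h' : ψ x ∈ (Submodule.span F ({1, θ} : Set E)).map ψ := ⟨x, hx, rfl⟩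
      rwa [hψ, Submodule.mem_bot] at h'
    obtain ⟨c, hc⟩ := exists_dual_elt ((-(ψ (θ * θ))⁻¹) • ψ)
    have hc1 : tr c = 0 := by
      have := hc 1
      rw [mul_one, LinearMap.smul_apply, hψ' 1 (Submodule.subset_span (by simp)), smul_zero] at this
      exact this
    have hcθ : tr (c * θ) = 0 := by
      rw [hc, LinearMap.smul_apply, hψ' θ (Submodule.subset_span (by simp)), smul_zero]
    have hcθθ : tr (c * (θ * θ)) = -1 := by
      rw [hc, LinearMap.smul_apply, smul_eq_mul, neg_mul, inv_mul_cancel₀ hψ0]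
    have hc0 : c ≠ 0 := fun e => neg_ne_zero.mpr one_ne_zero (by rw [← hcθθ, e, zero_mul, map_zero])
    obtain ⟨f, hf⟩ : ∃ f, f = c • b := ⟨_, rfl⟩
    have hff : B f f = 0 := by rw [hf, map_smul, map_smul, LinearMap.smul_apply, hp.bb, smul_zero, smul_zero]
    have hf0 : f ≠ 0 := hf ▸ smul_ne_zero hc0 (hp.ne' S)
    have haf : polar Q a₀ f = 0 := by rw [S.polarQ, hf, map_smul, hp.ab, smul_eq_mul, mul_one, hc1]
    have h1 := InX.trick (X := X) (fun g hg => mem_iso S hX hg) (q_zero S hff)
      (polar_perp S (show B f (θ • f) = 0 by rw [map_smul, hff, smul_zero])) haf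
      (by
        simp only [S.polarQ, hf, map_smul, LinearMap.smul_apply, hp.ab, smul_eq_mul, mul_one]
        rw [mul_comm, hcθ])
      (by
        simp only [S.polarQ, hf, map_smul, LinearMap.smul_apply, hp.ab, smul_eq_mul, mul_one]
        exact hcθ)
      (hbot a₀ ha₀ haa₀) (hbot f hf0 hff)
    have hpp : polar Q (θ • a₀) (θ • f) = -1 := by
      rw [polar_smul S, hf, map_smul, hp.ab, smul_eq_mul, mul_one, mul_comm, hcθθ]
    rw [hpp, neg_neg, one_smul] at h1
    refine ⟨f, hf0, hff, perpIn_of_top S hX hf0 hff (by rw [polar_comm]; exact haf) ?_ h1⟩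
    rw [hf, map_smul, LinearMap.smul_apply, hba, smul_eq_mul, mul_one]
    exact hc0

end Cfsg.Agent.Classical.FieldExt.Orth
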