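/-
Overgroups without an element fixing a perp pointwise consist of semilinear elements.
-/
import Cfsg.Agent.Lib.Classical.FieldExt.Basic
import Cfsg.Agent.Lib.Classical.FieldExt.Orth.Root
import Cfsg.Agent.Lib.Classical.TensorMax.Orbit

set_option autoImplicit false
set_option linter.style.haveILetI false
set_option linter.unusedSectionVars false

namespace Cfsg.Agent.Classical.FieldExt.Orth

open Module QuadraticMap
open Cfsg.Agent.Classical

variable {F E V : Type*} [Field F] [Field E] [Algebra F E] [Finite E] [AddCommGroup V] [Module F V] [Module E V]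
  [IsScalarTower F E V] [Finite V]

/-- The trace. -/
local notation "tr" => Algebra.trace F E

/-- No element fixes the perp of a singular vector pointwise. -/
def NoFix (B : V →ₗ[E] V →ₗ[E] E) (X : Subgroup (V ≃ₗ[F] V)) : Prop :=
  ∀ g ∈ X, ∀ a, a ≠ 0 → B a a = 0 → (∀ x, B a x = 0 → g x = x) → g = 1

variable {B : V →ₗ[E] V →ₗ[E] E} {Q : QuadraticForm F V} {r : ℕ} {X : Subgroup (V ≃ₗ[F] V)}

theorem alg_of_mul {σ : E → E} (h1 : σ 1 = 1) (hadd : ∀ c d, σ (c + d) = σ c + σ d)
    (hmul : ∀ c d, σ (c * d) = σ c * σ d) (hF : ∀ (k : F), σ (algebraMap F E k) = algebraMap F E k) :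
    ∃ τ : E ≃ₐ[F] E, ∀ c, τ c = σ c := by
  let f : E →ₐ[F] E :=
    { toFun := σ
      map_one' := h1
      map_mul' := hmul
      map_zero' := by
        have := hF 0
        rwa [map_zero] at this
      map_add' := hadd
      commutes' := hF }
  have hinj : Function.Injective f := f.toRingHom.injective
  exact ⟨AlgEquiv.ofBijective f ⟨hinj, Finite.surjective_of_injective hinj⟩, fun c => rfl⟩

section Semi

variable (S : Setup B Q r)

include S

theorem exists_alg {g : V ≃ₗ[F] V} (h : SemiE E g) :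
    ∃ σ : E ≃ₐ[F] E, ∀ (c : E) (v : V), g (c • v) = σ c • g v := by
  obtain ⟨v, hv, -⟩ := exists_singular_ne S
  obtain ⟨σ, hσ⟩ := h
  have hgv : g v ≠ 0 := fun e => hv (g.map_eq_zero_iff.mp e)
  have cancel : ∀ {c d : E}, c • g v = d • g v → c = d := fun e => smul_left_injective E hgv e
  obtain ⟨τ, hτ⟩ := alg_of_mul (F := F) (σ := σ) (cancel (by rw [← hσ, one_smul, one_smul]))
    (fun c d => cancel (by rw [← hσ, add_smul, map_add, hσ, hσ, add_smul]))
    (fun c d => cancel (by rw [← hσ, mul_smul, hσ, hσ, mul_smul]))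
    (fun k => cancel (by rw [← hσ, IsScalarTower.algebraMap_smul, map_smul, IsScalarTower.algebraMap_smul]))
  exact ⟨τ, fun c v => by rw [hτ, hσ]⟩

theorem B_of_semi_at {g : V ≃ₗ[F] V} (hg : g ∈ ORefl.Iso Q) {σ : E ≃ₐ[F] E} {x : V}
    (h : ∀ c : E, g (c • x) = σ c • g x) (z : V) : B (g x) (g z) = σ (B x z) :=
  B_eq_of_tr S fun d => by
    obtain ⟨c, rfl⟩ := σ.surjective d
    rw [← h, ← S.polarQ, ORefl.polar_iso hg, S.polarQ, map_smul, LinearMap.smul_apply, smul_eq_mul, ← map_mul σ,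
      Algebra.trace_eq_of_algEquiv σ]

theorem B_fix {g : V ≃ₗ[F] V} (hg : g ∈ ORefl.Iso Q) {a : V} (h : ∀ t : E, g (t • a) = t • a) (x : V) :
    B a (g x) = B a x := B_eq_of_tr S fun d => by
  rw [← S.polarQ]
  nth_rewrite 1 [← h d]
  rw [ORefl.polar_iso hg, S.polarQ, map_smul, LinearMap.smul_apply, smul_eq_mul]

omit S in
theorem line_surj {g : V ≃ₗ[F] V} {a : V} (ha : a ≠ 0) (h : ∀ t : E, ∃ s : E, g (t • a) = s • a) (s : E) :
    ∃ t : E, g (t • a) = s • a := by
  choose f hf using h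
  obtain ⟨t, rfl⟩ := Finite.surjective_of_injective (f := f) (fun t₁ t₂ e =>
    smul_left_injective E ha (g.injective (by rw [hf, hf, e]))) s
  exact ⟨t, hf t⟩

theorem perp_map {g : V ≃ₗ[F] V} (hg : g ∈ ORefl.Iso Q) {a : V} (ha : a ≠ 0)
    (h : ∀ t : E, ∃ s : E, g (t • a) = s • a) {x : V} (hx : B a x = 0) : B a (g x) = 0 :=
  B_eq_of_tr S fun d => by
    obtain ⟨t, ht⟩ := line_surj ha h d
    rw [← ht, ← S.polarQ, ORefl.polar_iso hg, S.polarQ, map_smul, LinearMap.smul_apply, hx, smul_zero, mul_zero]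

theorem finrank_fixed {f : V ≃ₗ[F] V} {σ : E ≃ₐ[F] E} (hσ : σ ≠ 1) (hf : ∀ (c : E) (v : V), f (c • v) = σ c • f v)
    {m : ℕ} (v : Fin m → V) (hv : LinearIndependent F v) (hfix : ∀ i, f (v i) = v i) : LinearIndependent E v := by
  induction m with
  | zero => exact linearIndependent_empty_type
  | succ m ih =>
    obtain ⟨h1, h2⟩ := linearIndependent_finSucc.mp hv
    have ih' := ih (Fin.tail v) h1 fun i => hfix _
    refine linearIndependent_finSucc.mpr ⟨ih', fun hmem => h2 ?_⟩
    obtain ⟨c, hc⟩ := (Submodule.mem_span_range_iff_exists_fun E).mp hmem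
    have e : ∑ i, σ (c i) • Fin.tail v i = ∑ i, c i • Fin.tail v i := by
      conv_rhs => rw [hc, ← hfix 0, ← hc, map_sum]
      refine Finset.sum_congr rfl fun i _ => ?_
      rw [hf, show f (Fin.tail v i) = Fin.tail v i from hfix _]
    rw [← sub_eq_zero, ← Finset.sum_sub_distrib] at e
    simp only [← sub_smul] at e
    have hcF : ∀ i, ∃ k : F, algebraMap F E k = c i := fun i => by
      have h0 := Fintype.linearIndependent_iff.mp ih' _ e i
      by_contra hcon
      push Not at hcon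
      exact hσ (gal_inj_at S.deg S.prime hcon (τ := 1) (sub_eq_zero.mp h0))
    choose k hk using hcF
    refine (Submodule.mem_span_range_iff_exists_fun F).mpr ⟨k, ?_⟩
    rw [← hc]
    exact Finset.sum_congr rfl fun i _ => by rw [← hk, IsScalarTower.algebraMap_smul]

end Semi

/-- The semilinear elements. -/
def semiG (F E V : Type*) [Field F] [Field E] [AddCommGroup V] [Module F V] [Module E V] [Finite V] : Subgroup (V ≃ₗ[F] V) :=
  haveI : Finite (V ≃ₗ[F] V) := Finite.of_injective (fun g : V ≃ₗ[F] V => (g : V → V)) DFunLike.coe_injective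
  subgroupOfFinite {g | SemiE E g} ⟨id, fun c v => rfl⟩ fun g ⟨σ, hσ⟩ h ⟨τ, hτ⟩ =>
    ⟨σ ∘ τ, fun c v => by rw [LinearEquiv.mul_apply, LinearEquiv.mul_apply, hτ, hσ]; rfl⟩

theorem mem_semiG {g : V ≃ₗ[F] V} : g ∈ semiG F E V ↔ SemiE E g := Iff.rfl


section Main

variable (S : Setup B Q r) (hX : Over E Q X) (hN : NoFix B X)

include S hX hN

/-- Elements fixing a singular line pointwise and trivial on the quotient of its perp are Siegel elements. -/
theorem unip {a b : V} (hp : HP B a b) {w : V ≃ₗ[F] V} (hw : w ∈ X) (hfix : ∀ t : E, w (t • a) = t • a)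
    (hmove : ∀ x, B a x = 0 → ∃ s : E, w x = x + s • a) :
    ∃ (y : V) (hy : B a y = 0), w = u S hp.aa hy := by
  have hwi := mem_iso S hX hw
  have hBw := B_fix S hwi hfix
  have hφ : B a (w b - b) = 0 := by rw [map_sub, hBw, sub_self]
  refine ⟨w b - b, hφ, ?_⟩
  -- it commutes with every Siegel element
  have hcomm : ∀ (z : V) (hz : B a z = 0) x, w (u S hp.aa hz x) = u S hp.aa hz (w x) := by
    intro z hz x
    have huX := u_mem S hX hp.aa hz
    have hk : w * u S hp.aa hz * (u S hp.aa hz * w)⁻¹ = 1 := by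
      refine hN _ (X.mul_mem (X.mul_mem hw huX) (X.inv_mem (X.mul_mem huX hw))) a (hp.ne S) hp.aa fun y hy => ?_
      obtain ⟨x, rfl⟩ := (u S hp.aa hz * w).surjective y
      rw [LinearEquiv.mul_apply, LinearEquiv.coe_inv, LinearEquiv.symm_apply_apply, LinearEquiv.mul_apply,
        LinearEquiv.mul_apply]
      have hau : ∀ v, B a (u S hp.aa hz v) = B a v := fun v => by
        simp [u_apply, hz, hp.aa]
      have hx : B a x = 0 := by
        rw [LinearEquiv.mul_apply, hau, hBw] at hy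
        exact hy
      obtain ⟨s, hs⟩ := hmove x hx
      rw [hs, u_apply, u_apply, hx, zero_smul, add_zero, mul_zero, add_zero, map_sub, hs, hfix, map_add (B a),
        map_smul (B a), hp.aa, hx, smul_zero, add_zero, zero_smul, add_zero, mul_zero, add_zero, map_add (B z),
        map_smul (B z), S.symm z a, hz, smul_zero, add_zero]
    have hk' := congrArg (fun f : V ≃ₗ[F] V => f (u S hp.aa hz (w x))) hk
    have e : (u S hp.aa hz * w)⁻¹ (u S hp.aa hz (w x)) = x := by
      rw [LinearEquiv.coe_inv, LinearEquiv.symm_apply_eq]; rfl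
    simpa only [LinearEquiv.mul_apply, e, LinearEquiv.coe_one, id_eq] using hk'
  -- agreement on the perp
  have hagree : ∀ x, B a x = 0 → w x = u S hp.aa hφ x := by
    intro x hx
    obtain ⟨s, hs⟩ := hmove x hx
    have e := hcomm x hx b
    have e1 : u S hp.aa hx b = b + x - (B x b + qE B x) • a := by
      rw [u_apply, hp.ab, one_smul, mul_one]
    have e2 : u S hp.aa hx (w b) = b + x - (B x b + qE B x) • a + ((w b - b) - B x (w b - b) • a) := by
      nth_rewrite 1 [show w b = b + (w b - b) by abel]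
      rw [map_add, e1, u_apply, hφ, zero_smul, add_zero, mul_zero, add_zero]
    rw [e1, e2, map_sub, map_add, hs, hfix] at e
    rw [hs, u_apply, hx, zero_smul, add_zero, mul_zero, add_zero, S.symm (w b - b) x, sub_eq_add_neg,
      add_right_inj, ← neg_smul]
    have e3 : s • a = (-B x (w b - b)) • a := by
      rw [← sub_eq_zero] at e ⊢
      rw [← e]
      module
    exact e3
  have hu := u_mem S hX hp.aa hφ
  have h1 : (u S hp.aa hφ)⁻¹ * w = 1 :=
    hN _ (X.mul_mem (X.inv_mem hu) hw) a (hp.ne S) hp.aa fun x hx => by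
      rw [LinearEquiv.mul_apply, hagree x hx, LinearEquiv.coe_inv, LinearEquiv.symm_apply_apply]
  exact (inv_mul_eq_one.mp h1).symm

/-- Elements stabilising a singular line are semilinear. -/
theorem stab {a : V} (ha : a ≠ 0) (haa : B a a = 0) {g : V ≃ₗ[F] V} (hg : g ∈ X)
    (hline : ∀ t : E, ∃ s : E, g (t • a) = s • a) : SemiE E g := by
  obtain ⟨b, hp⟩ := exists_partner S ha haa
  have hgi := mem_iso S hX hg
  have hline' : ∀ t : E, ∃ s : E, g⁻¹ (t • a) = s • a := fun t => by
    obtain ⟨s, hs⟩ := line_surj ha hline t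
    exact ⟨s, by rw [LinearEquiv.coe_inv, LinearEquiv.symm_apply_eq, hs]⟩
  -- conjugating Siegel elements
  have hconj : ∀ k ∈ X, (∀ t : E, ∃ s : E, k (t • a) = s • a) → ∀ (y : V) (hy : B a y = 0),
      ∃ (y' : V) (hy' : B a y' = 0), k * u S haa hy * k⁻¹ = u S haa hy' := by
    intro k hk hkl y hy
    refine unip S hX hN hp (X.mul_mem (X.mul_mem hk (u_mem S hX haa hy)) (X.inv_mem hk)) (fun t => ?_) fun x hx => ?_
    · obtain ⟨s, hs⟩ := line_surj ha hkl t
      have e : k⁻¹ (t • a) = s • a := by rw [LinearEquiv.coe_inv, LinearEquiv.symm_apply_eq, hs]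
      rw [LinearEquiv.mul_apply, LinearEquiv.mul_apply, e, u_smul, u_apply, haa, S.symm y a, hy]
      simp [hs]
    · obtain ⟨z, rfl⟩ := k.surjective x
      have hz : B a z = 0 := by
        have := perp_map S (mem_iso S hX (X.inv_mem hk)) ha (g := k⁻¹) (fun t => ?_) hx
        · rwa [LinearEquiv.coe_inv, LinearEquiv.symm_apply_apply] at this
        · obtain ⟨s, hs⟩ := line_surj ha hkl t
          exact ⟨s, by rw [LinearEquiv.coe_inv, LinearEquiv.symm_apply_eq, hs]⟩
      obtain ⟨s, hs⟩ := hkl (-B y z)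
      refine ⟨s, ?_⟩
      rw [LinearEquiv.mul_apply, LinearEquiv.mul_apply, LinearEquiv.coe_inv, LinearEquiv.symm_apply_apply, u_apply,
        hz, zero_smul, add_zero, mul_zero, add_zero, sub_eq_add_neg, ← neg_smul, map_add, hs]
  choose f hfP hf using hconj g hg hline
  have hba : B b a = 1 := by rw [S.symm, hp.ab]
  have hperp : ∀ {x : V}, B a x = 0 → B a (g x) = 0 := fun hx => perp_map S hgi ha hline hx
  have hperp' : ∀ {x : V}, B a x = 0 → ∃ y, B a y = 0 ∧ g y = x := fun {x} hx =>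
    ⟨g⁻¹ x, perp_map S (mem_iso S hX (X.inv_mem hg)) ha hline' hx,
      by rw [LinearEquiv.coe_inv, LinearEquiv.apply_symm_apply]⟩
  -- the action on the line
  obtain ⟨l, hl⟩ : ∃ l : E →ₗ[F] E, ∀ t : E, g (t • a) = l t • a := by
    refine ⟨((B b).restrictScalars F).comp (g.toLinearMap.comp ((LinearMap.toSpanSingleton E V a).restrictScalars F)),
      fun t => ?_⟩
    obtain ⟨s, hs⟩ := hline t
    change _ = B b (g (t • a)) • a
    rw [hs, map_smul, hba, smul_eq_mul, mul_one]
  have hu_perp : ∀ {y x : V} (hy : B a y = 0), B a x = 0 → u S haa hy x = x + (-B y x) • a := fun hy hx => by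
    rw [u_apply, hx, zero_smul, add_zero, mul_zero, add_zero, neg_smul, sub_eq_add_neg]
  have hrel : ∀ (y : V) (hy : B a y = 0) (x : V), B a x = 0 → l (B y x) = B (f y hy) (g x) := fun y hy x hx => by
    have e : g (u S haa hy x) = u S haa (hfP y hy) (g x) := by
      rw [← hf y hy, LinearEquiv.mul_apply, LinearEquiv.mul_apply, LinearEquiv.coe_inv, LinearEquiv.symm_apply_apply]
    rw [hu_perp hy hx, hu_perp _ (hperp hx), map_add, hl, map_neg, add_right_inj] at e
    exact neg_inj.mp (smul_left_injective E ha e)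
  have hfsurj : ∀ z, B a z = 0 → ∃ (y : V) (hy : B a y = 0), ∀ x, B a x = 0 → B (f y hy) x = B z x := fun z hz => by
    obtain ⟨y, hy, e⟩ := hconj g⁻¹ (X.inv_mem hg) hline' z hz
    refine ⟨y, hy, fun x hx => ?_⟩
    have h2 : g * u S haa hy * g⁻¹ = u S haa hz := by rw [← e]; group
    rw [hf y hy] at h2
    have h3 := congrArg (fun k : V ≃ₗ[F] V => k x) h2
    simp only [hu_perp _ hx, add_right_inj] at h3
    exact neg_inj.mp (smul_left_injective E ha h3)
  -- the automorphism
  obtain ⟨x₀, hx₀a, -, hx₀⟩ := hp.exists_aniso S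
  obtain ⟨y₀, hy₀, hy₀0⟩ : ∃ (y : V) (hy : B a y = 0), B (f y hy) (g x₀) ≠ 0 := by
    refine ⟨x₀, hx₀a, fun e => hx₀ ?_⟩
    have hr₀ := hrel x₀ hx₀a x₀ hx₀a
    rw [e] at hr₀
    have : g (B x₀ x₀ • a) = g ((0 : E) • a) := by rw [hl, hl, hr₀, map_zero]
    exact smul_left_injective E ha (g.injective this)
  obtain ⟨z₀, hz₀, hz₀1⟩ : ∃ z, B a z = 0 ∧ B z (g x₀) = 1 :=
    ⟨(B (f y₀ hy₀) (g x₀))⁻¹ • f y₀ hy₀, by rw [map_smul, hfP y₀ hy₀, smul_zero],
      by rw [map_smul, LinearMap.smul_apply, smul_eq_mul, inv_mul_cancel₀ hy₀0]⟩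
  obtain ⟨σ₀, hσ₀⟩ : ∃ σ : E → E, ∀ c, σ c = B z₀ (g (c • x₀)) := ⟨_, fun c => rfl⟩
  have hlmul : ∀ c t : E, l (c * t) = σ₀ c * l t := fun c t => by
    obtain ⟨y, hy, hyz⟩ := hfsurj (l t • z₀) (by rw [map_smul, hz₀, smul_zero])
    have hcx : B a (c • x₀) = 0 := by rw [map_smul, hx₀a, smul_zero]
    have h1 := hrel y hy x₀ hx₀a
    have h2 := hrel y hy (c • x₀) hcx
    rw [hyz _ (hperp hx₀a), map_smul, LinearMap.smul_apply, hz₀1, smul_eq_mul, mul_one] at h1
    have e : B y x₀ = t := smul_left_injective E ha (g.injective (show g (B y x₀ • a) = g (t • a) by rw [hl, hl, h1]))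
    rw [map_smul, e, smul_eq_mul, hyz _ (hperp hcx), map_smul, LinearMap.smul_apply, ← hσ₀, smul_eq_mul] at h2
    rw [h2, mul_comm]
  obtain ⟨t₁, ht₁⟩ : ∃ t, l t = 1 := by
    obtain ⟨t, ht⟩ := line_surj ha hline (1 : E)
    rw [hl] at ht
    exact ⟨t, smul_left_injective E ha ht⟩
  have hσl : ∀ c, σ₀ c = l (c * t₁) := fun c => by rw [hlmul, ht₁, mul_one]
  obtain ⟨σ, hσ⟩ := alg_of_mul (F := F) (σ := σ₀) (by rw [hσl, one_mul, ht₁])
    (fun c d => by rw [hσl, add_mul, map_add, hσl, hσl])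
    (fun c d => by rw [hσl (c * d), mul_assoc, hlmul, ← hσl])
    (fun k => by rw [hσl, ← Algebra.smul_def, map_smul, ht₁, Algebra.smul_def, mul_one])
  obtain ⟨κ, hκ⟩ : ∃ κ, l 1 = κ := ⟨_, rfl⟩
  have hlσ : ∀ t, l t = σ t * κ := fun t => by rw [hσ, ← hκ, ← hlmul, mul_one]
  have hκ0 : κ ≠ 0 := fun e => by
    have := hlσ t₁
    rw [ht₁, e, mul_zero] at this
    exact one_ne_zero this
  -- the deviations on the perp lie in the line
  have hcongr : ∀ (c : E) (x : V), B a x = 0 → ∀ z, B a z = 0 → B z (g (c • x)) = σ c * B z (g x) := by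
    intro c x hx z hz
    obtain ⟨y, hy, hyz⟩ := hfsurj z hz
    have hcx : B a (c • x) = 0 := by rw [map_smul, hx, smul_zero]
    rw [← hyz _ (hperp hcx), ← hyz _ (hperp hx), ← hrel y hy _ hcx, ← hrel y hy _ hx, map_smul, smul_eq_mul, hlmul, hσ]
  have hBP : ∀ x z, B a x = 0 → B a z = 0 → B (g x) (g z) = σ (B x z) := fun x z hx hz =>
    B_eq_of_tr S fun d => by
      obtain ⟨c, rfl⟩ := σ.surjective d
      have hcx : B a (c • x) = 0 := by rw [map_smul, hx, smul_zero]
      have e1 : B (σ c • g x) (g z) = B (g (c • x)) (g z) := by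
        rw [map_smul, LinearMap.smul_apply, smul_eq_mul, S.symm (g x), ← hcongr c x hx _ (hperp hz), S.symm]
      rw [e1, ← S.polarQ, ORefl.polar_iso hgi, S.polarQ, map_smul, LinearMap.smul_apply, smul_eq_mul, ← map_mul σ,
        Algebra.trace_eq_of_algEquiv σ]
  -- the deviation maps commute with the Siegel elements and kill the line
  obtain ⟨D, hD⟩ : ∃ D : E → V → V, ∀ c x, D c x = g (c • x) - σ c • g x := ⟨_, fun c x => rfl⟩
  have hDu : ∀ c (y : V) (hy : B a y = 0) x, D c (u S haa hy x) = u S haa (hfP y hy) (D c x) := fun c y hy x => by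
    have e : ∀ v, g (u S haa hy v) = u S haa (hfP y hy) (g v) := fun v => by
      rw [← hf y hy, LinearEquiv.mul_apply, LinearEquiv.mul_apply, LinearEquiv.coe_inv, LinearEquiv.symm_apply_apply]
    rw [hD, hD, ← u_smul S haa hy, e, e, map_sub, u_smul]
  have hDadj : ∀ c x z, polar Q (D c x) (g z) = polar Q (g x) (D c z) := fun c x z => by
    rw [hD, hD, polar_sub_left, polar_sub_right, ORefl.polar_iso hgi, ORefl.polar_iso hgi, S.polarQ, S.polarQ,
      S.polarQ, S.polarQ]
    simp only [map_smul, LinearMap.smul_apply]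
  have hDline : ∀ c (t : E), D c (t • a) = 0 := fun c t => by
    rw [hD, smul_smul, hl, hl, hlmul, smul_smul, hσ, sub_self]
  have hDP : ∀ c x, B a x = 0 → D c x = B b (D c x) • a := fun c x hx => by
    refine hp.mem_line S fun z hz => ?_
    rw [hD, map_sub, (B z).map_smul, hcongr c x hx z hz, smul_eq_mul, sub_self]
  have hDa : ∀ c v, B a (D c v) = 0 := fun c v => B_eq_of_tr S fun d => by
    obtain ⟨t, ht⟩ := line_surj ha hline d
    rw [← ht, ← S.polarQ, ← hDadj, hDline, polar_zero_left, mul_zero, map_zero]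
  have hDzero : ∀ c x, B a x = 0 → D c x = 0 := by
    intro c x hx
    -- the coefficient through the complement
    have hβ : ∀ (x : V) (hx : B a x = 0) (t : E), B b (D c (t • x)) = -B (f x hx) (D c (t • b)) := fun x hx t => by
      have htx : B a (t • x) = 0 := by rw [map_smul, hx, smul_zero]
      have e := hDu c x hx (t • b)
      have e1 : u S haa hx (t • b) = t • b + t • x - (t * (B x b + qE B x)) • a := by
        rw [u_apply, map_smul, map_smul, hp.ab]
        simp only [smul_eq_mul, mul_one]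
        rw [mul_comm (qE B x) t, ← mul_add]
      have e2 : D c (u S haa hx (t • b)) = D c (t • b) + D c (t • x) := by
        rw [e1, ← sub_zero (D c (t • b) + D c (t • x)), ← hDline c (t * (B x b + qE B x))]
        simp only [hD, smul_add, smul_sub, map_add, map_sub]
        abel
      rw [e2, hu_perp _ (hDa c _), add_right_inj, hDP c _ htx] at e
      exact smul_left_injective E ha e
    obtain ⟨γ, hγ⟩ : ∃ γ, γ = B b (D c x) := ⟨_, rfl⟩
    have hγ1 : -B (f x hx) (D c b) = γ := by
      have := hβ x hx 1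
      rw [one_smul, one_smul] at this
      rw [hγ, this]
    have hfg : ∀ w, B a w = 0 → B (f x hx) w = κ * B (g x) w := fun w hw => by
      obtain ⟨v, hv, rfl⟩ := hperp' hw
      rw [hBP x v hx hv, ← hrel x hx v hv, hlσ]; ring
    have key : ∀ t : E, tr (σ t * (γ * κ⁻¹)) = 0 := fun t => by
      have h := hDadj c x (t • b)
      rw [hDP c x hx, ← hγ] at h
      obtain ⟨s, hs⟩ := line_surj ha hline γ
      rw [hl] at hs
      have hs' : σ s = γ * κ⁻¹ := by
        rw [← smul_left_injective E ha hs, hlσ, mul_assoc, mul_inv_cancel₀ hκ0, mul_one]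
      have lhs : polar Q (γ • a) (g (t • b)) = tr (σ t * (γ * κ⁻¹)) := by
        rw [show γ • a = g (s • a) by rw [hl, hs], ORefl.polar_iso hgi, polar_smul S, hp.ab, mul_one, ← hs', ← map_mul σ,
          Algebra.trace_eq_of_algEquiv σ, mul_comm]
      have htb := hβ x hx t
      have htb' : B b (D c (t • x)) = σ t * γ := by
        have htx : B a (t • x) = 0 := by rw [map_smul, hx, smul_zero]
        have h1 := hβ (t • x) htx 1
        rw [one_smul, one_smul] at h1
        rw [h1, ← hγ1, mul_neg, neg_inj]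
        have hw : ∀ w, B a w = 0 → B (f (t • x) htx) w = σ t * B (f x hx) w := fun w hw => by
          obtain ⟨v, hv, rfl⟩ := hperp' hw
          rw [← hrel _ htx v hv, ← hrel x hx v hv, map_smul, LinearMap.smul_apply, smul_eq_mul, hlmul, hσ]
        exact hw _ (hDa c _)
      rw [htb'] at htb
      have rhs : polar Q (g x) (D c (t • b)) = -tr (σ t * (γ * κ⁻¹)) := by
        rw [S.polarQ, ← map_neg]
        congr 1
        have := hfg _ (hDa c (t • b))
        field_simp
        linear_combination -this + htb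
      rw [lhs, rhs, ← sub_eq_zero, sub_neg_eq_add, ← two_mul] at h
      exact (mul_eq_zero.mp h).resolve_left S.two
    have hz : γ * κ⁻¹ = 0 := eq_zero_of_tr S fun d => by
      obtain ⟨t, rfl⟩ := σ.surjective d
      exact key t
    rw [hDP c x hx, ← hγ, (mul_eq_zero.mp hz).resolve_right (inv_ne_zero hκ0), zero_smul]
  have hlin : ∀ (c : E) x, B a x = 0 → g (c • x) = σ c • g x := fun c x hx => by
    have := hDzero c x hx
    rwa [hD, sub_eq_zero] at this
  have hBg : ∀ x, B a x = 0 → ∀ z, B (g x) (g z) = σ (B x z) := fun x hx =>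
    B_of_semi_at S hgi fun c => hlin c x hx
  -- the semilinear isometry agreeing on the perp
  obtain ⟨v, hv⟩ : ∃ v, v = g b - (B (g b) (g b) / 2) • g a := ⟨_, rfl⟩
  have hga : ∀ z, B (g a) (g z) = σ (B a z) := hBg a haa
  have hgab : B (g a) (g b) = 1 := by rw [hga, hp.ab, map_one]
  have hgaa : B (g a) (g a) = 0 := by rw [hga, haa, map_zero]
  have hxv : ∀ x, B a x = 0 → B (g x) v = σ (B x b) := fun x hx => by
    rw [hv, map_sub, map_smul, hBg x hx, hBg x hx, S.symm x a, hx, map_zero, smul_zero, sub_zero]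
  have hvv : B v v = 0 := by
    have h2 := two_E S
    rw [hv]
    simp only [map_sub, map_smul, LinearMap.sub_apply, LinearMap.smul_apply, smul_eq_mul, S.symm (g b) (g a), hgab,
      hgaa]
    field_simp
    ring
  obtain ⟨G, hG⟩ : ∃ G : V →ₗ[F] V, ∀ x, G x = g (x - B a x • b) + σ (B a x) • v :=
    ⟨{ toFun := fun x => g (x - B a x • b) + σ (B a x) • v
       map_add' := fun x y => by simp only [map_add, add_smul, add_sub_add_comm]; abel
       map_smul' := fun k x => by
        rw [RingHom.id_apply, LinearMap.map_smul_of_tower, smul_assoc, ← smul_sub, map_smul, map_smul, smul_assoc,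
          smul_add] }, fun x => rfl⟩
  have hsplit : ∀ x, B a (x - B a x • b) = 0 := fun x => by
    rw [map_sub, map_smul, hp.ab, smul_eq_mul, mul_one, sub_self]
  have hGs : ∀ (c : E) x, G (c • x) = σ c • G x := fun c x => by
    rw [hG, hG, map_smul, smul_eq_mul, mul_smul, ← smul_sub, hlin c _ (hsplit x), map_mul, smul_add, smul_smul]
  have hGB : ∀ x z, B (G x) (G z) = σ (B x z) := fun x z => by
    obtain ⟨x₁, hx₁⟩ : ∃ x₁, x₁ = x - B a x • b := ⟨_, rfl⟩
    obtain ⟨z₁, hz₁⟩ : ∃ z₁, z₁ = z - B a z • b := ⟨_, rfl⟩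
    have hx₁a : B a x₁ = 0 := hx₁ ▸ hsplit x
    have hz₁a : B a z₁ = 0 := hz₁ ▸ hsplit z
    rw [hG, hG, ← hx₁, ← hz₁]
    conv_rhs => rw [show x = x₁ + B a x • b by rw [hx₁, sub_add_cancel],
      show z = z₁ + B a z • b by rw [hz₁, sub_add_cancel]]
    simp only [map_add, map_smul, LinearMap.add_apply, LinearMap.smul_apply, smul_eq_mul, hBg x₁ hx₁a, hxv x₁ hx₁a,
      S.symm v (g z₁), hxv z₁ hz₁a, hvv, S.symm b z₁, hp.bb, map_mul, mul_zero, add_zero]
  have hGinj : Function.Injective G := by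
    rw [← LinearMap.ker_eq_bot, LinearMap.ker_eq_bot']
    refine fun x hx => S.nd x fun z => ?_
    have := hGB x z
    rw [hx, map_zero, LinearMap.zero_apply] at this
    exact σ.injective (by rw [← this, map_zero])
  haveI : Module.Finite F V := Module.Finite.of_finite
  obtain ⟨G0, hG0⟩ : ∃ G0 : V ≃ₗ[F] V, ∀ x, G0 x = G x :=
    ⟨LinearEquiv.ofInjectiveEndo G hGinj, fun x => rfl⟩
  have hG0i : G0 ∈ ORefl.Iso Q := fun x => by
    rw [q_eq S, q_eq S, qE, qE, hG0, hGB, ← Algebra.trace_eq_of_algEquiv σ (B x x / 2),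
      map_div₀ σ, map_ofNat σ]
  have hζi : g * G0⁻¹ ∈ ORefl.Iso Q := mul_mem hgi (inv_mem hG0i)
  have hζfix : ∀ x, B a x = 0 → (g * G0⁻¹) x = x := fun x hx => by
    obtain ⟨w, hw, rfl⟩ := hperp' hx
    have : G0⁻¹ (g w) = w := by
      rw [LinearEquiv.coe_inv, LinearEquiv.symm_apply_eq, hG0, hG, hw, map_zero, zero_smul, zero_smul, sub_zero,
        add_zero]
    rw [LinearEquiv.mul_apply, this]
  obtain ⟨d, -, hd⟩ := fix_perp S hζi hp hζfix
  haveI := finiteF S
  obtain ⟨p, hchar⟩ := CharP.exists F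
  haveI hpp : Fact p.Prime := ⟨CharP.char_is_prime F p⟩
  obtain ⟨m, hm⟩ : ∃ m, p = 2 * m + 1 := by
    rcases hpp.out.eq_two_or_odd with h | h
    · subst h
      exact absurd (CharP.cast_eq_zero F 2) (by simpa using S.two)
    · exact ⟨p / 2, by omega⟩
  have hpow : ∀ n : ℕ, ∀ x, ((g * G0⁻¹) ^ n) x = x + (n : F) • (d (B a x) • a) := fun n => by
    induction n with
    | zero => intro x; rw [pow_zero, Nat.cast_zero, zero_smul, add_zero]; rfl
    | succ n ih =>
      intro x
      rw [pow_succ, LinearEquiv.mul_apply, ih, hd, map_add (B a), map_smul (B a), haa, smul_zero, add_zero,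
        Nat.cast_succ, add_smul, one_smul]
      abel
  have hζp : (g * G0⁻¹) ^ (2 * m + 1) = 1 := LinearEquiv.ext fun x => by
    rw [hpow, ← hm, CharP.cast_eq_zero, zero_smul, add_zero]; rfl
  have hζO := odd_mem S hζi hζp
  have hG0O : G0 ∈ Om Q := by
    have := mul_mem (inv_mem hζO) (hX.le hg)
    rwa [show (g * G0⁻¹)⁻¹ * g = G0 by group] at this
  have hG0s : SemiE E G0 := ⟨σ, fun c x => by rw [hG0, hG0, hGs]⟩
  have h1 := hN _ (X.mul_mem hg (X.inv_mem (hX.semi _ hG0s hG0O))) a ha haa hζfix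
  rwa [mul_inv_eq_one.mp h1]

end Main

end Cfsg.Agent.Classical.FieldExt.Orth
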