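/-
Invariance under congruence by squares gives invariance under congruence by everything.
-/
import Cfsg.Agent.Lib.Classical.FieldExt.Gal

set_option autoImplicit false
set_option linter.style.haveILetI false
set_option linter.unusedSectionVars false

namespace Cfsg.Agent.Classical.FieldExt.Orth

open Cfsg.Agent.Classical.FieldExt

variable {F E : Type*} [Field F] [Field E] [Algebra F E] [Finite E]

/-- The congruence by `κ`. -/
def conjM (κ : E) (c : E →ₗ[F] E) : E →ₗ[F] E := (mulE κ).comp (c.comp (mulE κ))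

theorem conjM_apply (κ : E) (c : E →ₗ[F] E) (x : E) : conjM κ c x = κ * c (κ * x) := rfl

theorem conjM_mul (κ μ : E) (c : E →ₗ[F] E) : conjM κ (conjM μ c) = conjM (κ * μ) c := LinearMap.ext fun x => by
  simp only [conjM_apply]
  rw [← mul_assoc κ μ, ← mul_assoc μ κ, mul_comm μ κ]

theorem conjM_one (c : E →ₗ[F] E) : conjM 1 c = c := LinearMap.ext fun x => by simp [conjM_apply]

theorem conjM_zero (c : E →ₗ[F] E) : conjM 0 c = 0 := LinearMap.ext fun x => by simp [conjM_apply]

/-- The fourth powers generate a finite field with more than sixteen elements additively. -/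
theorem closure_fourth (hE : 16 < Nat.card E) : AddSubgroup.closure {x : E | ∃ y, y ^ 4 = x} = ⊤ := by
  classical
  letI := Fintype.ofFinite E
  obtain ⟨R, hR⟩ : ∃ R, R = AddSubgroup.closure {x : E | ∃ y, y ^ 4 = x} := ⟨_, rfl⟩
  have hgen : ∀ y : E, y ^ 4 ∈ R := fun y => hR ▸ AddSubgroup.subset_closure ⟨y, rfl⟩
  have hmul : ∀ x ∈ R, ∀ y ∈ R, x * y ∈ R := by
    have h1 : ∀ u : E, ∀ y ∈ R, u ^ 4 * y ∈ R := fun u y hy => by
      have : R ≤ R.comap (AddMonoidHom.mulLeft (u ^ 4)) := by
        conv_lhs => rw [hR]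
        rw [AddSubgroup.closure_le]
        rintro _ ⟨w, rfl⟩
        change u ^ 4 * w ^ 4 ∈ R
        rw [← mul_pow]
        exact hgen _
      exact this hy
    intro x hx y hy
    have : R ≤ R.comap (AddMonoidHom.mulRight y) := by
      conv_lhs => rw [hR]
      rw [AddSubgroup.closure_le]
      rintro _ ⟨u, rfl⟩
      exact h1 u y hy
    exact this hx
  have hone : (1 : E) ∈ R := by simpa using hgen 1
  have hpow : ∀ x ∈ R, ∀ n : ℕ, x ^ n ∈ R := fun x hx n => by
    induction n with
    | zero => simpa using hone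
    | succ n ih => rw [pow_succ]; exact hmul _ ih _ hx
  rw [← hR]
  by_contra hne
  obtain ⟨e, he⟩ : ∃ e, e ∉ R := by
    by_contra hcon
    push Not at hcon
    exact hne (eq_top_iff.mpr fun x _ => hcon x)
  have hinj : Function.Injective fun p : R × R => (p.1 : E) + p.2 * e := by
    rintro ⟨a, b⟩ ⟨a', b'⟩ h
    simp only at h
    have hb : (b : E) = b' := by
      by_contra hb
      have hd : ((b : E) - b') ≠ 0 := sub_ne_zero.mpr hb
      refine he ?_
      have hinv : ((b : E) - b')⁻¹ ∈ R := by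
        have e1 : ((b : E) - b') ^ (Fintype.card E - 2) = ((b : E) - b')⁻¹ := by
          refine eq_inv_of_mul_eq_one_left ?_
          rw [← pow_succ, show Fintype.card E - 2 + 1 = Fintype.card E - 1 by
            have : 1 < Fintype.card E := Fintype.one_lt_card
            omega]
          exact FiniteField.pow_card_sub_one_eq_one _ hd
        exact e1 ▸ hpow _ (R.sub_mem b.2 b'.2) _
      have e2 : e = ((a' : E) - a) * ((b : E) - b')⁻¹ := by
        rw [eq_mul_inv_iff_mul_eq₀ hd]
        linear_combination h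
      exact e2 ▸ hmul _ (R.sub_mem a'.2 a.2) _ hinv
    rw [hb] at h
    exact Prod.ext (Subtype.ext (add_right_cancel h)) (Subtype.ext hb)
  have hsq : Nat.card R * Nat.card R ≤ Nat.card E := by
    rw [← Nat.card_prod]
    exact Nat.card_le_card_of_injective _ hinj
  have hfour : Fintype.card E ≤ 4 * (Finset.univ.image fun y : E => y ^ 4).card := by
    rw [← Finset.card_univ]
    refine Finset.card_le_mul_card_image _ 4 fun b _ => ?_
    refine le_trans (Finset.card_le_card (t := (Polynomial.nthRoots 4 b).toFinset) fun y hy => ?_)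
      (le_trans (Multiset.toFinset_card_le _) (Polynomial.card_nthRoots 4 b))
    rw [Multiset.mem_toFinset, Polynomial.mem_nthRoots (by norm_num)]
    exact (Finset.mem_filter.mp hy).2
  have hle : (Finset.univ.image fun y : E => y ^ 4).card ≤ Nat.card R := by
    rw [← Nat.card_eq_finsetCard]
    refine Nat.card_le_card_of_injective
      (fun x => (⟨x.1, by obtain ⟨y, -, hy⟩ := Finset.mem_image.mp x.2; exact hy ▸ hgen y⟩ : R)) fun x y h => ?_
    exact Subtype.ext (congrArg (fun z : R => (z : E)) h)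
  rw [← Nat.card_eq_fintype_card] at hfour
  obtain ⟨A, hA⟩ : ∃ A, A = Nat.card R := ⟨_, rfl⟩
  rw [← hA] at hsq hle
  have h4 : Nat.card E ≤ 4 * A := le_trans hfour (Nat.mul_le_mul_left _ hle)
  nlinarith

/-- Stability under congruence by squares gives stability under congruence by everything. -/
theorem conj_all (h2 : (2 : F) ≠ 0) (hE : 16 < Nat.card E) {L : AddSubgroup (E →ₗ[F] E)}
    (hsq : ∀ κ : E, ∀ c ∈ L, conjM (κ * κ) c ∈ L) : ∀ κ : E, ∀ c ∈ L, conjM κ c ∈ L := by
  classical
  have h2E : (2 : E) ≠ 0 := fun h => h2 ((algebraMap F E).injective (by rw [map_ofNat, h, map_zero]))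
  obtain ⟨p, hchar⟩ := CharP.exists E
  haveI hp : Fact p.Prime := ⟨CharP.char_is_prime E p⟩
  have hodd : p % 2 = 1 := by
    rcases hp.out.eq_two_or_odd with h | h
    · subst h
      exact absurd (CharP.cast_eq_zero E 2) (by simpa using h2E)
    · exact h
  obtain ⟨j, hj⟩ : ∃ j : ℕ, 2 * (j : E) = -1 := by
    refine ⟨(p - 1) / 2, eq_neg_of_add_eq_zero_left ?_⟩
    have e : 2 * ((p - 1) / 2) + 1 = p := by omega
    have := congrArg (Nat.cast (R := E)) e
    simpa [CharP.cast_eq_zero] using this
  obtain ⟨k, hk⟩ : ∃ k : ℕ, 2 * (k : E) = 1 := by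
    refine ⟨(p + 1) / 2, ?_⟩
    have e : 2 * ((p + 1) / 2) = p + 1 := by omega
    have := congrArg (Nat.cast (R := E)) e
    simpa [CharP.cast_eq_zero] using this
  have hstep : ∀ u w : E, u * u - 1 = w * w → ∀ c ∈ L, conjM (u * u + j) c ∈ L := by
    intro u w huw c hc
    have e : conjM (u * u + j) c = conjM (u * u) c
        + j • (conjM (u * u) c + c - conjM (w * w) c) + (j * j) • c := LinearMap.ext fun x => by
      rw [← huw]
      simp only [LinearMap.add_apply, LinearMap.sub_apply, LinearMap.smul_apply, conjM_apply, add_mul, sub_mul,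
        one_mul, map_add, map_sub]
      rw [← nsmul_eq_mul j x, map_nsmul]
      simp only [nsmul_eq_mul, Nat.cast_mul]
      ring
    rw [e]
    exact add_mem (add_mem (hsq u c hc) (nsmul_mem (sub_mem (add_mem (hsq u c hc) hc) (hsq w c hc)) j))
      (nsmul_mem hc _)
  have hfour : ∀ z : E, ∀ c ∈ L, conjM (z ^ 4 + 1) c ∈ L := by
    intro z c hc
    by_cases hz : z = 0
    · rw [hz, zero_pow (by norm_num), zero_add, conjM_one]
      exact hc
    have h4 : (4 : E) ≠ 0 := by
      rw [show (4 : E) = 2 * 2 by norm_num]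
      exact mul_ne_zero h2E h2E
    obtain ⟨u, hu⟩ : ∃ u, u = (z + z⁻¹) / 2 := ⟨_, rfl⟩
    obtain ⟨w, hw⟩ : ∃ w, w = (z - z⁻¹) / 2 := ⟨_, rfl⟩
    have huw : u * u - 1 = w * w := by rw [hu, hw]; field_simp; ring
    have e : conjM (z ^ 4 + 1) c = conjM ((2 * z) * (2 * z)) (conjM (u * u + j) c) := by
      rw [conjM_mul]
      congr 1
      have ej : (j : E) = -1 / 2 := by rw [eq_div_iff h2E, mul_comm, hj]
      rw [hu, ej]; field_simp; ring
    rw [e]
    exact hsq _ _ (hstep u w huw c hc)
  have hsum : ∀ a b : E, ∀ c ∈ L, conjM (a ^ 4 + b ^ 4) c ∈ L := by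
    intro a b c hc
    by_cases hb : b = 0
    · rw [hb, zero_pow (by norm_num), add_zero, show a ^ 4 = (a ^ 2) * (a ^ 2) by ring]
      exact hsq _ _ hc
    have e : conjM (a ^ 4 + b ^ 4) c = conjM (b ^ 2 * b ^ 2) (conjM ((a / b) ^ 4 + 1) c) := by
      rw [conjM_mul]
      congr 1
      field_simp
    rw [e]
    exact hsq _ _ (hfour _ c hc)
  intro κ c hc
  obtain ⟨N, hN⟩ : ∃ N : E → E → (E →ₗ[F] E), ∀ s t, N s t = conjM (s + t) c - conjM s c - conjM t c :=
    ⟨_, fun s t => rfl⟩
  have hNl : ∀ s s' t, N (s + s') t = N s t + N s' t := fun s s' t => LinearMap.ext fun x => by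
    simp only [hN, LinearMap.add_apply, LinearMap.sub_apply, conjM_apply, add_mul, map_add]
    ring
  have hNc : ∀ s t, N s t = N t s := fun s t => by rw [hN, hN, add_comm]; abel
  have hN0 : ∀ t, N 0 t = 0 := fun t => by rw [hN, zero_add, conjM_zero]; abel
  have hNn : ∀ s t, N (-s) t = -N s t := fun s t =>
    eq_neg_of_add_eq_zero_left (by rw [← hNl, neg_add_cancel, hN0])
  obtain ⟨A, hA⟩ : ∃ A : E → AddSubgroup E, ∀ t s, s ∈ A t ↔ N s t ∈ L :=
    ⟨fun t => { carrier := {s | N s t ∈ L}
                zero_mem' := by simp only [Set.mem_setOf_eq, hN0]; exact L.zero_mem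
                add_mem' := fun {s s'} h h' => by
                  simp only [Set.mem_setOf_eq, hNl] at h h' ⊢
                  exact L.add_mem h h'
                neg_mem' := fun {s} h => by
                  simp only [Set.mem_setOf_eq, hNn] at h ⊢
                  exact L.neg_mem h }, fun t s => Iff.rfl⟩
  have h1 : ∀ a : E, A (a ^ 4) = ⊤ := fun a => by
    rw [eq_top_iff, ← closure_fourth hE, AddSubgroup.closure_le]
    rintro _ ⟨b, rfl⟩
    rw [SetLike.mem_coe, hA, hN]
    refine sub_mem (sub_mem (hsum b a c hc) ?_) ?_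
    · rw [show b ^ 4 = b ^ 2 * b ^ 2 by ring]; exact hsq _ _ hc
    · rw [show a ^ 4 = a ^ 2 * a ^ 2 by ring]; exact hsq _ _ hc
  have h2' : ∀ t, A t = ⊤ := fun t => by
    rw [eq_top_iff, ← closure_fourth hE, AddSubgroup.closure_le]
    rintro _ ⟨b, rfl⟩
    rw [SetLike.mem_coe, hA, hNc, ← hA, h1]
    trivial
  have h3 : N κ κ ∈ L := (hA κ κ).mp (h2' κ ▸ AddSubgroup.mem_top κ)
  have e : conjM κ c = k • N κ κ := LinearMap.ext fun x => by
    simp only [hN, LinearMap.smul_apply, LinearMap.sub_apply, conjM_apply, add_mul, map_add]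
    rw [nsmul_eq_mul]
    linear_combination (-(κ * c (κ * x))) * hk
  rw [e]
  exact nsmul_mem h3 k

end Cfsg.Agent.Classical.FieldExt.Orth
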