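/-
An orthogonal space of dimension three over the big field: frames, Siegel elements, involutions and moves.
-/
import Cfsg.Agent.Lib.Classical.FieldExt.Orth.Root
import Cfsg.Agent.Lib.Classical.FieldExt.Orth.Scale

set_option autoImplicit false
set_option linter.style.haveILetI false
set_option linter.unusedSectionVars false

namespace Cfsg.Agent.Classical.FieldExt.Orth

open Module QuadraticMap
open Cfsg.Agent.Classical

variable {F E V : Type*} [Field F] [Field E] [Algebra F E] [Finite E] [AddCommGroup V] [Module F V] [Module E V]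
  [IsScalarTower F E V] [Finite V]
variable {B : V →ₗ[E] V →ₗ[E] E} {Q : QuadraticForm F V} {r : ℕ} {X : Subgroup (V ≃ₗ[F] V)}

/-- A hyperbolic pair and an anisotropic vector orthogonal to it. -/
structure Frame (B : V →ₗ[E] V →ₗ[E] E) (a b e : V) : Prop where
  hp : HP B a b
  ae : B a e = 0
  be : B b e = 0
  ee : B e e ≠ 0

section Frames

variable (S : Setup B Q r)

include S

theorem exists_frame {a : V} (ha : a ≠ 0) (haa : B a a = 0) : ∃ b e, Frame B a b e := by
  obtain ⟨b, hp⟩ := exists_partner S ha haa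
  obtain ⟨e, h1, h2, h3⟩ := hp.exists_aniso S
  exact ⟨b, e, hp, h1, h2, h3⟩

theorem Frame.swap {a b e : V} (f : Frame B a b e) : Frame B b a e := ⟨f.hp.swap S, f.be, f.ae, f.ee⟩

theorem Frame.kappa_ne {a b e : V} (f : Frame B a b e) : qE B e ≠ 0 := mt (qE_zero_iff S).mp f.ee

theorem Frame.values {a b e : V} (f : Frame B a b e) :
    B b a = 1 ∧ B e a = 0 ∧ B e b = 0 ∧ B e e = 2 * qE B e :=
  ⟨by rw [S.symm, f.hp.ab], by rw [S.symm, f.ae], by rw [S.symm, f.be], by
    have := two_E S
    rw [qE]; field_simp⟩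

/-- Coordinates. -/
theorem Frame.decomp (h3 : finrank E V = 3) {a b e : V} (f : Frame B a b e) (x : V) :
    x = B b x • a + B a x • b + (B e x / B e e) • e := by
  haveI : FiniteDimensional E V := Module.Finite.of_finite
  obtain ⟨hba, hea, heb, -⟩ := f.values S
  have hli : LinearIndependent E ![a, b, e] := by
    rw [Fintype.linearIndependent_iff]
    intro c hc
    rw [Fin.sum_univ_three] at hc
    simp only [Matrix.cons_val_zero, Matrix.cons_val_one, Matrix.cons_val_two, Matrix.head_cons,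
      Matrix.tail_cons] at hc
    have h0 := congrArg (B b) hc
    have h1 := congrArg (B a) hc
    have h2 := congrArg (B e) hc
    simp [f.hp.aa, f.hp.ab, f.hp.bb, f.ae, f.be, hba, hea, heb, f.ee] at h0 h1 h2
    intro i
    fin_cases i
    · simpa using h0
    · simpa using h1
    · simpa using h2
  have hspan := hli.span_eq_top_of_card_eq_finrank (by rw [Fintype.card_fin, h3])
  refine sub_eq_zero.mp (S.nd _ fun y => ?_)
  have hle : Submodule.span E (Set.range ![a, b, e]) ≤
      LinearMap.ker (B (x - (B b x • a + B a x • b + (B e x / B e e) • e))) := by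
    rw [Submodule.span_le]
    rintro _ ⟨i, rfl⟩
    refine LinearMap.mem_ker.mpr ?_
    rw [S.symm]
    fin_cases i <;> simp [f.hp.aa, f.hp.ab, f.hp.bb, f.ae, f.be, hba, hea, heb, f.ee]
  exact hle (hspan.ge (Submodule.mem_top : y ∈ ⊤))

/-- The Siegel element attached to a scalar. -/
theorem Frame.perp_smul {a b e : V} (f : Frame B a b e) (z : E) : B a (z • e) = 0 := by
  rw [map_smul, f.ae, smul_zero]

end Frames

/-- The Siegel element at `a` attached to a scalar. -/
def Frame.rt (S : Setup B Q r) {a b e : V} (f : Frame B a b e) (z : E) : V ≃ₗ[F] V :=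
  u S f.hp.aa (f.perp_smul S z)

section Rt

variable (S : Setup B Q r) {a b e : V} (f : Frame B a b e)

include S

theorem Frame.rt_a (z : E) : f.rt S z a = a := by
  rw [Frame.rt, u_apply, f.hp.aa, map_smul, LinearMap.smul_apply, (f.values S).2.1]
  simp

theorem Frame.rt_b (z : E) : f.rt S z b = b + z • e - (z * z * qE B e) • a := by
  rw [Frame.rt, u_apply, f.hp.ab, map_smul, LinearMap.smul_apply, (f.values S).2.2.1, qE_smul S]
  simp

theorem Frame.rt_e (z : E) : f.rt S z e = e - (2 * z * qE B e) • a := by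
  rw [Frame.rt, u_apply, f.ae, map_smul, LinearMap.smul_apply, (f.values S).2.2.2, smul_eq_mul]
  simp
  ring_nf

theorem Frame.rt_smul (z c : E) (x : V) : f.rt S z (c • x) = c • f.rt S z x := u_smul S _ _ c x

theorem Frame.rt_B (z : E) (x y : V) : B (f.rt S z x) (f.rt S z y) = B x y := u_B S _ _ x y

theorem Frame.rt_add (z z' : E) : f.rt S z * f.rt S z' = f.rt S (z + z') := by
  refine LinearEquiv.ext fun x => ?_
  rw [Frame.rt, Frame.rt, u_mul, Frame.rt, u_apply, u_apply]
  simp only [← add_smul]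

theorem Frame.rt_zero : f.rt S (0 : E) = 1 := LinearEquiv.ext fun x => by
  rw [Frame.rt, u_apply, zero_smul]
  simp [qE]

/-- The fixed vectors of a nontrivial Siegel element. -/
theorem Frame.fix (h3 : finrank E V = 3) {z : E} (hz : z ≠ 0) {x : V} :
    f.rt S z x = x ↔ ∃ t : E, x = t • a := by
  constructor
  · intro h
    refine ⟨B b x, ?_⟩
    have hd := f.decomp S h3 x
    rw [Frame.rt, u_apply, sub_eq_iff_eq_add, add_right_inj] at h
    have he := congrArg (B e) h
    simp [(f.values S).2.1, f.ee, hz] at he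
    rw [he, zero_smul] at h hd
    have hb := congrArg (B b) h
    simp [(f.values S).1, hz] at hb
    rw [hb, zero_div, zero_smul, add_zero, add_zero] at hd
    exact hd
  · rintro ⟨t, rfl⟩
    rw [f.rt_smul S, f.rt_a S]

theorem Frame.rt_ne (h3 : finrank E V = 3) {z : E} (hz : z ≠ 0) : f.rt S z ≠ 1 := by
  intro h
  obtain ⟨t, ht⟩ := (f.fix S h3 hz).mp (LinearEquiv.congr_fun h b)
  have := congrArg (B a) ht
  rw [f.hp.ab, map_smul, f.hp.aa, smul_zero] at this
  exact one_ne_zero this

theorem Frame.rt_inj (h3 : finrank E V = 3) : Function.Injective (f.rt S) := fun z z' h => by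
  by_contra hne
  refine f.rt_ne S h3 (sub_ne_zero.mpr hne) ?_
  rw [sub_eq_add_neg, ← f.rt_add S, h, f.rt_add S, add_neg_cancel, f.rt_zero S]

variable (hX : Over E Q X)

include hX f

theorem Frame.rt_mem (z : E) : f.rt S z ∈ X := u_mem S hX _ _

/-- An involution exchanging the lines of the pair. -/
theorem Frame.exists_inv (h3 : finrank E V = 3) {w : E} (hw : w ≠ 0) :
    ∃ ι ∈ X, (∀ (c : E) x, ι (c • x) = c • ι x) ∧ (∀ x y, B (ι x) (ι y) = B x y) ∧
      ι a = (-(w * w * qE B e)) • b ∧ ι e = -e ∧ ι * ι = 1 := by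
  have hκ := f.kappa_ne S
  obtain ⟨g, hg⟩ : ∃ g : Frame B b a e, g = f.swap S := ⟨_, rfl⟩
  obtain ⟨z, hz⟩ : ∃ z, z = (qE B e * w)⁻¹ := ⟨_, rfl⟩
  have hzw : qE B e * z * w = 1 := by rw [hz]; field_simp
  obtain ⟨ι, hι⟩ : ∃ ι, ι = f.rt S z * g.rt S w * f.rt S z := ⟨_, rfl⟩
  have hlin : ∀ (c : E) x, ι (c • x) = c • ι x := fun c x => by
    simp only [hι, LinearEquiv.mul_apply, f.rt_smul S, g.rt_smul S]
  have hfz : ∀ p q : V, f.rt S z (p + q) = f.rt S z p + f.rt S z q := fun p q => map_add _ _ _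
  have ha : ι a = (-(w * w * qE B e)) • b := by
    simp only [hι, LinearEquiv.mul_apply, f.rt_a S, g.rt_b S, map_add, map_sub, f.rt_smul S, f.rt_e S, f.rt_b S,
      smul_sub, smul_add, smul_smul]
    match_scalars
    · linear_combination (qE B e * z * w - 1) * hzw
    · linear_combination (-w) * hzw
    · ring
  have hb : ι b = (-(z * z * qE B e)) • a := by
    simp only [hι, LinearEquiv.mul_apply, f.rt_a S, g.rt_a S, g.rt_b S, g.rt_e S, map_add, map_sub, f.rt_smul S,
      g.rt_smul S, f.rt_e S, f.rt_b S, smul_sub, smul_add, smul_smul]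
    match_scalars <;> (try simp only [hz]) <;> field_simp <;> ring
  have he : ι e = -e := by
    simp only [hι, LinearEquiv.mul_apply, f.rt_a S, g.rt_a S, g.rt_b S, g.rt_e S, map_add, map_sub, f.rt_smul S,
      g.rt_smul S, f.rt_e S, f.rt_b S, smul_sub, smul_add, smul_smul]
    match_scalars <;> (try simp only [hz]) <;> field_simp <;> ring
  refine ⟨ι, hι ▸ X.mul_mem (X.mul_mem (f.rt_mem S hX z) (g.rt_mem S hX w)) (f.rt_mem S hX z), hlin, ?_, ha, he,
    LinearEquiv.ext fun x => ?_⟩
  · intro x y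
    simp only [hι, LinearEquiv.mul_apply, f.rt_B S, g.rt_B S]
  · rw [LinearEquiv.mul_apply, f.decomp S h3 x]
    simp only [map_add, hlin, ha, hb, he, map_neg, smul_smul, smul_neg, neg_neg, LinearEquiv.coe_one, id_eq]
    match_scalars <;> (try simp only [hz]) <;> field_simp <;> ring

/-- Scaling by squares. -/
theorem Frame.exists_scale (h3 : finrank E V = 3) {s : E} (hs : s ≠ 0) :
    ∃ k ∈ X, (∀ (c : E) x, k (c • x) = c • k x) ∧ (∀ x y, B (k x) (k y) = B x y) ∧ k a = (s * s) • a := by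
  have hκ := f.kappa_ne S
  obtain ⟨i₁, h₁X, h₁l, h₁B, h₁a, -, -⟩ := f.exists_inv S hX h3 (w := s) hs
  obtain ⟨i₂, h₂X, h₂l, h₂B, h₂a, -, h₂i⟩ := f.exists_inv S hX h3 (w := 1) one_ne_zero
  refine ⟨i₂ * i₁, X.mul_mem h₂X h₁X, fun c x => by simp only [LinearEquiv.mul_apply, h₁l, h₂l],
    fun x y => by simp only [LinearEquiv.mul_apply, h₂B, h₁B], ?_⟩
  have e' : i₂ (i₂ a) = a := by
    rw [← LinearEquiv.mul_apply, h₂i]; rfl
  rw [h₂a, h₂l] at e'
  rw [LinearEquiv.mul_apply, h₁a, h₂l, show (-(s * s * qE B e)) = (s * s) * (-((1 : E) * 1 * qE B e)) by ring,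
    mul_smul, e']

end Rt

section Squares

variable (S : Setup B Q r)

include S

theorem isSquare_algebraMap (hr : Odd r) {t : F} (h : IsSquare (algebraMap F E t)) : IsSquare t := by
  haveI := finiteDimensional (F := F) (E := E)
  obtain ⟨s, hs⟩ := h
  have e := congrArg (Algebra.norm F) hs
  rw [Algebra.norm_algebraMap, map_mul, S.deg] at e
  obtain ⟨m, rfl⟩ := hr
  by_cases ht : t = 0
  · exact ⟨0, by rw [ht, mul_zero]⟩
  refine ⟨Algebra.norm F s / t ^ m, ?_⟩
  rw [div_mul_div_comm, ← e]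
  field_simp
  ring

/-- Every nonzero element is a square times an element of the small field. -/
theorem exists_class (hr : Odd r) {ν : E} (hν : ν ≠ 0) :
    ∃ t : F, t ≠ 0 ∧ ∃ w : E, w ≠ 0 ∧ algebraMap F E t * ν = w * w := by
  classical
  haveI := finiteF S
  letI := Fintype.ofFinite E
  letI := Fintype.ofFinite F
  have hcF : ringChar F ≠ 2 := fun h => S.two (by
    haveI := ringChar.of_eq h
    exact CharP.cast_eq_zero F 2)
  have hcE : ringChar E ≠ 2 := fun h => two_E S (by
    haveI := ringChar.of_eq h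
    exact CharP.cast_eq_zero E 2)
  suffices h : ∃ t : F, t ≠ 0 ∧ IsSquare (algebraMap F E t * ν) by
    obtain ⟨t, ht, w, hw⟩ := h
    exact ⟨t, ht, w, fun e => mul_ne_zero ((map_ne_zero _).mpr ht) hν (by rw [hw, e, mul_zero]), hw⟩
  by_cases h : IsSquare ν
  · exact ⟨1, one_ne_zero, by rwa [map_one, one_mul]⟩
  obtain ⟨t, ht⟩ := FiniteField.exists_nonsquare hcF
  have ht0 : t ≠ 0 := fun e => ht (e ▸ ⟨0, (mul_zero 0).symm⟩)
  refine ⟨t, ht0, (quadraticChar_one_iff_isSquare (mul_ne_zero ((map_ne_zero _).mpr ht0) hν)).mp ?_⟩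
  rw [map_mul, quadraticChar_neg_one_iff_not_isSquare.mpr (fun h' => ht (isSquare_algebraMap S hr h')),
    quadraticChar_neg_one_iff_not_isSquare.mpr h]
  norm_num

theorem three_le_r (h3 : finrank E V = 3) : 3 ≤ r := by
  rcases S.big with hb | ⟨hk, -⟩ | ⟨-, hr⟩ <;> rw [h3] at * <;> omega

theorem three_le_card : 3 ≤ Nat.card F := by
  haveI := finiteF S
  letI := Fintype.ofFinite F
  rw [Nat.card_eq_fintype_card]
  have h1 : 1 < Fintype.card F := Fintype.one_lt_card
  by_contra hcon
  have h2 : Fintype.card F = 2 := by omega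
  refine S.two ?_
  have := FiniteField.cast_card_eq_zero F
  rw [h2] at this
  exact_mod_cast this

theorem card_E_large (h3 : finrank E V = 3) : 16 < Nat.card E := by
  haveI := finiteF S
  haveI := finiteDimensional (F := F) (E := E)
  rw [Module.natCard_eq_pow_finrank (K := F), S.deg]
  have h3r := three_le_r S h3
  have h1 := three_le_card S
  calc 16 < 3 ^ 3 := by norm_num
    _ ≤ Nat.card F ^ 3 := Nat.pow_le_pow_left h1 3
    _ ≤ Nat.card F ^ r := Nat.pow_le_pow_right (by omega) h3r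

/-- In dimension three there are enough moves. -/
theorem trans_of_three (hX : Over E Q X) (h3 : finrank E V = 3) (hr : Odd r) : Trans B X := by
  have scale : ∀ {a : V}, a ≠ 0 → B a a = 0 → ∀ s : E, s ≠ 0 → ∃ k ∈ X, (∀ (c : E) x, k (c • x) = c • k x) ∧
      (∀ x y, B (k x) (k y) = B x y) ∧ k a = (s * s) • a := fun {a} ha haa s hs => by
    obtain ⟨b, e, f⟩ := exists_frame S ha haa
    exact f.exists_scale S hX h3 hs
  have move : ∀ {a a' : V}, a ≠ 0 → B a a = 0 → a' ≠ 0 → B a' a' = 0 → ∃ k ∈ X, ∃ t : F, t ≠ 0 ∧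
      (∀ (c : E) x, k (c • x) = c • k x) ∧ (∀ x z, B (k x) (k z) = B x z) ∧ k a = t • a' := by
    intro a a' ha haa ha' haa'
    obtain ⟨h₀, hh₀, hlin₀, hB₀, κ, hκ, h₀a⟩ := exists_move S hX ha haa ha' haa'
    obtain ⟨t, ht, w, hw, htw⟩ := exists_class S hr hκ
    have hs : algebraMap F E t / w ≠ 0 := div_ne_zero ((map_ne_zero _).mpr ht) hw
    obtain ⟨k, hk, hkl, hkB, hka⟩ := scale ha' haa' _ hs
    refine ⟨k * h₀, X.mul_mem hk hh₀, t, ht, fun c x => by simp only [LinearEquiv.mul_apply, hlin₀, hkl],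
      fun x y => by simp only [LinearEquiv.mul_apply, hkB, hB₀], ?_⟩
    rw [LinearEquiv.mul_apply, h₀a, hkl, hka, smul_smul, ← IsScalarTower.algebraMap_smul E t a']
    congr 1
    field_simp
    first
      | linear_combination (algebraMap F E t) * htw
      | linear_combination (-(algebraMap F E t)) * htw
      | linear_combination htw
      | linear_combination -htw
  refine ⟨fun {a a'} ha haa ha' haa' {c} h => ?_, move⟩
  obtain ⟨k, hk, t, ht, hlin, hB, hka⟩ := move ha haa ha' haa'
  have h1 : ZX B X ((algebraMap F E t) • a') c := by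
    obtain ⟨g, hg, hg'⟩ := h
    refine ⟨k * g * k⁻¹, X.mul_mem (X.mul_mem hk hg) (X.inv_mem hk), fun x => ?_⟩
    obtain ⟨y, rfl⟩ := k.surjective x
    rw [LinearEquiv.mul_apply, LinearEquiv.mul_apply, LinearEquiv.coe_inv, LinearEquiv.symm_apply_apply, hg',
      map_add, hlin, IsScalarTower.algebraMap_smul, ← hka, hB]
  let L : AddSubgroup (E →ₗ[F] E) :=
    { carrier := {c | ZX B X a' c}
      zero_mem' := ⟨1, X.one_mem, fun x => by simp⟩
      add_mem' := fun {c d} ⟨g, hg, hg'⟩ ⟨k, hk, hk'⟩ => ⟨g * k, X.mul_mem hg hk, fun x => by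
        rw [LinearEquiv.mul_apply, hk', hg', map_add, map_smul, haa']
        simp [add_smul]
        abel⟩
      neg_mem' := fun {c} ⟨g, hg, hg'⟩ => ⟨g⁻¹, X.inv_mem hg, fun x => g.injective (by
        rw [LinearEquiv.coe_inv, LinearEquiv.apply_symm_apply, hg', map_add, map_smul, haa']
        simp)⟩ }
  have hL : ∀ κ : E, ∀ d ∈ L, conjM κ d ∈ L := conj_all S.two (card_E_large S h3) fun s d hd => by
    by_cases hs : s = 0
    · rw [hs, mul_zero, conjM_zero]
      exact L.zero_mem
    obtain ⟨k, hk, hkl, hkB, hka⟩ := scale ha' haa' s hs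
    refine zx_scale S hX (s * s) ?_
    obtain ⟨g, hg, hg'⟩ := (hd : ZX B X a' d)
    refine ⟨k * g * k⁻¹, X.mul_mem (X.mul_mem hk hg) (X.inv_mem hk), fun x => ?_⟩
    obtain ⟨y, rfl⟩ := k.surjective x
    rw [LinearEquiv.mul_apply, LinearEquiv.mul_apply, LinearEquiv.coe_inv, LinearEquiv.symm_apply_apply, hg',
      map_add, hkl, ← hka, hkB]
  have h2 : conjM (algebraMap F E t) c ∈ L := zx_scale S hX _ h1
  have h3' := hL (algebraMap F E t)⁻¹ _ h2
  rw [conjM_mul, inv_mul_cancel₀ ((map_ne_zero _).mpr ht), conjM_one] at h3'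
  exact h3'

end Squares

end Cfsg.Agent.Classical.FieldExt.Orth
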