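/-
Dimension three over a cubic extension: a conjugate of a Siegel element is not properly semilinear.
-/
import Cfsg.Agent.Lib.Classical.FieldExt.Orth.Semi
import Cfsg.Agent.Lib.Classical.FieldExt.Orth.Alt
import Cfsg.Agent.Lib.Classical.FieldExt.Orth.ThreeBasic

set_option autoImplicit false
set_option linter.style.haveILetI false
set_option linter.unusedSectionVars false

namespace Cfsg.Agent.Classical.FieldExt.Orth

open Module QuadraticMap
open Cfsg.Agent.Classical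

variable {F E V : Type*} [Field F] [Field E] [Algebra F E] [Finite E] [AddCommGroup V] [Module F V] [Module E V]
  [IsScalarTower F E V] [Finite V]
variable {B : V →ₗ[E] V →ₗ[E] E} {Q : QuadraticForm F V} {r : ℕ} {X : Subgroup (V ≃ₗ[F] V)}

variable (S : Setup B Q r) (hX : Over E Q X)

include S hX

/-- A conjugate of a Siegel element is not semilinear with a nontrivial automorphism when its fixed
vectors span, in dimension three over a cubic extension: they are a form over the small field, whose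
isometries would act on a singular line as semilinear maps. -/
theorem no_twist (hN : NoFix B X) (h3 : finrank E V = 3) (hr : r = 3) {g : V ≃ₗ[F] V} (hg : g ∈ X) {a y : V}
    (haa : B a a = 0) (hy : B a y = 0) (ha : a ≠ 0) (hq : qE B y ≠ 0) {σ : E ≃ₐ[F] E} (hne : σ ≠ 1)
    (hσ : ∀ (c : E) (v : V), (g * u S haa hy * g⁻¹) (c • v) = σ c • (g * u S haa hy * g⁻¹) v)
    (hspan : Submodule.span E {w | (g * u S haa hy * g⁻¹) w = w} = ⊤) : False := by
  classical
  obtain ⟨u', hu'⟩ : ∃ u', u' = g * u S haa hy * g⁻¹ := ⟨_, rfl⟩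
  rw [← hu'] at hσ hspan
  have hu'X : u' ∈ X := hu' ▸ X.mul_mem (X.mul_mem hg (u_mem S hX haa hy)) (X.inv_mem hg)
  have hu'i := mem_iso S hX hu'X
  obtain ⟨W, hW⟩ : ∃ W : Submodule F V, W = LinearMap.ker (u'.toLinearMap - LinearMap.id) := ⟨_, rfl⟩
  have hmem : ∀ {w}, w ∈ W ↔ u' w = w := fun {w} => by
    rw [hW, LinearMap.mem_ker, LinearMap.sub_apply, sub_eq_zero]; rfl
  have hspan' : ∀ x, B x = 0 → x = 0 := fun x hx => S.nd x fun z => by rw [hx]; rfl
  have hperp : ∀ x, (∀ w ∈ W, B x w = 0) → x = 0 := fun x hx => hspan' x (LinearMap.ext fun z => by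
    have hz : z ∈ Submodule.span E {w | u' w = w} := hspan.ge Submodule.mem_top
    rw [LinearMap.zero_apply]
    exact (Submodule.span_le.mpr (fun w hw => LinearMap.mem_ker.mpr (hx w (hmem.mpr hw))) :
      Submodule.span E {w | u' w = w} ≤ LinearMap.ker (B x)) hz)
  -- the form is rational on the fixed vectors
  have hBW : ∀ {w w' : V}, w ∈ W → w' ∈ W → ∃ k : F, algebraMap F E k = B w w' := fun {w w'} hw hw' => by
    refine fixed_gal S.deg S.prime hne ?_
    rw [← B_of_semi_at S hu'i (fun c => hσ c w) w', hmem.mp hw, hmem.mp hw']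
  have hWsmul : ∀ (k : F) {w : V}, w ∈ W → algebraMap F E k • w ∈ W := fun k w hw => by
    rw [IsScalarTower.algebraMap_smul]
    exact W.smul_mem k hw
  -- the fixed vectors form the image of the line
  have hWg : ∀ t : E, g (t • a) ∈ W := fun t => by
    rw [hmem, hu', LinearEquiv.mul_apply, LinearEquiv.mul_apply, LinearEquiv.coe_inv, LinearEquiv.symm_apply_apply,
      u_apply]
    simp [haa, S.symm y a, hy]
  obtain ⟨b, e, f⟩ := exists_frame S ha haa
  have hWline : ∀ {w : V}, w ∈ W → ∃ t : E, g (t • a) = w := fun {w} hw => by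
    obtain ⟨x, rfl⟩ := g.surjective w
    have hx : u S haa hy x = x := g.injective (by
      have := hmem.mp hw
      rwa [hu', LinearEquiv.mul_apply, LinearEquiv.mul_apply, LinearEquiv.coe_inv,
        LinearEquiv.symm_apply_apply] at this)
    rw [u_apply, sub_eq_iff_eq_add, add_right_inj] at hx
    have hqq : B y y = 2 * qE B y := by
      have h2 := two_E S
      rw [qE]; field_simp
    have hax : B a x = 0 := by
      have h1 := congrArg (B y) hx
      simp only [map_smul, smul_eq_mul, hqq, S.symm y a, hy, mul_zero] at h1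
      exact (mul_eq_zero.mp h1).resolve_right (mul_ne_zero (two_E S) hq)
    rw [hax, zero_smul, mul_zero, add_zero] at hx
    have hyx : B y x = 0 := (smul_eq_zero.mp hx.symm).resolve_right ha
    have hxd := f.decomp S h3 x
    have hyd := f.decomp S h3 y
    rw [hax, zero_smul, add_zero] at hxd
    rw [hy, zero_smul, add_zero] at hyd
    obtain ⟨hba, hea, heb, hee⟩ := f.values S
    have hey : B e y ≠ 0 := fun h0 => hq ((qE_zero_iff S).mpr (by
      rw [hyd, h0, zero_div, zero_smul, add_zero]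
      simp [haa]))
    have hex : B e x = 0 := by
      have h1 : B y x = (B e y / B e e) * B e x := by
        conv_lhs => rw [hyd]
        simp [hax]
      rw [h1] at hyx
      exact (mul_eq_zero.mp hyx).resolve_left (div_ne_zero hey f.ee)
    exact ⟨B b x, by rw [hxd, hex, zero_div, zero_smul, add_zero]; simp [hba, haa, hea]⟩
  -- a singular fixed vector
  haveI := finiteF S
  haveI := finiteDimensional (F := F) (E := E)
  haveI : FiniteDimensional F V := Module.Finite.of_finite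
  letI := Fintype.ofFinite F
  obtain ⟨ψ, hψ⟩ := LinearMap.exists_leftInverse_of_injective (Algebra.linearMap F E)
    (LinearMap.ker_eq_bot.mpr (algebraMap F E).injective)
  have hψk : ∀ k : F, ψ (algebraMap F E k) = k := fun k => LinearMap.congr_fun hψ k
  obtain ⟨qW, hqW⟩ : ∃ qW : QuadraticForm F V, ∀ w, qW w = ψ (B w w) :=
    ⟨LinearMap.BilinMap.toQuadraticMap (LinearMap.mk₂ F (fun w w' => ψ (B w w'))
      (fun x x' z => by simp only [map_add, LinearMap.add_apply])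
      (fun c x z => by
        rw [← IsScalarTower.algebraMap_smul E c x, map_smul, LinearMap.smul_apply, algebraMap_smul, map_smul])
      (fun x z z' => by simp only [map_add])
      (fun c x z => by rw [← IsScalarTower.algebraMap_smul E c z, map_smul, algebraMap_smul, map_smul])),
      fun w => rfl⟩
  obtain ⟨ι, hι⟩ : ∃ ι : E →ₗ[F] V, ∀ t, ι t = g (t • a) :=
    ⟨g.toLinearMap.comp ((LinearMap.toSpanSingleton E V a).restrictScalars F), fun t => rfl⟩
  have hW3 : 3 ≤ finrank F W := by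
    have hinj : Function.Injective (ι.codRestrict W fun t => (hι t).symm ▸ hWg t) := fun s t h => by
      have h' := congrArg Subtype.val h
      simp only [LinearMap.codRestrict_apply, hι] at h'
      exact smul_left_injective E ha (g.injective h')
    have := LinearMap.finrank_le_finrank_of_injective hinj
    rwa [S.deg, hr] at this
  obtain ⟨a₀, ha₀W, ha₀, ha₀q⟩ := Cfsg.Agent.Small.QuadBasis.exists_singular qW hW3
  have ha₀₀ : B a₀ a₀ = 0 := by
    obtain ⟨k, hk⟩ := hBW ha₀W ha₀W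
    rw [hqW, ← hk, hψk] at ha₀q
    rw [← hk, ha₀q, map_zero]
  -- its partner
  obtain ⟨d, hdW, hd⟩ : ∃ d ∈ W, B a₀ d ≠ 0 := by
    by_contra hcon
    push Not at hcon
    exact ha₀ (hperp a₀ hcon)
  obtain ⟨k, hk⟩ := hBW ha₀W hdW
  obtain ⟨d₁, hd₁W, hd₁⟩ : ∃ d₁ ∈ W, B a₀ d₁ = 1 :=
    ⟨algebraMap F E k⁻¹ • d, hWsmul _ hdW, by
      rw [map_smul, smul_eq_mul, ← hk, ← map_mul, inv_mul_cancel₀ (fun e => hd (by rw [← hk, e, map_zero])),
        map_one]⟩
  obtain ⟨k₁, hk₁⟩ := hBW hd₁W hd₁W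
  obtain ⟨b₀, hb₀W, hp⟩ : ∃ b₀ ∈ W, HP B a₀ b₀ :=
    ⟨d₁ + algebraMap F E (-k₁ / 2) • a₀, W.add_mem hd₁W (hWsmul _ ha₀W), ha₀₀, by
      have h2 := two_E S
      simp only [map_add, map_smul, LinearMap.add_apply, LinearMap.smul_apply, smul_eq_mul, ha₀₀, hd₁,
        S.symm d₁ a₀, ← hk₁, map_div₀, map_neg, map_ofNat]
      field_simp
      ring, by simp [ha₀₀, hd₁]⟩
  -- the third vector
  obtain ⟨e₁, hae₁, hbe₁, hee₁⟩ := hp.exists_aniso S
  have hba₀ : B b₀ a₀ = 1 := by rw [S.symm, hp.ab]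
  obtain ⟨w, hwW, hw⟩ : ∃ w ∈ W, B e₁ w ≠ 0 := by
    by_contra hcon
    push Not at hcon
    exact hee₁ (by rw [hperp e₁ hcon, map_zero])
  obtain ⟨kb, hkb⟩ := hBW hb₀W hwW
  obtain ⟨ka, hka⟩ := hBW ha₀W hwW
  obtain ⟨e₀, he₀⟩ : ∃ e₀, e₀ = w - algebraMap F E kb • a₀ - algebraMap F E ka • b₀ := ⟨_, rfl⟩
  have he₀W : e₀ ∈ W := he₀ ▸ W.sub_mem (W.sub_mem hwW (hWsmul _ ha₀W)) (hWsmul _ hb₀W)
  have hae₀ : B a₀ e₀ = 0 := by rw [he₀]; simp [hka, hp.aa, hp.ab]
  have hbe₀ : B b₀ e₀ = 0 := by rw [he₀]; simp [hkb, hp.bb, hba₀]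
  have hee₀ : B e₀ e₀ ≠ 0 := by
    have f₁ : Frame B a₀ b₀ e₁ := ⟨hp, hae₁, hbe₁, hee₁⟩
    have hd := f₁.decomp S h3 e₀
    rw [hbe₀, hae₀, zero_smul, zero_smul, zero_add, zero_add] at hd
    have h1 : B e₁ e₀ ≠ 0 := by
      rw [he₀]
      simp only [map_sub, map_smul, smul_eq_mul, S.symm e₁ a₀, hae₁, S.symm e₁ b₀, hbe₁, mul_zero, sub_zero]
      exact hw
    rw [hd, map_smul, map_smul, LinearMap.smul_apply, smul_eq_mul, smul_eq_mul]
    exact mul_ne_zero (div_ne_zero h1 hee₁) (mul_ne_zero (div_ne_zero h1 hee₁) hee₁)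
  have f₀ : Frame B a₀ b₀ e₀ := ⟨hp, hae₀, hbe₀, hee₀⟩
  have f₀' : Frame B b₀ a₀ e₀ := f₀.swap S
  obtain ⟨kκ, hkκ⟩ := hBW he₀W he₀W
  have hκ : qE B e₀ = algebraMap F E (kκ / 2) := by rw [qE, ← hkκ, map_div₀, map_ofNat]
  -- elements preserving the fixed vectors act on the line
  have hpres : ∀ {c z : V} (hc : B c c = 0) (hcz : B c z = 0), c ∈ W → z ∈ W →
      ∀ w ∈ W, u S hc hcz w ∈ W := fun {c z} hc hcz hcW hzW w hw => by
    obtain ⟨k₁, hk₁⟩ := hBW hcW hw
    obtain ⟨k₂, hk₂⟩ := hBW hzW hw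
    obtain ⟨k₃, hk₃⟩ := hBW hzW hzW
    have hq' : qE B z = algebraMap F E (k₃ / 2) := by rw [qE, ← hk₃, map_div₀, map_ofNat]
    rw [u_apply, ← hk₁, ← hk₂, hq', ← map_mul, ← map_add]
    exact W.sub_mem (W.add_mem hw (hWsmul _ hzW)) (hWsmul _ hcW)
  have hact : ∀ h ∈ X, (∀ w ∈ W, h w ∈ W) →
      ∃ (τ : E ≃ₐ[F] E) (lam : E), ∀ t : E, h (g (t • a)) = g ((τ t * lam) • a) := fun h hh hhW => by
    have hline : ∀ t : E, ∃ s : E, (g⁻¹ * h * g) (t • a) = s • a := fun t => by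
      obtain ⟨s, hs⟩ := hWline (hhW _ (hWg t))
      exact ⟨s, by rw [LinearEquiv.mul_apply, LinearEquiv.mul_apply, ← hs, LinearEquiv.coe_inv,
        LinearEquiv.symm_apply_apply]⟩
    obtain ⟨τ, hτ⟩ := exists_alg S (stab S hX hN ha haa (X.mul_mem (X.mul_mem (X.inv_mem hg) hh) hg) hline)
    obtain ⟨lam, hlam⟩ := hline 1
    rw [one_smul] at hlam
    refine ⟨τ, lam, fun t => ?_⟩
    have := congrArg g (hτ t a)
    rwa [hlam, smul_smul, LinearEquiv.mul_apply, LinearEquiv.mul_apply, LinearEquiv.coe_inv,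
      LinearEquiv.apply_symm_apply] at this
  -- such an element fixing a vector and moving another twists
  have htw : ∀ {h : V ≃ₗ[F] V} {τ : E ≃ₐ[F] E} {lam : E}, (∀ t : E, h (g (t • a)) = g ((τ t * lam) • a)) →
      ∀ {x : V}, x ∈ W → x ≠ 0 → h x = x → h e₀ ≠ e₀ → τ ≠ 1 := fun {h τ lam} hh {x} hxW hx hfix hmv hτ => by
    subst hτ
    simp only [AlgEquiv.one_apply] at hh
    obtain ⟨s, rfl⟩ := hWline hxW
    rw [hh] at hfix
    have h1 := smul_left_injective E ha (g.injective hfix)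
    have hl : lam = 1 := (mul_eq_left₀ fun e => hx (by rw [e, zero_smul, map_zero])).mp h1
    obtain ⟨t, ht⟩ := hWline he₀W
    exact hmv (by rw [← ht, hh, hl, mul_one])
  have hmv : ∀ {z : F}, z ≠ 0 → ∀ {c d : V} (fc : Frame B c d e₀), fc.rt S (algebraMap F E z) e₀ ≠ e₀ :=
    fun {z} hz c d fc h => by
      rw [fc.rt_e S, sub_eq_self, smul_eq_zero] at h
      exact h.elim (mul_ne_zero (mul_ne_zero (two_E S) ((map_ne_zero _).mpr hz)) (fc.kappa_ne S)) (fc.hp.ne S)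
  have hz1 : ∀ z : F, f₀.rt S (algebraMap F E z) ∈ X ∧ ∀ w ∈ W, f₀.rt S (algebraMap F E z) w ∈ W := fun z =>
    ⟨f₀.rt_mem S hX _, hpres _ _ ha₀W (hWsmul _ he₀W)⟩
  have hz2 : ∀ z : F, f₀'.rt S (algebraMap F E z) ∈ X ∧ ∀ w ∈ W, f₀'.rt S (algebraMap F E z) w ∈ W := fun z =>
    ⟨f₀'.rt_mem S hX _, hpres _ _ hb₀W (hWsmul _ he₀W)⟩
  obtain ⟨τ₁, l₁, h₁⟩ := hact _ (hz1 1).1 (hz1 1).2
  obtain ⟨τ₂, l₂, h₂⟩ := hact _ (hz2 1).1 (hz2 1).2
  obtain ⟨τ₃, l₃, h₃⟩ := hact _ (hz2 (-1)).1 (hz2 (-1)).2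
  have hτ₁ : τ₁ ≠ 1 := htw h₁ ha₀W ha₀ (f₀.rt_a S _) (hmv one_ne_zero f₀)
  have hτ₂ : τ₂ ≠ 1 := htw h₂ hb₀W (f₀.hp.ne' S) (f₀'.rt_a S _) (hmv one_ne_zero f₀')
  have hτ₃₂ : τ₃ * τ₂ = 1 := by
    have hcomp : ∀ t : E, τ₃ (τ₂ t * l₂) * l₃ = t := fun t => by
      have h : f₀'.rt S (algebraMap F E (-1)) (f₀'.rt S (algebraMap F E 1) (g (t • a))) = g (t • a) := by
        rw [← LinearEquiv.mul_apply, f₀'.rt_add S, ← map_add, neg_add_cancel, map_zero, f₀'.rt_zero S]; rfl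
      rw [h₂, h₃] at h
      exact smul_left_injective E ha (g.injective h)
    refine AlgEquiv.ext fun t => ?_
    have h1 := hcomp 1
    rw [map_one, one_mul] at h1
    have h2 := hcomp t
    rw [map_mul, mul_assoc, h1, mul_one] at h2
    exact h2
  haveI : Fact (Nat.Prime 3) := ⟨Nat.prime_three⟩
  have hcard : Nat.card (E ≃ₐ[F] E) = 3 := (gal_card S.deg).trans hr
  have hpow : τ₂ ^ (3 : ℕ) = 1 := by rw [← hcard]; exact pow_card_eq_one'
  obtain ⟨n, hn⟩ := Subgroup.mem_zpowers_iff.mp (mem_zpowers_of_prime_card hcard hτ₂ : τ₁ ∈ Subgroup.zpowers τ₂)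
  have hn' : τ₁ = τ₂ ^ (n % 3) := by
    rw [← hn]
    conv_lhs => rw [show n = n % 3 + 3 * (n / 3) by omega, zpow_add, zpow_mul]
    rw [show τ₂ ^ (3 : ℤ) = 1 by exact_mod_cast hpow, one_zpow, mul_one]
  obtain ⟨ε, hε, l, hl⟩ : ∃ ε : F, ε ≠ 0 ∧ ∃ l, (ε * ε = 1 ∧
      ∀ t : E, f₀'.rt S (algebraMap F E ε) (g (t • a)) = g ((τ₁ t * l) • a)) := by
    have hlo := Int.emod_nonneg n (show (3 : ℤ) ≠ 0 by norm_num)
    have hhi := Int.emod_lt_of_pos n (show (0 : ℤ) < 3 by norm_num)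
    obtain h | h | h : n % 3 = 0 ∨ n % 3 = 1 ∨ n % 3 = 2 := by omega
    · exact absurd (by rw [hn', h, zpow_zero]) hτ₁
    · exact ⟨1, one_ne_zero, l₂, one_mul 1, fun t => by rw [hn', h, zpow_one]; exact h₂ t⟩
    · refine ⟨-1, neg_ne_zero.mpr one_ne_zero, l₃, by ring, fun t => ?_⟩
      have e3 : τ₃ = τ₁ := by
        rw [hn', h, eq_inv_of_mul_eq_one_left hτ₃₂, inv_eq_iff_mul_eq_one]
        rw [zpow_two, ← mul_assoc, ← hpow, pow_succ, pow_two]
      rw [← e3]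
      exact h₃ t
  obtain ⟨hεε, hl⟩ := hl
  obtain ⟨ε', hε'⟩ : ∃ ε', ε' = algebraMap F E ε := ⟨_, rfl⟩
  have hεε' : ε' * ε' = 1 := by rw [hε', ← map_mul, hεε, map_one]
  -- a common fixed image
  obtain ⟨x, hx⟩ : ∃ x, x = a₀ + algebraMap F E (-ε / 2) • e₀ + algebraMap F E ε • b₀ := ⟨_, rfl⟩
  have hxW : x ∈ W := hx ▸ W.add_mem (W.add_mem ha₀W (hWsmul _ he₀W)) (hWsmul _ hb₀W)
  obtain ⟨hba, hea, heb, -⟩ := f₀.values S
  have hx0 : x ≠ 0 := fun h => by
    have := congrArg (B b₀) h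
    rw [hx] at this
    simp [hba, hbe₀, hp.bb] at this
  have hsame : f₀.rt S (algebraMap F E 1) x = f₀'.rt S (algebraMap F E ε) x := by
    rw [← hε', hx, map_one, map_div₀, map_neg, map_ofNat, ← hε']
    simp only [map_add, f₀.rt_smul S, f₀'.rt_smul S, f₀.rt_a S, f₀.rt_b S, f₀.rt_e S, f₀'.rt_a S, f₀'.rt_b S,
      f₀'.rt_e S, hεε', one_mul, mul_one, smul_sub, smul_add, smul_smul]
    have h2 := two_E S
    match_scalars <;> field_simp <;> first | ring1 | linear_combination (qE B e₀ : E) * hεε' | linear_combination (-qE B e₀ : E) * hεε'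
  obtain ⟨s, hs⟩ := hWline hxW
  rw [← hs, h₁, hl] at hsame
  have hs0 : τ₁ s ≠ 0 := fun h => hx0 (by rw [← hs, τ₁.injective (h.trans (map_zero τ₁).symm), zero_smul, map_zero])
  have hll : l₁ = l := mul_left_cancel₀ hs0 (smul_left_injective E ha (g.injective hsame))
  obtain ⟨s₀, hs₀⟩ := hWline ha₀W
  have hcon : f₀'.rt S (algebraMap F E ε) a₀ = a₀ := by
    refine Eq.trans ?_ (f₀.rt_a S (algebraMap F E 1))
    have hh : f₀'.rt S (algebraMap F E ε) (g (s₀ • a)) = f₀.rt S (algebraMap F E 1) (g (s₀ • a)) := by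
      rw [hl, h₁, hll]
    rwa [hs₀] at hh
  rw [f₀'.rt_b S, sub_eq_iff_eq_add, add_right_inj] at hcon
  have := congrArg (B e₀) hcon
  simp [heb, hee₀, hε] at this

end Cfsg.Agent.Classical.FieldExt.Orth
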