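/-
Orbits of an overgroup on vectors, and the semilinearity of an overgroup without pointwise fixed perps.
-/
import Cfsg.Agent.Lib.Classical.FieldExt.Orth.Semi
import Cfsg.Agent.Lib.Classical.FieldExt.Orth.OrbitThree

set_option autoImplicit false
set_option linter.style.haveILetI false
set_option linter.unusedSectionVars false

namespace Cfsg.Agent.Classical.FieldExt.Orth

open Module QuadraticMap
open Cfsg.Agent.Classical

variable {F E V : Type*} [Field F] [Field E] [Algebra F E] [Finite E] [AddCommGroup V] [Module F V] [Module E V]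
  [IsScalarTower F E V] [Finite V]

variable {B : V →ₗ[E] V →ₗ[E] E} {Q : QuadraticForm F V} {r : ℕ} {X : Subgroup (V ≃ₗ[F] V)}

variable (S : Setup B Q r) (hX : Over E Q X)

include S hX

/-- A Siegel element is moved to a semilinear element only by semilinear elements. -/
theorem moves (hN : NoFix B X) {g : V ≃ₗ[F] V} (hg : g ∈ X) {a y : V} (haa : B a a = 0) (hy : B a y = 0)
    (ha : a ≠ 0) (hq : qE B y ≠ 0) (h : SemiE E (g * u S haa hy * g⁻¹)) : SemiE E g := by
  classical
  obtain ⟨σ, hσ⟩ := exists_alg S h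
  obtain ⟨b, hp⟩ := exists_partner S ha haa
  have hgi := mem_iso S hX hg
  have hconj : ∀ x, (g * u S haa hy * g⁻¹) (g x) = g (u S haa hy x) := fun x => by
    rw [LinearEquiv.mul_apply, LinearEquiv.mul_apply, LinearEquiv.coe_inv, LinearEquiv.symm_apply_apply]
  have hσ1 : σ = 1 := by
    by_contra hne
    -- the fixed space is too large
    obtain ⟨f, hf⟩ : ∃ f : V →ₗ[F] E × E, ∀ x, f x = (B a x, B y x) :=
      ⟨((B a).restrictScalars F).prod ((B y).restrictScalars F), fun x => rfl⟩
    haveI : Module.Finite F V := Module.Finite.of_finite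
    haveI := finiteDimensional (F := F) (E := E)
    haveI : FiniteDimensional E V := Module.Finite.of_finite
    have hk := LinearMap.finrank_range_add_finrank_ker f
    have hr' : finrank F (LinearMap.range f) ≤ r + r :=
      (Submodule.finrank_le _).trans_eq (by rw [Module.finrank_prod, S.deg])
    obtain ⟨v, hv⟩ : ∃ v : Fin (finrank F (LinearMap.ker f)) → V,
        LinearIndependent F v ∧ ∀ i, f (v i) = 0 :=
      ⟨fun i => ((Module.finBasis F (LinearMap.ker f) i : LinearMap.ker f) : V),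
        (Module.finBasis F (LinearMap.ker f)).linearIndependent.map' _ (Submodule.ker_subtype _),
        fun i => (Module.finBasis F (LinearMap.ker f) i).2⟩
    have hgv : LinearIndependent F fun i => g (v i) := hv.1.map' g.toLinearMap g.ker
    have hfix : ∀ i, (g * u S haa hy * g⁻¹) (g (v i)) = g (v i) := fun i => by
      have h0 := hv.2 i
      rw [hf, Prod.mk_eq_zero] at h0
      rw [hconj, u_apply, h0.1, h0.2]
      simp
    have hE := (finrank_fixed S hne hσ _ hgv hfix).fintype_card_le_finrank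
    rw [Fintype.card_fin] at hE
    have hn := finrank_mul S
    have hsum : (finrank E V - 2) * r + (r + r) = r * finrank E V := by
      obtain ⟨k, hk'⟩ : ∃ k, finrank E V = k + 2 := ⟨finrank E V - 2, by have := S.dim; omega⟩
      rw [hk', Nat.add_sub_cancel]; ring
    rcases S.big with hbig | ⟨hk4, hr2, -⟩ | ⟨hk3, hr3⟩
    · omega
    rotate_left
    · -- equality in dimension three
      rw [hk3, hr3] at hn
      rw [hr3] at hr'
      have hcard : finrank F (LinearMap.ker f) = finrank E V := by omega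
      have hspan := (finrank_fixed S hne hσ _ hgv hfix).span_eq_top_of_card_eq_finrank'
        (by rw [Fintype.card_fin]; exact hcard)
      refine no_twist S hX hN hk3 hr3 hg haa hy ha hq hne hσ (eq_top_iff.mpr (hspan ▸ Submodule.span_mono ?_))
      rintro _ ⟨i, rfl⟩
      exact hfix i
    -- equality: the fixed space is a form over the small field, so the element is an involution
    rw [hk4, hr2] at hn
    rw [hr2] at hr'
    have hcard : finrank F (LinearMap.ker f) = finrank E V := by omega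
    have hspan := (finrank_fixed S hne hσ _ hgv hfix).span_eq_top_of_card_eq_finrank' (by rw [Fintype.card_fin]; exact hcard)
    have hσσ : ∀ x, σ (σ x) = x := fun x => by
      haveI : Fact r.Prime := ⟨S.prime⟩
      haveI : Finite (E ≃ₐ[F] E) := Finite.of_injective (fun g : E ≃ₐ[F] E => (g : E → E)) DFunLike.coe_injective
      have e : σ ^ r = 1 := by rw [← gal_card S.deg]; exact pow_card_eq_one'
      rw [hr2, pow_two] at e
      rw [← AlgEquiv.mul_apply, e, AlgEquiv.one_apply]
    have hinv : ∀ x, (g * u S haa hy * g⁻¹) ((g * u S haa hy * g⁻¹) x) = x := fun x => by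
      have hx : x ∈ Submodule.span E (Set.range fun i => g (v i)) := by rw [hspan]; exact Submodule.mem_top
      induction hx using Submodule.span_induction with
      | mem x hx => obtain ⟨i, rfl⟩ := hx; rw [hfix, hfix]
      | zero => rw [map_zero, map_zero]
      | add p q _ _ hp hq => rw [map_add, map_add, hp, hq]
      | smul c p _ hp => rw [hσ, hσ, hσσ, hp]
    have h1 := hinv (g b)
    rw [hconj, hconj, EmbeddingLike.apply_eq_iff_eq] at h1
    have hqq : B y y = 2 * qE B y := by
      have h2 := two_E S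
      rw [qE]; field_simp
    have h2 := congrArg (B y) h1
    simp only [u_apply, map_add, map_sub, map_smul, LinearMap.add_apply, hp.aa, hy, hp.ab, S.symm y a, hqq,
      smul_eq_mul] at h2
    exact mul_ne_zero (mul_ne_zero (two_E S) (two_E S)) hq (by linear_combination h2)
  -- the image of the square
  obtain ⟨u', hu'⟩ : ∃ u', u' = g * u S haa hy * g⁻¹ := ⟨_, rfl⟩
  rw [← hu'] at hσ hconj
  have hlin : ∀ (c : E) (v : V), u' (c • v) = c • u' v := fun c v => by rw [hσ, hσ1, AlgEquiv.one_apply]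
  have hsq : ∀ x, u' (u' (g x)) - u' (g x) - (u' (g x) - g x) = g ((-2 * qE B y * B a x) • a) := fun x => by
    rw [hconj, hconj, ← map_sub g, ← map_sub g, ← map_sub g]
    congr 1
    have hqq : B y y = 2 * qE B y := by
      have h2 := two_E S
      rw [qE]; field_simp
    simp only [u_apply, map_add, map_sub, map_smul, haa, hy, S.symm y a, hqq, smul_eq_mul]
    module
  obtain ⟨x₀, hx₀⟩ : ∃ x₀, x₀ = g (((-2 * qE B y)⁻¹) • b) := ⟨_, rfl⟩
  have hq2 : -2 * qE B y ≠ 0 := mul_ne_zero (neg_ne_zero.mpr (two_E S)) hq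
  have hga : u' (u' x₀) - u' x₀ - (u' x₀ - x₀) = g a := by
    rw [hx₀, hsq, map_smul (B a), hp.ab, smul_eq_mul, mul_one, mul_inv_cancel₀ hq2, one_smul]
  have hback : ∀ c : E, ∃ s : E, g (s • a) = c • g a := fun c => by
    obtain ⟨x, hx⟩ := g.surjective (c • x₀)
    refine ⟨-2 * qE B y * B a x, ?_⟩
    rw [← hsq, hx, hlin, hlin, ← hga, smul_sub, smul_sub, smul_sub]
  have hgane : g a ≠ 0 := fun e => ha (g.map_eq_zero_iff.mp e)
  have hfwd : ∀ t : E, ∃ c : E, g (t • a) = c • g a := by
    choose s hs using hback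
    intro t
    obtain ⟨c, rfl⟩ := Finite.surjective_of_injective (f := s) (fun c₁ c₂ e =>
      smul_left_injective E hgane (by simp only; rw [← hs, ← hs, e])) t
    exact ⟨c, hs c⟩
  have hsing : B (g a) (g a) = 0 := B_zero_of_polar S fun d => by
    obtain ⟨s, hs⟩ := hback d
    rw [← hs, ← one_smul E a]
    nth_rewrite 1 [smul_smul]
    rw [ORefl.polar_iso hgi, polar_line S haa]
  obtain ⟨k, hk, hklin, -, κ, -, hκ⟩ := exists_move S hX hgane hsing ha haa
  have h1 : SemiE E (k * g) := stab S hX hN ha haa (X.mul_mem hk hg) fun t => by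
    obtain ⟨c, hc⟩ := hfwd t
    exact ⟨c * κ, by rw [LinearEquiv.mul_apply, hc, hklin, hκ, smul_smul]⟩
  have h2 : k⁻¹ * (k * g) ∈ semiG F E V :=
    Subgroup.mul_mem _ (Subgroup.inv_mem _ ((mem_semiG (E := E)).mpr ⟨id, hklin⟩)) (mem_semiG.mpr h1)
  rwa [inv_mul_cancel_left] at h2

omit hX in
/-- Every vector is fixed by an anisotropic Siegel element. -/
theorem exists_root_fix (h4 : 4 ≤ finrank E V) (v : V) :
    ∃ (a y : V) (haa : B a a = 0) (hy : B a y = 0), a ≠ 0 ∧ qE B y ≠ 0 ∧ u S haa hy v = v := by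
  have fin : ∀ {a y : V} (haa : B a a = 0) (hy : B a y = 0), B a v = 0 → B y v = 0 → u S haa hy v = v :=
    fun haa hy h1 h2 => by rw [u_apply, h1, h2]; simp
  by_cases hv : B v v = 0
  · by_cases hv0 : v = 0
    · obtain ⟨a, ha, haa⟩ := exists_singular_ne S
      obtain ⟨b, hp⟩ := exists_partner S ha haa
      obtain ⟨y, hy, -, hyy⟩ := hp.exists_aniso S
      exact ⟨a, y, haa, hy, ha, mt (qE_zero_iff S).mp hyy, by rw [hv0, map_zero]⟩
    · obtain ⟨b, hp⟩ := exists_partner S hv0 hv
      obtain ⟨y, hy, -, hyy⟩ := hp.exists_aniso S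
      exact ⟨v, y, hv, hy, hv0, mt (qE_zero_iff S).mp hyy, fin hv hy hv (by rw [S.symm, hy])⟩
  · haveI : FiniteDimensional E V := Module.Finite.of_finite
    obtain ⟨a, hav, ha, haa⟩ := exists_singular_in S (W := LinearMap.ker (B v)) (by
      have h1 := LinearMap.finrank_range_add_finrank_ker (B v)
      have h2 := (LinearMap.range (B v)).finrank_le
      rw [Module.finrank_self] at h2
      omega)
    have hva : B v a = 0 := LinearMap.mem_ker.mp hav
    have hav' : B a v = 0 := by rw [S.symm, hva]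
    obtain ⟨d, hd⟩ := exists_B_one S ha
    obtain ⟨d', hd'⟩ : ∃ d', d' = d - (B v d / B v v) • v := ⟨_, rfl⟩
    have hd'a : B a d' = 1 := by rw [hd', map_sub, map_smul, hav', hd, smul_zero, sub_zero]
    have hd'v : B v d' = 0 := by
      rw [hd', map_sub, map_smul, smul_eq_mul, div_mul_cancel₀ _ hv, sub_self]
    obtain ⟨b, hb⟩ : ∃ b, b = d' + (-(qE B d')) • a := ⟨_, rfl⟩
    have hp : HP B a b := by
      refine ⟨haa, ?_, ?_⟩
      · rw [hb, ← qE_zero_iff S, qE_add S, qE_smul S, map_smul, smul_eq_mul, S.symm d' a, hd'a,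
          show qE B a = 0 from (qE_zero_iff S).mpr haa]
        ring
      · rw [hb, map_add, map_smul, haa, smul_zero, add_zero, hd'a]
    have hbv : B b v = 0 := by
      rw [hb, map_add, map_smul, LinearMap.add_apply, LinearMap.smul_apply, S.symm d' v, hd'v, hav', smul_zero,
        add_zero]
    obtain ⟨y, hay, -, hvy, hyy⟩ := hp.exists_aniso_perp S h4 hav' hbv hv
    exact ⟨a, y, haa, hay, ha, mt (qE_zero_iff S).mp hyy, fin haa hay hav' (by rw [S.symm, hvy])⟩

/-- Without pointwise fixed perps the group is semilinear. -/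
theorem semi_all (h4 : 4 ≤ finrank E V) (hN : NoFix B X) : ∀ g ∈ X, SemiE E g := by
  classical
  haveI : Finite (V ≃ₗ[F] V) := Finite.of_injective (fun g : V ≃ₗ[F] V => (g : V → V)) DFunLike.coe_injective
  haveI := finiteF S
  obtain ⟨p, hchar⟩ := CharP.exists F
  haveI hpp : Fact p.Prime := ⟨CharP.char_is_prime F p⟩
  let R : Set (V ≃ₗ[F] V) := {z | ∃ (a y : V) (haa : B a a = 0) (hy : B a y = 0),
    a ≠ 0 ∧ qE B y ≠ 0 ∧ z = u S haa hy}
  have H : TensorMax.Roots p (X ⊓ semiG F E V) X R := by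
    refine ⟨inf_le_left, ?_, ?_, ?_⟩
    · rintro z ⟨a, y, haa, hy, -, -, rfl⟩
      exact ⟨u_mem S hX haa hy, u_semi S haa hy⟩
    · rintro z ⟨a, y, haa, hy, -, -, rfl⟩
      intro w
      obtain ⟨n, hn⟩ := Subgroup.mem_zpowers_iff.mp w.2
      refine ⟨1, Subtype.ext ?_⟩
      change (w : V ≃ₗ[F] V) ^ p ^ 1 = 1
      rw [pow_one, ← hn, ← zpow_natCast, ← zpow_mul, mul_comm, zpow_mul, zpow_natCast, u_order S p haa hy, one_zpow]
    · rintro g hg z ⟨a, y, haa, hy, ha, hq, rfl⟩ hgz
      exact ⟨hg, moves S hX hN hg haa hy ha hq hgz.2⟩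
  -- singularity is preserved
  have hsing : ∀ g ∈ X, ∀ v, B v v = 0 → B (g v) (g v) = 0 := by
    intro g hg v hv
    obtain ⟨a, y, haa, hy, ha, hq, hfix⟩ := exists_root_fix S h4 v
    obtain ⟨a', y', haa', hy', ha', hq', hfix'⟩ := exists_root_fix S h4 (g v)
    obtain ⟨k, -, hk, n, ⟨hnX, hns⟩, hgn⟩ := H.factor (St := MulAction.stabilizer (V ≃ₗ[F] V) v)
      (St' := MulAction.stabilizer (V ≃ₗ[F] V) (g v)) hg (fun s hs => by
        rw [MulAction.mem_stabilizer_iff, LinearEquiv.smul_def] at hs ⊢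
        rw [LinearEquiv.mul_apply, LinearEquiv.mul_apply, LinearEquiv.coe_inv, LinearEquiv.symm_apply_apply, hs])
      (z := u S haa hy) ⟨a, y, haa, hy, ha, hq, rfl⟩
      (by rw [MulAction.mem_stabilizer_iff, LinearEquiv.smul_def, hfix])
      (z' := u S haa' hy') ⟨a', y', haa', hy', ha', hq', rfl⟩
      (by rw [MulAction.mem_stabilizer_iff, LinearEquiv.smul_def, hfix'])
    rw [MulAction.mem_stabilizer_iff, LinearEquiv.smul_def] at hk
    have e : n v = g v := by
      apply k.injective
      rw [hk, hgn, LinearEquiv.mul_apply]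
    obtain ⟨σ, hσ⟩ := exists_alg S hns
    rw [← e, B_of_semi_at S (mem_iso S hX hnX) (fun c => hσ c v), hv, map_zero]
  have horth : ∀ g ∈ X, ∀ x z, B x x = 0 → B z z = 0 → B x z = 0 → B (g x) (g z) = 0 := fun g hg x z hx hz hxz => by
    have h := hsing g hg (x + z) (by simp [hx, hz, hxz, S.symm z x])
    simp only [map_add, LinearMap.add_apply, hsing g hg x hx, hsing g hg z hz, S.symm (g z) (g x), zero_add,
      add_zero] at h
    exact (mul_eq_zero.mp ((two_mul _).trans h)).resolve_left (two_E S)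
  intro g hg
  obtain ⟨a, ha, haa⟩ := exists_singular_ne S
  have hgane : g a ≠ 0 := fun e => ha (g.map_eq_zero_iff.mp e)
  have hline : ∀ t : E, ∃ s : E, g (t • a) = s • g a := by
    intro t
    by_cases ht : t = 0
    · exact ⟨0, by rw [ht, zero_smul, zero_smul, map_zero]⟩
    obtain ⟨w, hw⟩ : ∃ w, w = g a := ⟨_, rfl⟩
    obtain ⟨z, hz⟩ : ∃ z, z = g (t • a) := ⟨_, rfl⟩
    have hta : B (t • a) (t • a) = 0 := by rw [map_smul, map_smul, LinearMap.smul_apply, haa, smul_zero, smul_zero]
    have hww : B w w = 0 := hw ▸ hsing g hg a haa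
    have hzz : B z z = 0 := hz ▸ hsing g hg _ hta
    have hwz : B w z = 0 := hw ▸ hz ▸ horth g hg a _ haa hta (by rw [map_smul, haa, smul_zero])
    obtain ⟨b, hp⟩ := exists_partner S (hw ▸ hgane : w ≠ 0) hww
    refine ⟨B b z, ?_⟩
    rw [← hz, ← hw]
    by_contra hne
    obtain ⟨z₀, hz₀⟩ : ∃ z₀, z₀ = z - B b z • w := ⟨_, rfl⟩
    have hz₀0 : z₀ ≠ 0 := fun e => hne (sub_eq_zero.mp (hz₀ ▸ e))
    have hbw : B b w = 1 := by rw [S.symm, hp.ab]
    have hz₀b : B z₀ b = 0 := by rw [S.symm, hz₀, map_sub, map_smul, hbw, smul_eq_mul, mul_one, sub_self]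
    have hz₀w : B z₀ w = 0 := by rw [S.symm, hz₀, map_sub, map_smul, hww, smul_zero, sub_zero, hwz]
    have hz₀z : B z₀ z₀ = 0 := by
      rw [hz₀]
      simp [hzz, hww, hwz, S.symm z w]
    obtain ⟨x₀, hx₀⟩ := exists_B_one S hz₀0
    obtain ⟨x, hx⟩ : ∃ x, x = x₀ - B w x₀ • b := ⟨_, rfl⟩
    have hzx : B z₀ x = 1 := by rw [hx, map_sub, map_smul, hz₀b, smul_zero, sub_zero, hx₀]
    have hwx : B w x = 0 := by rw [hx, map_sub, map_smul, hp.ab, smul_eq_mul, mul_one, sub_self]
    obtain ⟨e, he⟩ : ∃ e, e = x + (-qE B x) • z₀ := ⟨_, rfl⟩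
    have hee : B e e = 0 := by
      rw [he, ← qE_zero_iff S, qE_add S, qE_smul S, show qE B z₀ = 0 from (qE_zero_iff S).mpr hz₀z, map_smul,
        S.symm x z₀, hzx, smul_eq_mul]
      ring
    have hwe : B w e = 0 := by rw [he, map_add, map_smul, hwx, S.symm w z₀, hz₀w, smul_zero, add_zero]
    have hze : B z e = 1 := by
      have hzz₀ : z = z₀ + B b z • w := by rw [hz₀, sub_add_cancel]
      rw [hzz₀, map_add, map_smul, LinearMap.add_apply, LinearMap.smul_apply, hwe, he, map_add, map_smul, hzx, hz₀z,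
        smul_zero, smul_zero, add_zero, add_zero]
    obtain ⟨e', rfl⟩ := g.surjective e
    have hee' : B e' e' = 0 := by
      have := hsing g⁻¹ (X.inv_mem hg) _ hee
      rwa [LinearEquiv.coe_inv, LinearEquiv.symm_apply_apply] at this
    have hae' : B a e' = 0 := by
      have := horth g⁻¹ (X.inv_mem hg) _ _ hww hee hwe
      rwa [hw, LinearEquiv.coe_inv, LinearEquiv.symm_apply_apply, LinearEquiv.symm_apply_apply] at this
    have := horth g hg _ e' hta hee' (by rw [map_smul, LinearMap.smul_apply, hae', smul_zero])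
    rw [← hz, hze] at this
    exact one_ne_zero this
  obtain ⟨k, hk, hklin, -, κ, -, hκ⟩ := exists_move S hX hgane (hsing g hg a haa) ha haa
  have h1 : SemiE E (k * g) := stab S hX hN ha haa (X.mul_mem hk hg) fun t => by
    obtain ⟨c, hc⟩ := hline t
    exact ⟨c * κ, by rw [LinearEquiv.mul_apply, hc, hklin, hκ, smul_smul]⟩
  have h2 : k⁻¹ * (k * g) ∈ semiG F E V :=
    Subgroup.mul_mem _ (Subgroup.inv_mem _ ((mem_semiG (E := E)).mpr ⟨id, hklin⟩)) (mem_semiG.mpr h1)
  rwa [inv_mul_cancel_left] at h2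

end Cfsg.Agent.Classical.FieldExt.Orth
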