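/-
Dimension three over the big field: two images of singular lines meet in at most one dimension.
-/
import Cfsg.Agent.Lib.Classical.FieldExt.Orth.ThreeBasic
import Cfsg.Agent.Lib.Classical.FieldExt.Orth.Orbit
import Cfsg.Agent.Lib.Classical.FieldExt.Orth.Full
import Cfsg.Agent.Lib.Solv.Generation

set_option autoImplicit false
set_option linter.style.haveILetI false
set_option linter.unusedSectionVars false

namespace Cfsg.Agent.Classical.FieldExt.Orth

open Module QuadraticMap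
open Cfsg.Agent.Classical

variable {F E V : Type*} [Field F] [Field E] [Algebra F E] [Finite E] [AddCommGroup V] [Module F V] [Module E V]
  [IsScalarTower F E V] [Finite V]
variable {B : V →ₗ[E] V →ₗ[E] E} {Q : QuadraticForm F V} {r : ℕ} {X : Subgroup (V ≃ₗ[F] V)}

/-- A line over the big field, seen over the small one. -/
def line (F E : Type*) {V : Type*} [Field F] [Field E] [Algebra F E] [AddCommGroup V] [Module F V] [Module E V]
    [IsScalarTower F E V] (a : V) : Submodule F V := (Submodule.span E {a}).restrictScalars F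

theorem mem_line {a v : V} : v ∈ line F E a ↔ ∃ t : E, t • a = v := by
  rw [line, Submodule.restrictScalars_mem, Submodule.mem_span_singleton]

theorem line_smul {a : V} {t : E} (ht : t ≠ 0) : line F E (t • a) = line F E a := by
  rw [line, line, Submodule.span_singleton_smul_eq (Ne.isUnit ht)]

/-- The images of singular lines. -/
def IsLn (E : Type*) {F V : Type*} [Field F] [Field E] [Algebra F E] [AddCommGroup V] [Module F V] [Module E V]
    [IsScalarTower F E V] (B : V →ₗ[E] V →ₗ[E] E) (X : Subgroup (V ≃ₗ[F] V)) (L : Submodule F V) : Prop :=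
  ∃ g ∈ X, ∃ a : V, a ≠ 0 ∧ B a a = 0 ∧ L = (line F E a).map g.toLinearMap

/-- The singular lines. -/
def IsTrueLine (B : V →ₗ[E] V →ₗ[E] E) (L : Submodule F V) : Prop :=
  ∃ a : V, a ≠ 0 ∧ B a a = 0 ∧ L = line F E a

theorem IsTrueLine.isLn {L : Submodule F V} (h : IsTrueLine B L) : IsLn E B X L := by
  obtain ⟨a, ha, haa, rfl⟩ := h
  exact ⟨1, X.one_mem, a, ha, haa, (Submodule.map_id _).symm⟩

theorem IsLn.map {L : Submodule F V} (h : IsLn E B X L) {k : V ≃ₗ[F] V} (hk : k ∈ X) :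
    IsLn E B X (L.map k.toLinearMap) := by
  obtain ⟨g, hg, a, ha, haa, rfl⟩ := h
  exact ⟨k * g, X.mul_mem hk hg, a, ha, haa, (Submodule.map_comp _ _ _).symm⟩

section Lines

variable (S : Setup B Q r)

include S

theorem finrank_line {a : V} (ha : a ≠ 0) : finrank F (line F E a) = r := by
  haveI := finiteDimensional (F := F) (E := E)
  have h := Module.finrank_mul_finrank F E (Submodule.span E {a})
  rw [finrank_span_singleton ha, mul_one, S.deg] at h
  rw [h]
  rfl

theorem dep_of_perp (h3 : finrank E V = 3) {a c : V} (ha : a ≠ 0) (haa : B a a = 0) (hcc : B c c = 0)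
    (hac : B a c = 0) : ∃ s : E, c = s • a := by
  obtain ⟨b, e, f⟩ := exists_frame S ha haa
  have hd := f.decomp S h3 c
  refine ⟨B b c, ?_⟩
  rw [hac, zero_smul, add_zero] at hd
  have h := hcc
  rw [hd] at h
  simp [haa, f.ae, S.symm e a, f.ee] at h
  rw [h, zero_div, zero_smul, add_zero] at hd
  exact hd

/-- Semilinear elements of the group permute the singular lines. -/
theorem map_line_semi {g : V ≃ₗ[F] V} (hg : g ∈ ORefl.Iso Q) (hs : SemiE E g) {a : V} (haa : B a a = 0) :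
    (line F E a).map g.toLinearMap = line F E (g a) ∧ B (g a) (g a) = 0 := by
  obtain ⟨σ, hσ⟩ := exists_alg S hs
  refine ⟨?_, by rw [B_of_semi_at S hg (fun c => hσ c a), haa, map_zero]⟩
  ext v
  rw [Submodule.mem_map, mem_line]
  constructor
  · rintro ⟨w, hw, rfl⟩
    obtain ⟨t, rfl⟩ := mem_line.mp hw
    exact ⟨σ t, (hσ t a).symm⟩
  · rintro ⟨t, rfl⟩
    obtain ⟨c, rfl⟩ := σ.surjective t
    exact ⟨c • a, mem_line.mpr ⟨c, rfl⟩, hσ c a⟩

variable (hX : Over E Q X) (hN : NoFix B X) (h3 : finrank E V = 3)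

include hX hN h3

/-- An element carrying a singular line to a singular line is semilinear. -/
theorem semi_of_lines {g : V ≃ₗ[F] V} (hg : g ∈ X) {a c : V} (ha : a ≠ 0) (haa : B a a = 0) (hc : c ≠ 0)
    (hcc : B c c = 0) (h : (line F E a).map g.toLinearMap = line F E c) : SemiE E g := by
  obtain ⟨k, hk, hklin, -, κ, -, hκ⟩ := exists_move S hX hc hcc ha haa
  have h1 : SemiE E (k * g) := stab S hX hN ha haa (X.mul_mem hk hg) fun t => by
    have hm : g (t • a) ∈ line F E c := h ▸ Submodule.mem_map_of_mem (mem_line.mpr ⟨t, rfl⟩)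
    obtain ⟨s, hs⟩ := mem_line.mp hm
    exact ⟨s * κ, by rw [LinearEquiv.mul_apply, ← hs, hklin, hκ, smul_smul]⟩
  have h2 : k⁻¹ * (k * g) ∈ semiG F E V :=
    Subgroup.mul_mem _ (Subgroup.inv_mem _ ((mem_semiG (E := E)).mpr ⟨id, hklin⟩)) (mem_semiG.mpr h1)
  rwa [inv_mul_cancel_left] at h2

/-- An image line stabilised by a Siegel element is the line of that element. -/
theorem ln_fixed {a b e : V} (f : Frame B a b e) {z : E} (hz : z ≠ 0) {L : Submodule F V} (hL : IsLn E B X L)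
    (h : L.map (f.rt S z).toLinearMap = L) : L = line F E a := by
  obtain ⟨g, hg, c, hc, hcc, rfl⟩ := hL
  obtain ⟨w, hw⟩ : ∃ w, w = g⁻¹ * f.rt S z * g := ⟨_, rfl⟩
  have hwX : w ∈ X := hw ▸ X.mul_mem (X.mul_mem (X.inv_mem hg) (f.rt_mem S hX z)) hg
  have hwc : (line F E c).map w.toLinearMap = line F E c := by
    have e1 : w.toLinearMap = (g⁻¹ : V ≃ₗ[F] V).toLinearMap.comp ((f.rt S z).toLinearMap.comp g.toLinearMap) := by
      rw [hw]; rfl
    rw [e1, Submodule.map_comp, Submodule.map_comp, h, ← Submodule.map_comp]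
    have e2 : (g⁻¹ : V ≃ₗ[F] V).toLinearMap.comp g.toLinearMap = LinearMap.id :=
      LinearMap.ext fun x => g.symm_apply_apply x
    rw [e2, Submodule.map_id]
  have hws : SemiE E w := semi_of_lines S hX hN h3 hwX hc hcc hc hcc hwc
  have hgs : SemiE E g⁻¹ := moves S hX hN (X.inv_mem hg) f.hp.aa (f.perp_smul S z) (f.hp.ne S)
    (by rw [qE_smul S]; exact mul_ne_zero (mul_ne_zero hz hz) (f.kappa_ne S))
    (by rw [inv_inv]; exact hw ▸ hws)
  have hgs' : SemiE E g := by
    have := (semiG F E V).inv_mem (mem_semiG.mpr hgs)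
    rwa [inv_inv] at this
  obtain ⟨hline, hsing⟩ := map_line_semi S (mem_iso S hX hg) hgs' hcc
  rw [hline] at h ⊢
  obtain ⟨κ, hκ⟩ : ∃ κ : E, κ • g c = f.rt S z (g c) :=
    mem_line.mp (h.le (Submodule.mem_map_of_mem (mem_line.mpr ⟨1, one_smul E _⟩)))
  obtain ⟨v, hv⟩ : ∃ v, v = g c := ⟨_, rfl⟩
  rw [← hv] at hκ hsing ⊢
  have hv0 : v ≠ 0 := hv ▸ fun e => hc (g.map_eq_zero_iff.mp e)
  have ha' : B a (f.rt S z v) = B a v := by
    have := f.rt_B S z a v
    rwa [f.rt_a S] at this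
  rw [← hκ, map_smul, smul_eq_mul] at ha'
  by_cases hav : B a v = 0
  · obtain ⟨s, hs⟩ := dep_of_perp S h3 (f.hp.ne S) f.hp.aa hsing hav
    rw [hs, line_smul (fun e => hv0 (by rw [hs, e, zero_smul]))]
  · rw [mul_left_eq_self₀, or_iff_left hav] at ha'
    rw [ha', one_smul] at hκ
    obtain ⟨s, hs⟩ := (f.fix S h3 hz).mp hκ.symm
    exact absurd (by rw [hs, map_smul, f.hp.aa, smul_zero]) hav

/-- The subgroup of Siegel elements at a vector. -/
def Frame.rtHom (S : Setup B Q r) {a b e : V} (f : Frame B a b e) : Multiplicative E →* (V ≃ₗ[F] V) where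
  toFun z := f.rt S z.toAdd
  map_one' := f.rt_zero S
  map_mul' z z' := (f.rt_add S z.toAdd z'.toAdd).symm

omit S hX hN h3 in
theorem det_Om {g : V ≃ₗ[F] V} (hg : g ∈ Om Q) : LinearMap.det (g : V →ₗ[F] V) = 1 := by
  obtain ⟨y, hy, rfl⟩ := hg
  have : LinearEquiv.det.comp (ORefl.Iso Q).subtype y = 1 :=
    Abelianization.commutator_subset_ker _ hy
  have := congrArg Units.val this
  rw [MonoidHom.comp_apply, LinearEquiv.coe_det] at this
  exact this

omit hN in
/-- A semilinear element fixing two dimensions of a line pointwise is a Siegel element. -/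
theorem semi_fix_two (hr : Odd r) {a b e : V} (f : Frame B a b e) {D : Submodule F V} (hD : D ≤ line F E a)
    (h2 : 2 ≤ finrank F D) {h : V ≃ₗ[F] V} (hh : h ∈ X) (hs : SemiE E h) (hfix : ∀ x ∈ D, h x = x) :
    ∃ z, h = f.rt S z := by
  haveI : FiniteDimensional F V := Module.Finite.of_finite
  obtain ⟨σ, hσ⟩ := exists_alg S hs
  have hD0 : D ≠ ⊥ := fun e => by rw [e, finrank_bot] at h2; omega
  obtain ⟨x₁, hx₁, hx₁0⟩ := Submodule.exists_mem_ne_zero_of_ne_bot hD0
  obtain ⟨t₁, rfl⟩ := mem_line.mp (hD hx₁)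
  obtain ⟨x₂, hx₂, hx₂n⟩ : ∃ x ∈ D, x ∉ Submodule.span F {t₁ • a} := by
    by_contra hcon
    push Not at hcon
    have := Submodule.finrank_mono (show D ≤ Submodule.span F {t₁ • a} from hcon)
    rw [finrank_span_singleton hx₁0] at this
    omega
  obtain ⟨t₂, rfl⟩ := mem_line.mp (hD hx₂)
  have ht₁ : t₁ ≠ 0 := fun e => hx₁0 (by rw [e, zero_smul])
  have e1 := hfix _ hx₁
  have e2 := hfix _ hx₂
  rw [hσ] at e1 e2
  have e3 : σ (t₂ / t₁) = t₂ / t₁ := by
    have hha : h a = (t₁ / σ t₁) • a := by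
      rw [div_eq_inv_mul, mul_smul, ← e1, inv_smul_smul₀ (fun e => ht₁ (σ.injective (e.trans (map_zero σ).symm)))]
    rw [hha, smul_smul] at e2
    have e2' := smul_left_injective E (f.hp.ne S) e2
    rw [map_div₀]
    have hσt : σ t₁ ≠ 0 := fun e => ht₁ (σ.injective (e.trans (map_zero σ).symm))
    field_simp at e2' ⊢
    linear_combination e2'
  have hσ1 : σ = 1 := by
    by_contra hne
    obtain ⟨k, hk⟩ := fixed_gal S.deg S.prime hne e3
    refine hx₂n (Submodule.mem_span_singleton.mpr ⟨k, ?_⟩)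
    rw [← IsScalarTower.algebraMap_smul E k, smul_smul, hk, div_mul_cancel₀ _ ht₁]
  have hlin : ∀ (c : E) v, h (c • v) = c • h v := fun c v => by rw [hσ, hσ1, AlgEquiv.one_apply]
  have hBh : ∀ x y, B (h x) (h y) = B x y := fun x y => by
    rw [B_of_semi_at S (mem_iso S hX hh) (fun c => hσ c x), hσ1, AlgEquiv.one_apply]
  have ha : h a = a := by
    rw [hσ1, AlgEquiv.one_apply] at e1
    have := congrArg (fun v => t₁⁻¹ • v) e1
    simpa only [inv_smul_smul₀ ht₁] using this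
  have hha1 : B a (h b) = 1 := by
    conv_lhs => rw [← ha]
    rw [hBh, f.hp.ab]
  obtain ⟨z, hz⟩ : ∃ z, z = B e (h b) / B e e := ⟨_, rfl⟩
  refine ⟨z, ?_⟩
  have hdec := f.decomp S h3 (h b)
  rw [hha1, one_smul, ← hz] at hdec
  have hbb : B (h b) (h b) = 0 := by rw [hBh, f.hp.bb]
  obtain ⟨hba, hea, heb, hee⟩ := f.values S
  have hβ : B b (h b) = -(z * z * qE B e) := by
    rw [hdec] at hbb
    simp [f.hp.aa, f.hp.bb, f.hp.ab, hba, f.ae, f.be, hea, heb, hee] at hbb
    have h2' := two_E S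
    have : (2 : E) * (B b (h b) + z * z * qE B e) = 0 := by linear_combination hbb
    rw [mul_eq_zero, or_iff_right h2'] at this
    linear_combination this
  obtain ⟨v, hv⟩ : ∃ v, v = f.rt S (-z) * h := ⟨_, rfl⟩
  have hvlin : ∀ (c : E) x, v (c • x) = c • v x := fun c x => by
    rw [hv, LinearEquiv.mul_apply, LinearEquiv.mul_apply, hlin, f.rt_smul S]
  have hva : v a = a := by rw [hv, LinearEquiv.mul_apply, ha, f.rt_a S]
  have hvB : ∀ x y, B (v x) (v y) = B x y := fun x y => by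
    rw [hv, LinearEquiv.mul_apply, LinearEquiv.mul_apply, f.rt_B S, hBh]
  have hvb : v b = b := by
    have : h b = f.rt S z b := by rw [hdec, hβ, f.rt_b S]; module
    rw [hv, LinearEquiv.mul_apply, this, ← LinearEquiv.mul_apply, f.rt_add S, neg_add_cancel, f.rt_zero S]
    rfl
  obtain ⟨c, hc⟩ : ∃ c, c = B e (v e) / B e e := ⟨_, rfl⟩
  have hve : v e = c • e := by
    have h1 : B a (v e) = 0 := by rw [← hva, hvB, f.ae]
    have h2' : B b (v e) = 0 := by rw [← hvb, hvB, f.be]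
    rw [f.decomp S h3 (v e), h1, h2', ← hc]
    simp
  have hc2 : c = 1 ∨ c = -1 := by
    have h1 := hvB e e
    rw [hve, map_smul, map_smul, LinearMap.smul_apply, smul_eq_mul, smul_eq_mul, ← mul_assoc] at h1
    exact mul_self_eq_one_iff.mp ((mul_eq_right₀ f.ee).mp h1)
  have hv1 : v = 1 := by
    rcases hc2 with rfl | rfl
    · refine LinearEquiv.ext fun x => ?_
      rw [f.decomp S h3 x, map_add, map_add, hvlin, hvlin, hvlin, hva, hvb, hve, one_smul]
      rfl
    exfalso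
    haveI := finiteDimensional (F := F) (E := E)
    have hdet : LinearMap.det (v : V →ₗ[F] V) = 1 :=
      det_Om (hX.le (hv ▸ X.mul_mem (f.rt_mem S hX _) hh))
    let φ : ((E × E) × E) →ₗ[F] V :=
      (LinearMap.coprod (LinearMap.coprod ((LinearMap.toSpanSingleton E V a).restrictScalars F)
        ((LinearMap.toSpanSingleton E V b).restrictScalars F)) ((LinearMap.toSpanSingleton E V e).restrictScalars F))
    have hφ : Function.Bijective φ := by
      constructor
      · rw [← LinearMap.ker_eq_bot, LinearMap.ker_eq_bot']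
        rintro ⟨⟨p, q⟩, s⟩ h0
        change p • a + q • b + s • e = 0 at h0
        have k1 := congrArg (B b) h0
        have k2 := congrArg (B a) h0
        have k3 := congrArg (B e) h0
        simp [f.hp.aa, f.hp.bb, f.hp.ab, hba, f.ae, f.be, hea, heb, f.ee] at k1 k2 k3
        rw [k1, k2, k3]
        rfl
      · exact fun x => ⟨((B b x, B a x), B e x / B e e), (f.decomp S h3 x).symm⟩
    have hconj : (v : V →ₗ[F] V) = (LinearEquiv.ofBijective φ hφ).toLinearMap ∘ₗ
        (LinearMap.prodMap (LinearMap.id : (E × E) →ₗ[F] E × E) ((-1 : F) • LinearMap.id)) ∘ₗ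
          (LinearEquiv.ofBijective φ hφ).symm.toLinearMap := by
      refine LinearMap.ext fun x => ?_
      obtain ⟨⟨⟨p, q⟩, s⟩, rfl⟩ := (LinearEquiv.ofBijective φ hφ).surjective x
      simp only [LinearMap.comp_apply, LinearEquiv.coe_coe, LinearEquiv.symm_apply_apply]
      change v (p • a + q • b + s • e) = p • a + q • b + ((-1 : F) • s) • e
      rw [map_add, map_add, hvlin, hvlin, hvlin, hva, hvb, hve, neg_one_smul F s, smul_smul, mul_neg, mul_one]
    rw [hconj, LinearMap.det_conj, LinearMap.det_prodMap, LinearMap.det_id, one_mul, LinearMap.det_smul,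
      LinearMap.det_id, mul_one, S.deg, hr.neg_one_pow] at hdet
    exact S.two (by linear_combination -hdet)
  rw [hv, ← eq_inv_iff_mul_eq_one] at hv1
  rw [← inv_inv h, ← hv1, inv_eq_iff_mul_eq_one, f.rt_add S, neg_add_cancel, f.rt_zero S]

/-- Two image lines meet in at most one dimension. -/
theorem inter_le (hr : Odd r) {L L' : Submodule F V} (hL : IsLn E B X L) (hL' : IsLn E B X L') (hne : L ≠ L') :
    finrank F (L ⊓ L' : Submodule F V) ≤ 1 := by
  classical
  by_contra hcon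
  push Not at hcon
  haveI := finiteF S
  obtain ⟨g₀, hg₀, a, ha, haa, rfl⟩ := hL
  have hL₁ := hL'.map (X.inv_mem hg₀)
  obtain ⟨L₁, hL₁def⟩ : ∃ L₁, L₁ = L'.map (g₀⁻¹ : V ≃ₗ[F] V).toLinearMap := ⟨_, rfl⟩
  rw [← hL₁def] at hL₁
  have eL' : L' = L₁.map g₀.toLinearMap := by
    rw [hL₁def, ← Submodule.map_comp]
    have : g₀.toLinearMap.comp (g₀⁻¹ : V ≃ₗ[F] V).toLinearMap = LinearMap.id :=
      LinearMap.ext fun x => g₀.apply_symm_apply x
    rw [this, Submodule.map_id]
  have hne₁ : line F E a ≠ L₁ := fun e => hne (by rw [eL', e])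
  rw [eL', ← Submodule.map_inf _ g₀.injective, LinearEquiv.finrank_map_eq] at hcon
  obtain ⟨D, hD⟩ : ∃ D, D = line F E a ⊓ L₁ := ⟨_, rfl⟩
  rw [← hD] at hcon
  haveI : Finite (V ≃ₗ[F] V) := Finite.of_injective (fun g : V ≃ₗ[F] V => (g : V → V)) DFunLike.coe_injective
  obtain ⟨p, hchar⟩ := CharP.exists F
  haveI hpp : Fact p.Prime := ⟨CharP.char_is_prime F p⟩
  haveI : CharP E p := charP_of_injective_algebraMap' F p
  obtain ⟨b, e, f⟩ := exists_frame S ha haa
  obtain ⟨H, hHdef⟩ : ∃ H : Subgroup (V ≃ₗ[F] V), ∀ h, h ∈ H ↔ h ∈ X ∧ ∀ x ∈ D, h x = x := by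
    refine ⟨subgroupOfFinite {h | h ∈ X ∧ ∀ x ∈ D, h x = x} ⟨X.one_mem, fun x _ => rfl⟩
      (fun h hh k hk => ⟨X.mul_mem hh.1 hk.1, fun x hx => ?_⟩), fun h => Iff.rfl⟩
    rw [LinearEquiv.mul_apply, hk.2 x hx, hh.2 x hx]
  have hrH : ∀ z, f.rt S z ∈ H := fun z => (hHdef _).mpr ⟨f.rt_mem S hX z, fun x hx => by
    obtain ⟨t, rfl⟩ := mem_line.mp (hD.le hx).1
    rw [f.rt_smul S, f.rt_a S]⟩
  have hsemi : ∀ h ∈ H, SemiE E h → ∃ z, h = f.rt S z := fun h hh hs =>
    semi_fix_two S hX h3 hr f (hD.trans_le inf_le_left) hcon ((hHdef h).mp hh).1 hs ((hHdef h).mp hh).2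
  have hcomm : ∀ h ∈ H, ∀ z : E, z ≠ 0 → h * f.rt S z = f.rt S z * h → SemiE E h := by
    intro h hh z hz e
    refine stab S hX hN ha haa ((hHdef h).mp hh).1 fun t => ?_
    have h1 : f.rt S z (h (t • a)) = h (t • a) := by
      rw [← LinearEquiv.mul_apply, ← e, LinearEquiv.mul_apply, f.rt_smul S, f.rt_a S]
    exact (f.fix S h3 hz).mp h1
  let U : Subgroup H := (f.rtHom S).range.subgroupOf H
  have hUmem : ∀ h : H, h ∈ U ↔ ∃ z, (h : V ≃ₗ[F] V) = f.rt S z := fun h => by
    rw [Subgroup.mem_subgroupOf, MonoidHom.mem_range]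
    exact ⟨fun ⟨z, hz⟩ => ⟨z.toAdd, hz.symm⟩, fun ⟨z, hz⟩ => ⟨Multiplicative.ofAdd z, hz.symm⟩⟩
  have hUp : IsPGroup p U := fun ⟨h, hh⟩ => by
    obtain ⟨z, hz⟩ := (hUmem h).mp hh
    exact ⟨1, Subtype.ext (Subtype.ext (by
      rw [pow_one]
      change (h : V ≃ₗ[F] V) ^ p = 1
      rw [hz]
      exact u_order S p _ _))⟩
  have hnorm : ∀ h : H, h ∈ Subgroup.normalizer (U : Set H) → h ∈ U := by
    intro h hh
    refine (hUmem h).mpr (hsemi h h.2 (stab S hX hN ha haa ((hHdef _).mp h.2).1 fun t => ?_))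
    obtain ⟨z', hz'⟩ := (hUmem _).mp ((Subgroup.mem_normalizer_iff''.1 hh ⟨f.rt S 1, hrH 1⟩).mp
      ((hUmem _).mpr ⟨1, rfl⟩))
    have h1 : f.rt S 1 ((h : V ≃ₗ[F] V) (t • a)) = (h : V ≃ₗ[F] V) (f.rt S z' (t • a)) := by
      rw [← hz']
      simp only [Subgroup.coe_mul, Subgroup.coe_inv, LinearEquiv.mul_apply, LinearEquiv.coe_inv,
        LinearEquiv.apply_symm_apply]
    rw [f.rt_smul S z', f.rt_a S] at h1
    exact (f.fix S h3 one_ne_zero).mp h1
  obtain ⟨P, hUP⟩ := hUp.exists_le_sylow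
  have hPU : (P : Subgroup H) = U := by
    refine le_antisymm ?_ hUP
    by_contra hnot
    haveI := P.2.isNilpotent
    have hnc := normalizerCondition_of_isNilpotent (G := (P : Subgroup H)) (U.subgroupOf P)
      (lt_top_iff_ne_top.2 fun e => hnot (Subgroup.subgroupOf_eq_top.1 e))
    obtain ⟨k, hk, hkU⟩ := SetLike.exists_of_lt hnc
    refine hkU (Subgroup.mem_subgroupOf.mpr (hnorm k.1 (Subgroup.mem_normalizer_iff.mpr fun u => ⟨fun hu =>
      (Subgroup.mem_normalizer_iff.1 hk ⟨u, hUP hu⟩).1 hu, fun hu => ?_⟩)))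
    have huP : u ∈ (P : Subgroup H) := by
      have := (P : Subgroup H).mul_mem ((P : Subgroup H).mul_mem ((P : Subgroup H).inv_mem k.2) (hUP hu)) k.2
      simpa [mul_assoc] using this
    exact (Subgroup.mem_normalizer_iff.1 hk ⟨u, huP⟩).2 hu
  have hab : ∀ u ∈ U, ∀ v ∈ U, u * v = v * u := fun u hu v hv => by
    obtain ⟨z, hz⟩ := (hUmem u).mp hu
    obtain ⟨z', hz'⟩ := (hUmem v).mp hv
    exact Subtype.ext (by rw [Subgroup.coe_mul, Subgroup.coe_mul, hz, hz', f.rt_add S, f.rt_add S, add_comm])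
  have hPN : Subgroup.normalizer ((P : Subgroup H) : Set H) ≤ Subgroup.centralizer ((P : Subgroup H) : Set H) :=
    fun h hh => Subgroup.mem_centralizer_iff.mpr fun u hu => by
      rw [hPU] at hh hu
      exact hab u hu h (hnorm h hh)
  obtain ⟨K, hKnormal, hKc⟩ : ∃ K : Subgroup H, K.Normal ∧ K.IsComplement' P :=
    ⟨_, MonoidHom.normal_ker _, MonoidHom.ker_transferSylow_isComplement' P hPN⟩
  rw [hPU] at hKc
  haveI := hKnormal
  have hco : (Nat.card U).Coprime (Nat.card K) := by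
    rw [← hKc.index_eq_card, ← hPU]
    exact P.card_coprime_index
  have hA : IsMulCommutative U := ⟨⟨fun x y => Subtype.ext (hab x x.2 y y.2)⟩⟩
  have hgen := Cfsg.Agent.Solv.gen_eq U K hA (by rw [Subgroup.normalizer_eq_top]; exact le_top) hco
  have hcard : p < Nat.card U := by
    have e1 : Nat.card U = Nat.card E := (Nat.card_congr (Equiv.ofBijective
      (fun z : E => (⟨⟨f.rt S z, hrH z⟩, (hUmem _).mpr ⟨z, rfl⟩⟩ : U))
      ⟨fun z z' h => f.rt_inj S h3 (congrArg (fun u : U => ((u : H) : V ≃ₗ[F] V)) h),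
        fun u => by
          obtain ⟨z, hz⟩ := (hUmem u).mp u.2
          exact ⟨z, Subtype.ext (Subtype.ext hz.symm)⟩⟩)).symm
    haveI := finiteDimensional (F := F) (E := E)
    rw [e1, Module.natCard_eq_pow_finrank (K := F), S.deg]
    letI := Fintype.ofFinite F
    obtain ⟨n, hn, hFcard⟩ := FiniteField.card F p
    rw [Nat.card_eq_fintype_card, hFcard, ← pow_mul]
    calc p = p ^ 1 := (pow_one p).symm
      _ < p ^ ((n : ℕ) * r) := Nat.pow_lt_pow_right hpp.out.one_lt (by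
        have := n.pos
        have := S.prime.two_le
        nlinarith)
  have hKbot : K = ⊥ := by
    rw [eq_bot_iff]
    conv_lhs => rw [← hgen]
    refine iSup₂_le fun C hC => ?_
    obtain ⟨hCU, k, hkU, hCk⟩ := hC
    obtain ⟨z, hzC, hz⟩ : ∃ z : E, (⟨f.rt S z, hrH z⟩ : H) ∈ C ∧ z ≠ 0 := by
      by_contra h
      push Not at h
      have hC0 : C = ⊥ := by
        rw [Subgroup.eq_bot_iff_forall]
        intro c hc
        obtain ⟨z, hz⟩ := (hUmem c).mp (hCU hc)
        have := h z (by convert hc using 1; exact Subtype.ext hz.symm)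
        exact Subtype.ext (by rw [hz, this, f.rt_zero S]; rfl)
      rw [hC0, bot_sup_eq] at hCk
      obtain ⟨z', hz'⟩ := (hUmem k).mp hkU
      have hk1 : k ^ p = 1 := Subtype.ext (by
        rw [SubgroupClass.coe_pow, hz']
        exact u_order S p _ _)
      rw [← hCk, Nat.card_zpowers] at hcard
      exact absurd (Nat.le_of_dvd hpp.out.pos (orderOf_dvd_of_pow_eq_one hk1)) (by omega)
    intro h hh
    rw [Subgroup.mem_inf] at hh
    have e := congrArg (fun u : H => (u : V ≃ₗ[F] V)) (Subgroup.mem_centralizer_iff.mp hh.2 _ hzC)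
    simp only [Subgroup.coe_mul] at e
    exact hKc.disjoint.le_bot ⟨hh.1, (hUmem h).mpr (hsemi h h.2 (hcomm h h.2 z hz e.symm))⟩
  have hHU : ∀ h : H, h ∈ U := fun h => by
    rw [hKbot] at hKc
    rw [Subgroup.isComplement'_bot_left.mp hKc]
    trivial
  -- the Siegel elements of the second line
  obtain ⟨g, hg, c, hc, hcc, rfl⟩ := hL₁
  obtain ⟨b', e', f'⟩ := exists_frame S hc hcc
  obtain ⟨w, hw⟩ : ∃ w, w = g * f'.rt S 1 * g⁻¹ := ⟨_, rfl⟩
  have hwH : w ∈ H := (hHdef _).mpr ⟨hw ▸ X.mul_mem (X.mul_mem hg (f'.rt_mem S hX 1)) (X.inv_mem hg), fun x hx => by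
    obtain ⟨y, hy, rfl⟩ := (hD.le hx).2
    obtain ⟨t, rfl⟩ := mem_line.mp hy
    simp only [hw, LinearEquiv.mul_apply, LinearEquiv.coe_coe, LinearEquiv.coe_inv, LinearEquiv.symm_apply_apply,
      f'.rt_smul S, f'.rt_a S]⟩
  obtain ⟨z, hz⟩ := (hUmem ⟨w, hwH⟩).mp (hHU _)
  change w = f.rt S z at hz
  have hw1 : ∀ x, w x = x ↔ x ∈ (line F E c).map g.toLinearMap := fun x => by
    obtain ⟨y, rfl⟩ := g.surjective x
    simp only [hw, LinearEquiv.mul_apply, LinearEquiv.coe_inv, LinearEquiv.symm_apply_apply, g.injective.eq_iff]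
    rw [f'.fix S h3 one_ne_zero, Submodule.mem_map]
    exact ⟨fun ⟨t, ht⟩ => ⟨y, mem_line.mpr ⟨t, ht.symm⟩, rfl⟩, fun ⟨y', hy', e⟩ => by
      rw [LinearEquiv.coe_coe, g.injective.eq_iff] at e
      obtain ⟨t, ht⟩ := mem_line.mp hy'
      exact ⟨t, by rw [ht, e]⟩⟩
  have hz0 : z ≠ 0 := fun e0 => f'.rt_ne S h3 (one_ne_zero (α := E)) (by
    rw [e0, f.rt_zero S, hw, mul_inv_eq_one] at hz
    exact mul_left_cancel (a := g) (hz.trans (mul_one g).symm))
  refine hne₁ (Submodule.ext fun x => ?_)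
  rw [← hw1, hz, f.fix S h3 hz0, mem_line]
  exact ⟨fun ⟨t, ht⟩ => ⟨t, ht.symm⟩, fun ⟨t, ht⟩ => ⟨t, ht.symm⟩⟩

end Lines

end Cfsg.Agent.Classical.FieldExt.Orth
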