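/-
Dimension three over the big field: an overgroup without pointwise fixed perps is semilinear, by counting.
-/
import Cfsg.Agent.Lib.Classical.FieldExt.Orth.ThreeLines
import Cfsg.Agent.Lib.Classical.OrthRoot

set_option autoImplicit false
set_option linter.style.haveILetI false
set_option linter.unusedSectionVars false

namespace Cfsg.Agent.Classical.FieldExt.Orth

open Module QuadraticMap
open Cfsg.Agent.Classical

universe v

/-- The zeros of a nondegenerate form in odd dimension. -/
theorem card_zero_odd {F : Type*} [Field F] [Fintype F] (h2 : (2 : F) ≠ 0) (m : ℕ) :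
    ∀ {W : Type v} [AddCommGroup W] [Module F W] [FiniteDimensional F W] (T : QuadraticForm F W), OCount.PND T →
      finrank F W = 2 * m + 1 → Nat.card {x : W // T x = 0} = Fintype.card F ^ (2 * m) := by
  induction m with
  | zero =>
    intro W _ _ _ T hT hW
    rw [Nat.mul_zero, pow_zero, Nat.card_eq_one_iff_exists]
    refine ⟨⟨0, map_zero T⟩, fun ⟨x, hx⟩ => Subtype.ext ?_⟩
    by_contra hne
    refine hne (hT x fun w => ?_)
    obtain ⟨c, rfl⟩ := exists_smul_eq_of_finrank_eq_one (by omega : finrank F W = 1) hne w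
    rw [polar_smul_right, OCount.polar_self_zero hx, smul_zero]
  | succ m ih =>
    intro W _ _ _ T hT hW
    obtain ⟨x, -, hx0, hx⟩ := Cfsg.Agent.Small.QuadBasis.exists_singular T (W := ⊤) (by
      rw [finrank_top]; omega)
    obtain ⟨y, hp⟩ := OOmega.exists_pair hT hx0 hx
    have hd := OCount.finrank_comp hp
    have hd' : finrank F (OCount.comp T (x, y)) = 2 * m + 1 := by omega
    rw [OCount.card_value hp 0, hd', ih (OCount.res T (x, y)) (OCount.res_pnd hT hp) hd']
    obtain ⟨q, hq⟩ : ∃ q, Fintype.card F = q + 1 := ⟨Fintype.card F - 1, by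
      have := Fintype.card_pos (α := F)
      omega⟩
    rw [hq, Nat.add_sub_cancel]
    ring

variable {F E V : Type*} [Field F] [Field E] [Algebra F E] [Finite E] [AddCommGroup V] [Module F V] [Module E V]
  [IsScalarTower F E V] [Finite V]
variable {B : V →ₗ[E] V →ₗ[E] E} {Q : QuadraticForm F V} {r : ℕ} {X : Subgroup (V ≃ₗ[F] V)}

section Count

variable (S : Setup B Q r) (hX : Over E Q X) (hN : NoFix B X) (h3 : finrank E V = 3) (hr : Odd r)

include S hX hN h3 hr

/-- A line that is not a singular line has at most one singular point. -/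
theorem one_point {L : Submodule F V} (hL : IsLn E B X L) (hnt : ¬ IsTrueLine B L) {x y : V} (hx : x ∈ L)
    (hy : y ∈ L) (hx0 : x ≠ 0) (hxx : B x x = 0) (hyy : B y y = 0) : ∃ t : F, y = t • x := by
  classical
  haveI : FiniteDimensional F V := Module.Finite.of_finite
  by_contra hno
  push Not at hno
  have hli : LinearIndependent F ![x, y] := by
    rw [LinearIndependent.pair_iff]
    intro s t hst
    have ht : t = 0 := by
      by_contra ht
      refine hno (-(t⁻¹ * s)) ?_
      have e := congrArg (fun v => t⁻¹ • v) hst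
      simp only [smul_add, inv_smul_smul₀ ht, smul_smul, smul_zero] at e
      rw [neg_smul]
      exact eq_neg_of_add_eq_zero_right e
    rw [ht, zero_smul, add_zero, smul_eq_zero, or_iff_left hx0] at hst
    exact ⟨hst, ht⟩
  have two : ∀ L' : Submodule F V, x ∈ L' → y ∈ L' → IsLn E B X L' → L = L' := fun L' hx' hy' hL' => by
    by_contra hne
    have h1 := inter_le S hX hN h3 hr hL hL' hne
    have h2 : Submodule.span F (Set.range ![x, y]) ≤ L ⊓ L' := by
      rw [Submodule.span_le]
      rintro _ ⟨i, rfl⟩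
      fin_cases i
      · exact ⟨hx, hx'⟩
      · exact ⟨hy, hy'⟩
    have h3' := Submodule.finrank_mono h2
    rw [finrank_span_eq_card hli, Fintype.card_fin] at h3'
    omega
  by_cases hβ : B x y = 0
  · obtain ⟨s, hs⟩ := dep_of_perp S h3 hx0 hxx hyy hβ
    exact hnt ⟨x, hx0, hxx, two _ (mem_line.mpr ⟨1, one_smul E x⟩) (mem_line.mpr ⟨s, hs.symm⟩)
      (IsTrueLine.isLn ⟨x, hx0, hxx, rfl⟩)⟩
  obtain ⟨b, hb⟩ : ∃ b, b = (B x y)⁻¹ • y := ⟨_, rfl⟩
  have hp : HP B x b := ⟨hxx, by rw [hb, map_smul, map_smul, LinearMap.smul_apply, hyy, smul_zero, smul_zero],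
    by rw [hb, map_smul, smul_eq_mul, inv_mul_cancel₀ hβ]⟩
  obtain ⟨e, h1, h2, h4⟩ := hp.exists_aniso S
  have f : Frame B x b e := ⟨hp, h1, h2, h4⟩
  have hκ := f.kappa_ne S
  obtain ⟨t, ht, w, hw, htw⟩ := exists_class S hr (ν := -B x y / qE B e) (div_ne_zero (neg_ne_zero.mpr hβ) hκ)
  obtain ⟨ι, hιX, hιl, -, hιx, -, hιι⟩ := f.exists_inv S hX h3 hw
  have hιy : ι x = t • y := by
    rw [hιx, ← htw, hb, smul_smul, ← IsScalarTower.algebraMap_smul E t y]
    congr 1
    field_simp
  have hιι' : ∀ v, ι (ι v) = v := fun v => by rw [← LinearEquiv.mul_apply, hιι]; rfl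
  have hιy' : ι y = t⁻¹ • x := by
    have := hιι' x
    rw [hιy, map_smul] at this
    rw [← this, inv_smul_smul₀ ht]
  have hmap : L.map ι.toLinearMap = L :=
    (two _ (by
      rw [← hιι' x, hιy, map_smul]
      exact Submodule.smul_mem _ t (Submodule.mem_map_of_mem hy)) (by
      have e1 : y = t⁻¹ • ι x := by rw [hιy, inv_smul_smul₀ ht]
      rw [e1]
      exact Submodule.smul_mem _ _ (Submodule.mem_map_of_mem hx)) (hL.map hιX)).symm
  obtain ⟨g, hg, c, hc, hcc, rfl⟩ := hL
  obtain ⟨m, hm⟩ : ∃ m, m = g⁻¹ * ι * g := ⟨_, rfl⟩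
  have hmX : m ∈ X := hm ▸ X.mul_mem (X.mul_mem (X.inv_mem hg) hιX) hg
  have hmc : (line F E c).map m.toLinearMap = line F E c := by
    have e1 : m.toLinearMap = (g⁻¹ : V ≃ₗ[F] V).toLinearMap.comp (ι.toLinearMap.comp g.toLinearMap) := by
      rw [hm]; rfl
    rw [e1, Submodule.map_comp, Submodule.map_comp, hmap, ← Submodule.map_comp]
    have e2 : (g⁻¹ : V ≃ₗ[F] V).toLinearMap.comp g.toLinearMap = LinearMap.id :=
      LinearMap.ext fun v => g.symm_apply_apply v
    rw [e2, Submodule.map_id]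
  obtain ⟨σ, hσ⟩ := exists_alg S (semi_of_lines S hX hN h3 hmX hc hcc hc hcc hmc)
  have hmm : ∀ v, m (m v) = v := fun v => by
    simp only [hm, LinearEquiv.mul_apply, LinearEquiv.coe_inv, LinearEquiv.apply_symm_apply, hιι',
      LinearEquiv.symm_apply_apply]
  have hσ2 : σ * σ = 1 := AlgEquiv.ext fun z => smul_left_injective E hc (by
    simp only
    rw [AlgEquiv.mul_apply, AlgEquiv.one_apply]
    have := hmm (z • c)
    rwa [hσ, hσ, hmm] at this)
  have hr2 : r ≠ 2 := fun e0 => Nat.not_even_iff_odd.mpr hr (e0 ▸ even_two)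
  have hσ1 : σ = 1 := by
    by_contra hne
    exact gal_sq_ne S.deg S.prime hr2 hne hσ2
  obtain ⟨lam, hlam⟩ : ∃ l : E, l • c = m c :=
    mem_line.mp (hmc.le (Submodule.mem_map_of_mem (mem_line.mpr ⟨1, one_smul E c⟩)))
  have hl2 : lam * lam = 1 := smul_left_injective E hc (by
    simp only
    have := hmm c
    rw [← hlam, hσ, hσ1, AlgEquiv.one_apply, ← hlam, smul_smul] at this
    rw [one_smul, this])
  obtain ⟨v, hv, hgv⟩ := Submodule.mem_map.mp hx
  obtain ⟨s, rfl⟩ := mem_line.mp hv
  change g (s • c) = x at hgv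
  have hmv : m (s • c) = lam • (s • c) := by
    rw [hσ, hσ1, AlgEquiv.one_apply, ← hlam, smul_smul, smul_smul, mul_comm]
  have hιm : ι x = g (m (s • c)) := by
    simp only [hm, LinearEquiv.mul_apply, LinearEquiv.coe_inv, LinearEquiv.apply_symm_apply, hgv]
  rcases mul_self_eq_one_iff.mp hl2 with h | h
  · rw [hmv, h, one_smul, hgv, hιy] at hιm
    exact hno t⁻¹ (by rw [← hιm, inv_smul_smul₀ ht])
  · rw [hmv, h, neg_smul, one_smul, map_neg, hgv, hιy] at hιm
    exact hno (-t⁻¹) (by rw [neg_smul, ← smul_neg, ← hιm, inv_smul_smul₀ ht])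

/-- In dimension three an overgroup without pointwise fixed perps is semilinear. -/
theorem semi_all_three : ∀ g ∈ X, SemiE E g := by
  classical
  intro g₁ hg₁
  by_contra hg₁s
  haveI := finiteF S
  haveI := finiteDimensional (F := F) (E := E)
  haveI : FiniteDimensional F V := Module.Finite.of_finite
  letI := Fintype.ofFinite F
  letI := Fintype.ofFinite V
  haveI : Finite (Submodule F V) := Finite.of_injective _ SetLike.coe_injective
  letI := Fintype.ofFinite (Submodule F V)
  obtain ⟨q, hq⟩ : ∃ q, q = Fintype.card F := ⟨_, rfl⟩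
  obtain ⟨N, hN'⟩ : ∃ N, N = Nat.card E := ⟨_, rfl⟩
  have hNq : N = q ^ r := by
    rw [hN', Module.natCard_eq_pow_finrank (K := F), S.deg, hq, Nat.card_eq_fintype_card]
  have hq2 : 2 ≤ q := hq ▸ Fintype.one_lt_card
  have hr4 : 3 ≤ r := three_le_r S h3
  have hq3 : 3 ≤ q := by
    rw [hq, ← Nat.card_eq_fintype_card]
    exact three_le_card S
  -- lines, vectors and incidences
  let Ls : Finset (Submodule F V) := Finset.univ.filter fun L => IsLn E B X L
  let Sg : Finset V := Finset.univ.filter fun v => v ≠ 0 ∧ B v v = 0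
  let kOf : V → ℕ := fun v => (Ls.filter fun L => v ∈ L).card
  have hkmap : ∀ k ∈ X, ∀ v, kOf v ≤ kOf (k v) := fun k hk v => by
    refine Finset.card_le_card_of_injOn (fun L => L.map k.toLinearMap) (fun L hL => ?_) (fun L _ L' _ h => ?_)
    · rw [Finset.mem_coe, Finset.mem_filter, Finset.mem_filter] at hL ⊢
      exact ⟨⟨Finset.mem_univ _, hL.1.2.map hk⟩, Submodule.mem_map_of_mem hL.2⟩
    · exact Submodule.map_injective_of_injective k.injective h
  have hkX : ∀ k ∈ X, ∀ v, kOf (k v) = kOf v := fun k hk v => by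
    refine le_antisymm ?_ (hkmap k hk v)
    have := hkmap k⁻¹ (X.inv_mem hk) (k v)
    rwa [LinearEquiv.coe_inv, LinearEquiv.symm_apply_apply] at this
  have hksmul : ∀ (t : F), t ≠ 0 → ∀ v, kOf (t • v) = kOf v := fun t ht v => by
    refine congrArg Finset.card (Finset.filter_congr fun L _ => ?_)
    exact Submodule.smul_mem_iff _ ht
  have hT := trans_of_three S hX h3 hr
  obtain ⟨a, ha, haa⟩ := exists_singular_ne S
  have hconst : ∀ v ∈ Sg, kOf v = kOf a := fun v hv => by
    obtain ⟨hv0, hvv⟩ := (Finset.mem_filter.mp hv).2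
    obtain ⟨k, hk, t, ht, -, -, hkv⟩ := hT.move hv0 hvv ha haa
    rw [← hkX k hk v, hkv, hksmul t ht]
  obtain ⟨k, hk⟩ : ∃ k, k = kOf a := ⟨_, rfl⟩
  have hline : ∀ {v : V}, v ≠ 0 → B v v = 0 → line F E v ∈ Ls.filter (fun L => v ∈ L) := fun {v} hv hvv =>
    Finset.mem_filter.mpr ⟨Finset.mem_filter.mpr ⟨Finset.mem_univ _, IsTrueLine.isLn ⟨v, hv, hvv, rfl⟩⟩,
      mem_line.mpr ⟨1, one_smul E v⟩⟩
  have huniq : ∀ {L : Submodule F V}, IsTrueLine B L → ∀ {v : V}, v ≠ 0 → v ∈ L → L = line F E v := by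
    rintro _ ⟨c, hc, hcc, rfl⟩ v hv0 hv
    obtain ⟨s, rfl⟩ := mem_line.mp hv
    rw [line_smul (fun e => hv0 (by rw [e, zero_smul]))]
  -- the incidences
  obtain ⟨Z, hZ⟩ : ∃ Z : Finset V, Z = Finset.univ.filter fun v => v ≠ 0 ∧ ∃ L, IsLn E B X L ∧ v ∈ L :=
    ⟨_, rfl⟩
  have hZk : ∀ v ∈ Z, kOf v = k := fun v hv => by
    obtain ⟨hv0, L, ⟨g, hg, c, hc, hcc, rfl⟩, hvL⟩ := (Finset.mem_filter.mp (hZ ▸ hv)).2
    obtain ⟨w, hw, rfl⟩ := Submodule.mem_map.mp hvL
    obtain ⟨s, rfl⟩ := mem_line.mp hw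
    rw [LinearEquiv.coe_coe] at hv0 ⊢
    rw [hkX g hg, hk, hconst _ (Finset.mem_filter.mpr ⟨Finset.mem_univ _, fun e => hv0 (by rw [e, map_zero]), by
      rw [map_smul, map_smul, LinearMap.smul_apply, hcc, smul_zero, smul_zero]⟩)]
  have hvec : ∀ L ∈ Ls, (Finset.univ.filter fun v => v ∈ L ∧ v ≠ 0).card = N - 1 := fun L hL => by
    obtain ⟨g, hg, c, hc, hcc, rfl⟩ := (Finset.mem_filter.mp hL).2
    have e1 : (Finset.univ.filter fun v => v ∈ (line F E c).map g.toLinearMap ∧ v ≠ 0) =
        ((Finset.univ.filter fun v => v ∈ (line F E c).map g.toLinearMap).erase 0) := by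
      ext v
      simp [and_comm]
    rw [e1, Finset.card_erase_of_mem (Finset.mem_filter.mpr ⟨Finset.mem_univ _, zero_mem _⟩), ← Fintype.card_subtype,
      ← Nat.card_eq_fintype_card, hNq]
    congr 1
    change Nat.card ↥((line F E c).map g.toLinearMap) = q ^ r
    rw [Module.natCard_eq_pow_finrank (K := F), LinearEquiv.finrank_map_eq, finrank_line S hc, hq,
      Nat.card_eq_fintype_card]
  have hinc : Ls.card * (N - 1) = Z.card * k := by
    have e := Finset.sum_card_bipartiteAbove_eq_sum_card_bipartiteBelow (s := Ls) (t := Z)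
      (fun (L : Submodule F V) (v : V) => v ∈ L)
    rw [Finset.sum_const_nat (m := N - 1) (fun L hL => ?_), Finset.sum_const_nat (m := k) (fun v hv => ?_)] at e
    · exact e
    · exact hZk v hv
    · rw [← hvec L hL]
      refine congrArg Finset.card (Finset.ext fun v => ?_)
      simp only [Finset.mem_bipartiteAbove, hZ, Finset.mem_filter, Finset.mem_univ, true_and]
      exact ⟨fun h => ⟨h.2, h.1.1⟩, fun h => ⟨⟨h.2, L, (Finset.mem_filter.mp hL).2, h.1⟩, h.1⟩⟩
  have hJ : Sg.card * (k - 1) ≤ Ls.card * (q - 1) := by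
    have e := Finset.sum_card_bipartiteAbove_eq_sum_card_bipartiteBelow (s := Sg)
      (t := Ls.filter fun L => ¬ IsTrueLine B L) (fun (v : V) (L : Submodule F V) => v ∈ L)
    rw [Finset.sum_const_nat (m := k - 1) (fun v hv => ?_)] at e
    · rw [e]
      refine le_trans (Finset.sum_le_card_nsmul _ _ (q - 1) fun L hL => ?_) ?_
      · obtain ⟨hLl, hnt⟩ := Finset.mem_filter.mp hL
        by_cases hex : ∃ x ∈ Sg, x ∈ L
        · obtain ⟨x, hx, hxL⟩ := hex
          obtain ⟨hx0, hxx⟩ := (Finset.mem_filter.mp hx).2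
          refine le_trans (Finset.card_le_card (t := (Finset.univ.erase (0 : F)).image fun t => t • x) fun y hy => ?_)
            (le_trans Finset.card_image_le (by rw [Finset.card_erase_of_mem (Finset.mem_univ _), Finset.card_univ, hq]))
          rw [Finset.mem_bipartiteBelow] at hy
          obtain ⟨hy0, hyy⟩ := (Finset.mem_filter.mp hy.1).2
          obtain ⟨t, rfl⟩ := one_point S hX hN h3 hr (Finset.mem_filter.mp hLl).2 hnt hxL hy.2 hx0 hxx hyy
          exact Finset.mem_image.mpr ⟨t, Finset.mem_erase.mpr ⟨fun e => hy0 (by rw [e, zero_smul]),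
            Finset.mem_univ _⟩, rfl⟩
        · push Not at hex
          refine le_trans (le_of_eq (Finset.card_eq_zero.mpr (Finset.filter_eq_empty_iff.mpr fun v hv => hex v hv)))
            (Nat.zero_le _)
      · rw [smul_eq_mul]
        exact Nat.mul_le_mul_right _ (Finset.card_filter_le _ _)
    · obtain ⟨hv0, hvv⟩ := (Finset.mem_filter.mp hv).2
      have e1 : Finset.bipartiteAbove (fun (v : V) (L : Submodule F V) => v ∈ L)
          (Ls.filter fun L => ¬ IsTrueLine B L) v = (Ls.filter fun L => v ∈ L).erase (line F E v) := by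
        ext L
        simp only [Finset.mem_bipartiteAbove, Finset.mem_filter, Finset.mem_erase]
        exact ⟨fun h => ⟨fun e => h.1.2 ⟨v, hv0, hvv, e⟩, h.1.1, h.2⟩,
          fun h => ⟨⟨h.2.1, fun ht => h.1 (huniq ht hv0 h.2.2)⟩, h.2.2⟩⟩
      rw [e1, Finset.card_erase_of_mem (hline hv0 hvv), hk, ← hconst v hv]
  -- the singular vectors and lines
  obtain ⟨b, e, f⟩ := exists_frame S ha haa
  obtain ⟨gb, hgb⟩ : ∃ gb : Frame B b a e, gb = f.swap S := ⟨_, rfl⟩
  let pt : Option E → V := fun o => o.elim b fun z => gb.rt S z a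
  have hpt0 : ∀ o, pt o ≠ 0 ∧ B (pt o) (pt o) = 0 := fun o => by
    cases o with
    | none => exact ⟨f.hp.ne' S, f.hp.bb⟩
    | some z => exact ⟨fun e0 => ha ((gb.rt S z).map_eq_zero_iff.mp e0), by
        change B (gb.rt S z a) (gb.rt S z a) = 0
        rw [gb.rt_B S]; exact haa⟩
  have hptb : ∀ z : E, B b (gb.rt S z a) = 1 := fun z => by
    have := gb.rt_B S z b a
    rw [gb.rt_a S] at this
    rw [this, (f.values S).1]
  have hpte : ∀ z : E, B e (gb.rt S z a) = z * B e e := fun z => by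
    rw [gb.rt_b S]
    simp [(f.values S).2.1, (f.values S).2.2.1]
  have hpt : ∀ o o' : Option E, ∀ s : E, s • pt o = pt o' → o = o' := by
    rintro (_ | z) (_ | z') s h
    · rfl
    · have := congrArg (B b) h
      change B b (s • b) = B b (gb.rt S z' a) at this
      rw [hptb, map_smul, f.hp.bb, smul_zero] at this
      exact absurd this zero_ne_one
    · have := congrArg (B b) h
      change B b (s • gb.rt S z a) = B b b at this
      rw [map_smul, hptb, f.hp.bb, smul_eq_mul, mul_one] at this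
      change s • gb.rt S z a = b at h
      rw [this, zero_smul] at h
      exact absurd h.symm (f.hp.ne' S)
    · change s • gb.rt S z a = gb.rt S z' a at h
      have h1 := congrArg (B b) h
      rw [map_smul, hptb, hptb, smul_eq_mul, mul_one] at h1
      have h2 := congrArg (B e) h
      rw [map_smul, hpte, hpte, h1, one_smul, mul_left_inj' f.ee] at h2
      rw [h2]
  have hSg : (N + 1) * (N - 1) ≤ Sg.card := by
    let tE : Type _ := {t : E // t ≠ 0}
    letI := Fintype.ofFinite E
    have hcard : Fintype.card (Option E × {t : E // t ≠ 0}) = (N + 1) * (N - 1) := by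
      rw [Fintype.card_prod, Fintype.card_option, Fintype.card_subtype_compl, Fintype.card_subtype_eq, hN',
        Nat.card_eq_fintype_card]
    rw [← hcard, ← Finset.card_univ]
    refine Finset.card_le_card_of_injOn (fun p => (p.2 : E) • pt p.1) (fun p _ => ?_) (fun p _ p' _ h => ?_)
    · rw [Finset.mem_coe, Finset.mem_filter]
      exact ⟨Finset.mem_univ _, smul_ne_zero p.2.2 (hpt0 _).1, by
        rw [map_smul, map_smul, LinearMap.smul_apply, (hpt0 _).2, smul_zero, smul_zero]⟩
    · simp only at h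
      have h1 : p.1 = p'.1 := hpt _ _ ((p'.2 : E)⁻¹ * p.2) (by rw [mul_smul, h, inv_smul_smul₀ p'.2.2])
      rw [h1] at h
      exact Prod.ext h1 (Subtype.ext (smul_left_injective E (hpt0 _).1 h))
  have hZle : Z.card + 1 ≤ q ^ (3 * r - 1) := by
    have hfin : finrank F V = 2 * ((3 * r - 1) / 2) + 1 := by
      rw [← finrank_mul S, h3]
      obtain ⟨j, rfl⟩ := hr
      omega
    have hc := card_zero_odd S.two _ Q (pnd S) hfin
    rw [show 2 * ((3 * r - 1) / 2) = 3 * r - 1 by obtain ⟨j, rfl⟩ := hr; omega, ← hq, Nat.card_eq_fintype_card,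
      Fintype.card_subtype] at hc
    rw [← hc]
    refine Finset.card_lt_card (Finset.ssubset_iff.mpr ⟨0, fun h0 => ?_, Finset.insert_subset ?_ fun v hv => ?_⟩)
    · exact (Finset.mem_filter.mp (hZ ▸ h0)).2.1 rfl
    · exact Finset.mem_filter.mpr ⟨Finset.mem_univ _, map_zero Q⟩
    · obtain ⟨-, L, ⟨g, hg, c, hc', hcc, rfl⟩, hvL⟩ := (Finset.mem_filter.mp (hZ ▸ hv)).2
      obtain ⟨w, hw, rfl⟩ := Submodule.mem_map.mp hvL
      obtain ⟨s, rfl⟩ := mem_line.mp hw
      exact Finset.mem_filter.mpr ⟨Finset.mem_univ _, by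
        rw [LinearEquiv.coe_coe, mem_iso S hX hg, q_line S hcc]⟩
  -- several lines through a point
  have hk1 : 1 ≤ k := hk ▸ Finset.card_pos.mpr ⟨_, hline ha haa⟩
  have hbig : 1 < k → N + 1 ≤ k := fun h1 => by
    obtain ⟨L, hL⟩ : ∃ L, L ∈ (Ls.filter fun L => a ∈ L).erase (line F E a) := by
      refine Finset.card_pos.mp ?_
      rw [Finset.card_erase_of_mem (hline ha haa)]
      rw [hk] at h1
      exact Nat.sub_pos_of_lt h1
    obtain ⟨hne, hLf⟩ := Finset.mem_erase.mp hL
    obtain ⟨hLs, haL⟩ := Finset.mem_filter.mp hLf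
    letI := Fintype.ofFinite E
    have hle : Fintype.card E ≤ ((Ls.filter fun L => a ∈ L).erase (line F E a)).card := by
      rw [← Finset.card_univ]
      refine Finset.card_le_card_of_injOn (fun z => L.map (f.rt S z).toLinearMap) (fun z _ => ?_) (fun z _ z' _ h => ?_)
      · rw [Finset.mem_coe, Finset.mem_erase, Finset.mem_filter, Finset.mem_filter]
        refine ⟨fun e0 => hne ?_, ⟨Finset.mem_univ _, (Finset.mem_filter.mp hLs).2.map (f.rt_mem S hX z)⟩,
          Submodule.mem_map.mpr ⟨a, haL, f.rt_a S z⟩⟩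
        have e1 := congrArg (Submodule.map (f.rt S (-z)).toLinearMap) e0
        rw [← Submodule.map_comp] at e1
        have e2 : (f.rt S (-z)).toLinearMap.comp (f.rt S z).toLinearMap = LinearMap.id :=
          LinearMap.ext fun x => by
            change (f.rt S (-z) * f.rt S z) x = x
            rw [f.rt_add S, neg_add_cancel, f.rt_zero S]; rfl
        have e3 := (map_line_semi S (mem_iso S hX (f.rt_mem S hX (-z))) (u_semi S _ _) haa).1
        rw [f.rt_a S] at e3
        rw [e2, Submodule.map_id] at e1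
        rw [e3] at e1
        exact e1
      · by_contra hzz
        simp only at h
        refine hne (ln_fixed S hX hN h3 f (sub_ne_zero.mpr hzz) (Finset.mem_filter.mp hLs).2 ?_)
        have e1 := congrArg (Submodule.map (f.rt S (-z')).toLinearMap) h
        rw [← Submodule.map_comp, ← Submodule.map_comp] at e1
        have e2 : ∀ x y : E, (f.rt S x).toLinearMap.comp (f.rt S y).toLinearMap = (f.rt S (x + y)).toLinearMap :=
          fun x y => LinearMap.ext fun v => by
            change (f.rt S x * f.rt S y) v = _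
            rw [f.rt_add S]; rfl
        rw [e2, e2, neg_add_cancel, f.rt_zero S, neg_add_eq_sub] at e1
        exact e1.trans (Submodule.map_id _)
    rw [Finset.card_erase_of_mem (hline ha haa), ← Nat.card_eq_fintype_card, ← hN'] at hle
    have : kOf a - 1 = (Ls.filter fun L => a ∈ L).card - 1 := rfl
    omega
  -- the numbers
  have hN5 : q ^ 3 ≤ N := hNq ▸ Nat.pow_le_pow_right (by omega) hr4
  have hN3 : q * q ^ (3 * r - 1) = N * N * N := by
    rw [hNq, ← pow_succ', ← pow_add, ← pow_add]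
    congr 1
    omega
  have hq4 : 2 * q + 2 ≤ q ^ 3 := by
    have : 3 ^ 2 * q ≤ q ^ 2 * q := Nat.mul_le_mul_right _ (Nat.pow_le_pow_left hq3 2)
    rw [← pow_succ, show 2 + 1 = 3 from rfl] at this
    omega
  obtain ⟨M, hM⟩ : ∃ M, M = q ^ (3 * r - 1) := ⟨_, rfl⟩
  rw [← hM] at hN3 hZle
  obtain ⟨n, hn⟩ : ∃ n, N = n + 1 := ⟨N - 1, by omega⟩
  obtain ⟨p, hp⟩ : ∃ p, q = p + 1 := ⟨q - 1, by omega⟩
  subst hn hp
  simp only [Nat.add_sub_cancel] at hinc hJ hSg
  rcases Nat.lt_or_ge 1 k with h | h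
  · obtain ⟨j, hj⟩ : ∃ j, k = j + 1 := ⟨k - 1, by omega⟩
    subst hj
    simp only [Nat.add_sub_cancel] at hJ
    have hjN := hbig h
    have h1 : (n + 1 + 1) * n * j * n ≤ Z.card * (j + 1) * p := by
      calc (n + 1 + 1) * n * j * n ≤ Sg.card * j * n := Nat.mul_le_mul_right _ (Nat.mul_le_mul_right _ hSg)
        _ ≤ Ls.card * p * n := Nat.mul_le_mul_right _ hJ
        _ = Z.card * (j + 1) * p := by rw [← hinc]; ring
    have h2 : (n + 1 + 1) * n * j * n * (p + 1) * (n + 1) ≤ (n + 1) * (n + 1) * (n + 1) * ((j + 1) * (n + 1)) * p := by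
      calc (n + 1 + 1) * n * j * n * (p + 1) * (n + 1) ≤ Z.card * (j + 1) * p * (p + 1) * (n + 1) :=
            Nat.mul_le_mul_right _ (Nat.mul_le_mul_right _ h1)
        _ ≤ M * (j + 1) * p * (p + 1) * (n + 1) := by
            refine Nat.mul_le_mul_right _ (Nat.mul_le_mul_right _ (Nat.mul_le_mul_right _ (Nat.mul_le_mul_right _ ?_)))
            omega
        _ = _ := by rw [← hN3]; ring
    have h3' : (j + 1) * (n + 1) ≤ j * (n + 1 + 1) := by nlinarith
    have h4 : (n + 1 + 1) * n * j * n * (p + 1) * (n + 1) ≤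
        (n + 1) * (n + 1) * (n + 1) * (j * (n + 1 + 1)) * p :=
      h2.trans (Nat.mul_le_mul_right _ (Nat.mul_le_mul_left _ h3'))
    have h5 : n * n * (p + 1) * ((n + 1 + 1) * j * (n + 1)) ≤ (n + 1) * (n + 1) * p * ((n + 1 + 1) * j * (n + 1)) := by
      calc _ = (n + 1 + 1) * n * j * n * (p + 1) * (n + 1) := by ring
        _ ≤ _ := h4
        _ = _ := by ring
    have hj0 : 0 < (n + 1 + 1) * j * (n + 1) := Nat.mul_pos (Nat.mul_pos (by omega) (by omega)) (by omega)
    have h6 := Nat.le_of_mul_le_mul_right h5 hj0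
    nlinarith
  · have hke : k = 1 := by omega
    subst hke
    rw [mul_one] at hinc
    letI := Fintype.ofFinite E
    have hL2 : (n + 1 + 1) * (n + 1 + 1) ≤ Ls.card := by
      have hcard : Fintype.card (Option E × Option E) = (n + 1 + 1) * (n + 1 + 1) := by
        rw [Fintype.card_prod, Fintype.card_option, hN', Nat.card_eq_fintype_card]
      rw [← hcard, ← Finset.card_univ]
      let mv : Option E → (V ≃ₗ[F] V) := fun o => o.elim 1 fun z => f.rt S z * g₁
      have hmv : ∀ o, mv o ∈ X := fun o => by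
        cases o with
        | none => exact X.one_mem
        | some z => exact X.mul_mem (f.rt_mem S hX z) hg₁
      refine Finset.card_le_card_of_injOn (fun p => (line F E (pt p.2)).map (mv p.1).toLinearMap) (fun p _ => ?_)
        (fun p _ p' _ h => ?_)
      · rw [Finset.mem_coe, Finset.mem_filter]
        exact ⟨Finset.mem_univ _, mv p.1, hmv _, pt p.2, (hpt0 _).1, (hpt0 _).2, rfl⟩
      simp only at h
      obtain ⟨h0, hh0⟩ : ∃ h0, h0 = (mv p'.1)⁻¹ * mv p.1 := ⟨_, rfl⟩
      have hmap : (line F E (pt p.2)).map h0.toLinearMap = line F E (pt p'.2) := by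
        have e1 : h0.toLinearMap = ((mv p'.1)⁻¹ : V ≃ₗ[F] V).toLinearMap.comp (mv p.1).toLinearMap := by
          rw [hh0]; rfl
        rw [e1, Submodule.map_comp, h, ← Submodule.map_comp]
        have e2 : ((mv p'.1)⁻¹ : V ≃ₗ[F] V).toLinearMap.comp (mv p'.1).toLinearMap = LinearMap.id :=
          LinearMap.ext fun v => (mv p'.1).symm_apply_apply v
        rw [e2, Submodule.map_id]
      have hs := semi_of_lines S hX hN h3 (hh0 ▸ X.mul_mem (X.inv_mem (hmv _)) (hmv _)) (hpt0 _).1 (hpt0 _).2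
        (hpt0 _).1 (hpt0 _).2 hmap
      have h11 : p.1 = p'.1 := by
        have hrt : ∀ z : E, f.rt S z ∈ semiG F E V := fun z => mem_semiG.mpr (u_semi S _ _)
        have hsG := mem_semiG.mpr (hh0 ▸ hs)
        rcases p with ⟨_ | z, o⟩ <;> rcases p' with ⟨_ | z', o'⟩ <;> simp only [mv, Option.elim] at hsG ⊢
        · refine absurd (mem_semiG.mp ?_) hg₁s
          have := (semiG F E V).mul_mem ((semiG F E V).inv_mem (hrt z')) ((semiG F E V).inv_mem hsG)
          simpa [mul_assoc] using this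
        · refine absurd (mem_semiG.mp ?_) hg₁s
          have := (semiG F E V).mul_mem ((semiG F E V).inv_mem (hrt z)) hsG
          simpa [mul_assoc] using this
        · by_contra hzz
          have hzz' : z + -z' ≠ 0 := fun e0 => hzz (by rw [← sub_eq_zero.mp ((sub_eq_add_neg z z').trans e0)])
          refine hg₁s ?_
          have e3 : (f.rt S z' * g₁)⁻¹ * (f.rt S z * g₁) = g₁⁻¹ * f.rt S (z + -z') * g₁ := by
            have e4 : (f.rt S z')⁻¹ = f.rt S (-z') := by
              rw [inv_eq_iff_mul_eq_one, f.rt_add S, add_neg_cancel, f.rt_zero S]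
            rw [mul_inv_rev, e4, add_comm, ← f.rt_add S]
            simp only [mul_assoc]
          rw [e3] at hsG
          have hmvs := moves S hX hN (X.inv_mem hg₁) f.hp.aa (f.perp_smul S (z + -z')) (f.hp.ne S)
            (by rw [qE_smul S]; exact mul_ne_zero (mul_ne_zero hzz' hzz') (f.kappa_ne S))
            (by rw [inv_inv]; exact mem_semiG.mp hsG)
          have := (semiG F E V).inv_mem (mem_semiG.mpr hmvs)
          rw [inv_inv] at this
          exact mem_semiG.mp this
      rw [hh0, h11, inv_mul_cancel] at hmap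
      change (line F E (pt p.2)).map LinearMap.id = _ at hmap
      rw [Submodule.map_id] at hmap
      obtain ⟨s, hs'⟩ := mem_line.mp (hmap.ge (mem_line.mpr ⟨1, one_smul E _⟩))
      exact Prod.ext h11 (hpt _ _ s hs')
    have h1 : (n + 1 + 1) * (n + 1 + 1) * n * (p + 1) ≤ (n + 1) * (n + 1) * (n + 1) := by
      calc _ ≤ Ls.card * n * (p + 1) := Nat.mul_le_mul_right _ (Nat.mul_le_mul_right _ hL2)
        _ ≤ M * (p + 1) := Nat.mul_le_mul_right _ (by omega)
        _ = _ := by rw [← hN3]; ring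
    nlinarith

end Count

end Cfsg.Agent.Classical.FieldExt.Orth
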