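/-
Overgroups of an orthogonal group over an extension field of prime degree (elementary proof).
-/
import Cfsg.Agent.Lib.Classical.FieldExt.Orth.Orbit
import Cfsg.Agent.Lib.Classical.FieldExt.Orth.Big
import Cfsg.Agent.Lib.Classical.FieldExt.Orth.Full
import Cfsg.Agent.Lib.Classical.FieldExt.Orth.ThreeCount

set_option autoImplicit false
set_option linter.style.haveILetI false
set_option linter.unusedSectionVars false

namespace Cfsg.Agent.Classical.FieldExt.Orth

open Module QuadraticMap
open Cfsg.Agent.Classical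

variable {F E V : Type*} [Field F] [Field E] [Algebra F E] [Finite E] [AddCommGroup V] [Module F V] [Module E V]
  [IsScalarTower F E V] [Finite V]
variable {B : V →ₗ[E] V →ₗ[E] E} {Q : QuadraticForm F V} {r : ℕ} {X : Subgroup (V ≃ₗ[F] V)}

/-- An overgroup of the semilinear elements is semilinear or everything. -/
theorem overgroup (S : Setup B Q r) (hX : Over E Q X) :
    (∀ g ∈ X, SemiE E g) ∨ X = Om Q := by
  classical
  have h34 : 4 ≤ finrank E V ∨ (finrank E V = 3 ∧ Odd r) := by
    rcases Nat.lt_or_ge (finrank E V) 4 with h | h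
    · have h' : finrank E V = 3 := by have := S.dim; omega
      refine Or.inr ⟨h', S.prime.odd_of_ne_two fun e => ?_⟩
      rcases S.big with hb | ⟨hk, -⟩ | ⟨-, hr⟩
      · rw [h', e] at hb; omega
      · omega
      · omega
    · exact Or.inl h
  have hT : Trans B X := h34.elim (fun h => trans_of_four S hX h) fun h => trans_of_three S hX h.1 h.2
  by_cases hN : NoFix B X
  · exact Or.inl (h34.elim (fun h => semi_all S hX h hN) fun h => semi_all_three S hX hN h.1 h.2)
  refine Or.inr ?_
  obtain ⟨g, hg, a, ha, haa, hfix, hne⟩ :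
      ∃ g ∈ X, ∃ a, a ≠ 0 ∧ B a a = 0 ∧ (∀ x, B a x = 0 → g x = x) ∧ g ≠ 1 := by
    simp only [NoFix, not_forall] at hN
    obtain ⟨g, hg, a, ha, haa, hfix, hne⟩ := hN
    exact ⟨g, hg, a, ha, haa, hfix, hne⟩
  obtain ⟨b, hp⟩ := exists_partner S ha haa
  obtain ⟨c, hc, hgc⟩ := fix_perp S (mem_iso S hX hg) hp hfix
  have hc0 : c ≠ 0 := fun e => hne (LinearEquiv.ext fun x => by rw [hgc, e]; simp)
  have hcL := Lam_of_zx S hX hT ha haa hc ⟨g, hg, hgc⟩
  by_cases h3 : r ≤ 3
  · obtain ⟨α, β, hcr, hα, hind⟩ := exists_root_of_small S.deg h3 hc hc0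
    obtain ⟨a', ha'⟩ : ∃ a', a' = α⁻¹ • a := ⟨_, rfl⟩
    have haa' : B a' a' = 0 := by rw [ha', map_smul, map_smul, LinearMap.smul_apply, haa, smul_zero, smul_zero]
    obtain ⟨k, hk, hk'⟩ := hcL.2 a' (ha' ▸ smul_ne_zero (inv_ne_zero hα) ha) haa'
    have hαa : α • a' = a := by rw [ha', smul_smul, mul_inv_cancel₀ hα, one_smul]
    refine full S hX hT ha haa (θ := β * α⁻¹) (fun t e => hind t ?_) ⟨k, hk, fun x => ?_⟩
    · rw [Algebra.smul_def, e, inv_mul_cancel_right₀ hα]
    · have hβ : (β * α⁻¹) • a = β • a' := by rw [ha', mul_smul]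
      rw [hβ, ← hαa, hk', hcr, ORefl.siegelMap_apply, q_line S haa', zero_mul, add_zero, rootMap_apply, S.polarQ,
        S.polarQ, sub_smul, smul_assoc, smul_assoc]
      simp only [map_smul, LinearMap.smul_apply, smul_eq_mul]
      abel
  · have h5 : 5 ≤ r := by
      by_contra hcon
      exact absurd (show r = 4 by omega ▸ S.prime) (by norm_num)
    obtain ⟨a', θ, ha', haa', hθ, hin⟩ := exists_root_big S hX hT h5 hcL hc0
    exact full S hX hT ha' haa' hθ hin

end Cfsg.Agent.Classical.FieldExt.Orth
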