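/-
Normalisers of self-adjoint extension fields of prime degree are maximal in orthogonal groups.
-/
import Cfsg.Agent.Lib.Classical.FieldExt.Orth.Main
import Cfsg.Agent.Lib.Classical.FieldSubalgebra
import Cfsg.Agent.Lib.Classical.OrthNotMax

set_option autoImplicit false
set_option linter.style.haveILetI false
set_option linter.unusedSectionVars false

namespace Cfsg.Agent.Classical.FieldExt.Orth

open Matrix Cfsg Cfsg.Geo
open Cfsg.Agent.Classical Cfsg.Agent.Classical.FieldExt

theorem extension_normalizer_maximal' {F : Type*} [Field F] [Fintype F] {ι : Type} [Fintype ι] [DecidableEq ι]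
    (Q : (ι → F) → F) (hQ : IsNondegenerateQuadraticForm Q) (h2 : (2 : F) ≠ 0) (r : ℕ) (hr : r.Prime)
    (hdim : ∀ k, r * k = Fintype.card ι → 3 ≤ k ∧ (k < (k - 2) * r ∨ (k = 4 ∧ r = 2 ∧ ¬ IsPlusTypeOn Q ⊤) ∨
      (k = 3 ∧ r = 3))) (K : Subalgebra F (Matrix ι ι F))
    (hK : IsFieldSubalgebra r K) (hsa : IsSelfAdjointFor (QuadraticMap.polar Q) K) :
    IsMaximalIn (omegaGL Q) (subalgebraNormalizer K ⊓ omegaGL Q) := by
  classical
  obtain ⟨Q', rfl, hpnd⟩ := ONotMax.exists_qform hQ
  haveI : Finite K := Finite.of_injective _ Subtype.val_injective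
  letI : CommRing K := { K.toRing with mul_comm := fun a b => Subtype.ext (hK.comm a a.2 b b.2) }
  haveI : Nonempty ι := by
    refine Fintype.card_pos_iff.mp (Nat.pos_of_ne_zero fun h => ?_)
    have := (hdim 0 (by rw [mul_zero, h])).1
    omega
  haveI : Nontrivial K := ⟨⟨0, 1, fun e => zero_ne_one (congrArg Subtype.val e)⟩⟩
  haveI : NoZeroDivisors K := ⟨fun {a b} hab =>
    (fieldSubalgebra_mul_eq_zero hK a.2 (congrArg Subtype.val hab)).imp (fun h => Subtype.ext h) fun h => Subtype.ext h⟩
  haveI : IsDomain K := NoZeroDivisors.to_isDomain _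
  letI : Field K := (Finite.isDomain_to_isField K).toField
  letI : Module K (ι → F) :=
    { smul := fun k v => (k : Matrix ι ι F) *ᵥ v
      one_smul := fun v => Matrix.one_mulVec v
      mul_smul := fun a b v => (Matrix.mulVec_mulVec v _ _).symm
      smul_zero := fun a => Matrix.mulVec_zero _
      smul_add := fun a u v => Matrix.mulVec_add _ u v
      add_smul := fun a b v => Matrix.add_mulVec _ _ v
      zero_smul := fun v => Matrix.zero_mulVec v }
  have hsmul : ∀ (k : K) (v : ι → F), k • v = (k : Matrix ι ι F) *ᵥ v := fun _ _ => rfl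
  haveI : IsScalarTower F K (ι → F) :=
    ⟨fun a k v => Matrix.smul_mulVec a (k : Matrix ι ι F) v⟩
  haveI : Module.Finite K (ι → F) := Module.Finite.of_finite
  haveI := finiteDimensional (F := F) (E := K)
  have hrk : Module.finrank F K = r := hK.finrank_eq
  have hnd := traceForm_nondegenerate F K
  have hpb := hQ.polar_bilinear
  -- the form over the big field
  have hex : ∀ u v : ι → F, ∃ b : K, ∀ c : K, Algebra.trace F K (c * b) = QuadraticMap.polar Q' (c • u) v := by
    intro u v
    let l : Module.Dual F K :=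
      { toFun := fun c => QuadraticMap.polar Q' (c • u) v
        map_add' := fun a b => by rw [add_smul, QuadraticMap.polar_add_left]
        map_smul' := fun a b => by rw [RingHom.id_apply, smul_assoc, QuadraticMap.polar_smul_left] }
    refine ⟨(LinearMap.BilinForm.toDual (Algebra.traceForm F K) hnd).symm l, fun c => ?_⟩
    have h := LinearMap.BilinForm.apply_toDual_symm_apply (hB := hnd) l c
    rw [Algebra.traceForm_apply, mul_comm] at h
    exact h
  choose b hb using hex
  have huniq : ∀ x y : K, (∀ c, Algebra.trace F K (c * x) = Algebra.trace F K (c * y)) → x = y := fun x y h => by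
    refine sub_eq_zero.mp (hnd.2 _ fun c => ?_)
    rw [Algebra.traceForm_apply, mul_sub, map_sub, h, sub_self]
  have hsa' : ∀ (k : K) (u v : ι → F), QuadraticMap.polar Q' (k • u) v = QuadraticMap.polar Q' u (k • v) :=
    fun k u v => hsa k k.2 u v
  let B : (ι → F) →ₗ[K] (ι → F) →ₗ[K] K := LinearMap.mk₂ K b
    (fun u u' v => huniq _ _ fun c => by
      rw [mul_add, map_add, hb, hb, hb, smul_add, QuadraticMap.polar_add_left])
    (fun d u v => huniq _ _ fun c => by rw [hb, smul_smul, smul_eq_mul, ← mul_assoc, hb])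
    (fun u v v' => huniq _ _ fun c => by rw [mul_add, map_add, hb, hb, hb, QuadraticMap.polar_add_right])
    (fun d u v => huniq _ _ fun c => by
      rw [hb, ← hsa' d, smul_smul, smul_eq_mul, ← mul_assoc, hb, mul_comm d c])
  have hBb : ∀ u v, B u v = b u v := fun u v => rfl
  have htr : ∀ u v, QuadraticMap.polar Q' u v = Algebra.trace F K (B u v) := fun u v => by
    have h := hb u v 1
    rw [one_mul, one_smul] at h
    exact h.symm
  have hn : r * Module.finrank K (ι → F) = Fintype.card ι := by
    rw [← hrk, Module.finrank_mul_finrank, Module.finrank_fintype_fun_eq_card]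
  obtain ⟨h3, hbig₀⟩ := hdim _ hn
  have hbig : Module.finrank K (ι → F) < (Module.finrank K (ι → F) - 2) * r ∨
      (Module.finrank K (ι → F) = 4 ∧ r = 2 ∧
        ∀ a c : ι → F, a ≠ 0 → B a a = 0 → B c c = 0 → B a c = 0 → ∃ l : K, c = l • a) ∨
      (Module.finrank K (ι → F) = 3 ∧ r = 3) := by
    refine hbig₀.imp id (Or.imp_left fun ⟨hk4, hr2, hnp⟩ => ⟨hk4, hr2, fun a c ha0 haa hcc hac => ?_⟩)
    by_contra hcon
    push Not at hcon
    have hca : B c a = 0 := huniq _ _ fun d => by
      rw [hBb, hb, hsa', QuadraticMap.polar_comm, ← hb, ← hBb, hac]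
    have hW : ∀ x ∈ Submodule.span K ({a, c} : Set (ι → F)), Q' x = 0 := fun x hx => by
      obtain ⟨s, t, rfl⟩ := Submodule.mem_span_pair.mp hx
      have h0 : QuadraticMap.polar Q' (s • a + t • c) (s • a + t • c) = 0 := by
        rw [htr]
        simp [haa, hcc, hac, hca]
      rw [QuadraticMap.polar_self, two_smul, ← two_mul, mul_eq_zero] at h0
      exact h0.resolve_left h2
    have hli : LinearIndependent K ![a, c] :=
      (LinearIndependent.pair_iff' ha0).mpr fun l e => hcon l e.symm
    have hd : Module.finrank K (Submodule.span K ({a, c} : Set (ι → F))) = 2 := by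
      have := finrank_span_eq_card hli
      rwa [Matrix.range_cons_cons_empty, Fintype.card_fin] at this
    refine hnp ⟨(Submodule.span K ({a, c} : Set (ι → F))).restrictScalars F, le_top, hW, ?_⟩
    have h4 : Module.finrank F ((Submodule.span K ({a, c} : Set (ι → F))).restrictScalars F) = r * 2 := by
      rw [← hrk, ← hd, Module.finrank_mul_finrank F K]
      rfl
    rw [h4, finrank_top, Module.finrank_fintype_fun_eq_card, ← hn, hk4, hr2]
  have S : Setup B Q' r := by
    refine ⟨fun u v => huniq _ _ fun c => ?_, fun x hx => ?_, h2, htr, hrk, hr, by omega, hbig⟩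
    · rw [hBb, hBb, hb, hb, hsa', QuadraticMap.polar_comm]
    · exact hpnd x fun y => by rw [htr, hx, map_zero]
  let Φ : ((ι → F) ≃ₗ[F] (ι → F)) ≃* GL ι F :=
    (LinearMap.GeneralLinearGroup.generalLinearEquiv F (ι → F)).symm.trans
      (Units.mapEquiv LinearMap.toMatrixAlgEquiv'.toMulEquiv)
  have hact : ∀ (g : (ι → F) ≃ₗ[F] (ι → F)) (v : ι → F), (Φ g : Matrix ι ι F) *ᵥ v = g v := fun g v => by
    change LinearMap.toMatrix' g.toLinearMap *ᵥ v = _
    rw [LinearMap.toMatrix'_mulVec]
    rfl
  -- the derived groups correspond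
  have hom : ∀ g, Φ g ∈ omegaGL ⇑Q' ↔ g ∈ Om Q' := by
    have e : (omegaGL ⇑Q').comap Φ.toMonoidHom = Om Q' := by
      have e1 : Omega F ⇑Q' = (commutator ↥(ORefl.Iso Q')).map (ORefl.toMat Q').toMonoidHom := by
        rw [Omega, commutator_def, commutator_def, Subgroup.map_commutator,
          Subgroup.map_top_of_surjective _ (ORefl.toMat Q').surjective]
      ext g
      rw [Subgroup.mem_comap, omegaGL, e1, Subgroup.map_map, Om, Subgroup.mem_map, Subgroup.mem_map]
      refine exists_congr fun y => and_congr_right fun _ => ?_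
      have e2 : ((isometryGroup F ⇑Q').subtype.comp (ORefl.toMat Q').toMonoidHom) y = Φ y.1 :=
        Units.ext (Matrix.ext_of_mulVec_single fun i => by
          rw [hact]
          exact ORefl.toMat_apply y _)
      rw [e2]
      exact Φ.injective.eq_iff
    intro g
    rw [← e]
    rfl
  have hsemi : ∀ g, SemiE K g ↔ Φ g ∈ subalgebraNormalizer K := by
    intro g
    constructor
    · rintro ⟨σ, hσ⟩
      have hconj : ∀ k : K, (Φ g : Matrix ι ι F) * (k : Matrix ι ι F) *
          (((Φ g)⁻¹ : GL ι F) : Matrix ι ι F) = (σ k : Matrix ι ι F) := fun k => by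
        refine Matrix.ext_of_mulVec_single fun i => ?_
        rw [← Matrix.mulVec_mulVec, ← Matrix.mulVec_mulVec, hact, ← hsmul, hσ, ← hact, gl_mulVec_inv_cancel, hsmul]
      have hinj : Function.Injective σ := fun a b h => by
        obtain ⟨v, hv⟩ := exists_ne (0 : ι → F)
        exact smul_left_injective K hv (g.injective (show g (a • v) = g (b • v) by rw [hσ, hσ, h]))
      intro k
      refine ⟨fun hk => by rw [hconj ⟨k, hk⟩]; exact (σ ⟨k, hk⟩).2, fun hk => ?_⟩
      obtain ⟨k₀, hk₀⟩ := Finite.surjective_of_injective hinj ⟨_, hk⟩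
      have h2 := congrArg Subtype.val hk₀
      rw [← hconj k₀] at h2
      have h3 : (k₀ : Matrix ι ι F) = k :=
        (Φ g).isUnit.mul_left_cancel ((((Φ g)⁻¹).isUnit).mul_right_cancel h2)
      rw [← h3]
      exact k₀.2
    · intro hg
      refine ⟨fun c => ⟨_, (hg c).mp c.2⟩, fun c v => ?_⟩
      rw [hsmul, hsmul, ← hact, ← hact, Matrix.mulVec_mulVec, Matrix.mulVec_mulVec,
        Matrix.mul_assoc _ _ (Φ g : Matrix ι ι F), ← Units.val_mul, inv_mul_cancel, Units.val_one, Matrix.mul_one]
  refine ⟨lt_of_le_of_ne inf_le_right fun h => ?_, fun M hM hMS => ?_⟩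
  · -- a root element inside a line is not semilinear
    obtain ⟨a, ha, haa⟩ := exists_singular_ne S
    obtain ⟨d, hp⟩ := exists_partner S ha haa
    obtain ⟨θ, hθ⟩ := exists_not_base (F := F) (E := K) hrk hr
    have hQa := q_zero S haa
    have hv : QuadraticMap.polar Q' a (θ • a) = 0 := polar_perp S (by rw [map_smul, haa, smul_zero])
    have hom' := (hom _).mpr (siegel_mem_Om S hQa hv)
    have hnorm : Φ (ORefl.siegel hQa hv) ∈ subalgebraNormalizer K :=
      (Subgroup.mem_inf.mp (h.symm ▸ hom' : Φ (ORefl.siegel hQa hv) ∈ subalgebraNormalizer K ⊓ omegaGL ⇑Q')).1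
    obtain ⟨σ, hσ⟩ := exists_alg S ((hsemi _).mpr hnorm)
    have hgs : ∀ l : K, ORefl.siegel hQa hv (l • d) =
        l • d + (algebraMap F K (Algebra.trace F K l) * θ - algebraMap F K (Algebra.trace F K (θ * l))) • a := fun l => by
      rw [ORefl.siegel_apply, q_line S haa, zero_mul, add_zero, polar_smul S, hp.ab, mul_one,
        show QuadraticMap.polar Q' a (l • d) = Algebra.trace F K l by
          simp only [S.polarQ, map_smul, hp.ab, smul_eq_mul, mul_one],
        ← IsScalarTower.algebraMap_smul K (Algebra.trace F K l),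
        ← IsScalarTower.algebraMap_smul K (Algebra.trace F K (θ * l)), smul_smul, sub_smul, add_sub_assoc]
    obtain ⟨f, hf⟩ : ∃ f : K → K, ∀ l, f l =
        algebraMap F K (Algebra.trace F K l) * θ - algebraMap F K (Algebra.trace F K (θ * l)) := ⟨_, fun l => rfl⟩
    simp only [← hf] at hgs
    have hd := hgs 1
    rw [one_smul] at hd
    have hlin : ∀ l, f l = l * f 1 := by
      intro l
      have e := hσ l d
      rw [hgs, hd, smul_add, smul_smul] at e
      have eA := congrArg (B a) e
      simp only [map_add, map_smul, hp.ab, haa, smul_eq_mul, mul_one, mul_zero, add_zero] at eA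
      have eB := congrArg (B d) e
      simp only [map_add, map_smul, hp.bb, show B d a = 1 by rw [S.symm, hp.ab], smul_eq_mul, mul_one, mul_zero,
        zero_add] at eB
      rw [eB, ← eA]
    have htr0 : ∀ l, Algebra.trace F K (f l * l) = 0 := fun l => by
      rw [hf, sub_mul, mul_assoc, map_sub, ← Algebra.smul_def, ← Algebra.smul_def, map_smul, map_smul, smul_eq_mul,
        smul_eq_mul, mul_comm (Algebra.trace F K l), sub_self]
    have hf1 : f 1 = 0 := eq_zero_of_tr S fun x => by
      have h1 := htr0 (x + 1)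
      have h2' := htr0 x
      have h3 := htr0 1
      rw [hlin] at h1 h2'
      rw [mul_one] at h3
      rw [show (x + 1) * f 1 * (x + 1) = x * f 1 * x + f 1 + (x * f 1 + x * f 1) by ring, map_add, map_add, map_add,
        h2', h3, zero_add, zero_add, ← two_mul] at h1
      exact (mul_eq_zero.mp h1).resolve_left h2
    obtain ⟨l, hl⟩ := trace_surj S (1 : F)
    have h0 := hlin l
    rw [hf1, mul_zero, hf, hl, map_one, one_mul, sub_eq_zero] at h0
    exact hθ _ h0.symm
  let X := M.comap Φ.toMonoidHom
  have hX : Over K Q' X := ⟨fun g hg hgO => hM ⟨(hsemi g).mp hg, (hom g).mpr hgO⟩, fun g hg => (hom g).mp (hMS hg)⟩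
  rcases overgroup S hX with h | h
  · refine Or.inl (le_antisymm (fun x hx => ?_) hM)
    obtain ⟨g, rfl⟩ := Φ.surjective x
    exact ⟨(hsemi g).mp (h g hx), hMS hx⟩
  · refine Or.inr (le_antisymm hMS fun x hx => ?_)
    obtain ⟨g, rfl⟩ := Φ.surjective x
    have : g ∈ X := h ▸ (hom g).mp hx
    exact this

/-- The normaliser of a self-adjoint extension field of large enough degree is maximal. -/
theorem extension_normalizer_maximal {F : Type*} [Field F] [Fintype F] {ι : Type} [Fintype ι] [DecidableEq ι]
    (Q : (ι → F) → F) (hQ : IsNondegenerateQuadraticForm Q) (h2 : (2 : F) ≠ 0) (r : ℕ) (hr : r.Prime)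
    (hdim : ∀ k, r * k = Fintype.card ι → 3 ≤ k ∧ (k < (k - 2) * r ∨ (k = 4 ∧ r = 2 ∧ ¬ IsPlusTypeOn Q ⊤)))
    (K : Subalgebra F (Matrix ι ι F)) (hK : IsFieldSubalgebra r K) (hsa : IsSelfAdjointFor (QuadraticMap.polar Q) K) :
    IsMaximalIn (omegaGL Q) (subalgebraNormalizer K ⊓ omegaGL Q) :=
  extension_normalizer_maximal' Q hQ h2 r hr (fun k hk => ⟨(hdim k hk).1, (hdim k hk).2.imp_right Or.inl⟩) K hK hsa

end Cfsg.Agent.Classical.FieldExt.Orth
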